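import Groth.Agent.FFWr.Cotrace

/-! The divisor of `ds` is canonical. -/

set_option autoImplicit false
set_option linter.style.haveILetI false
set_option linter.unusedSectionVars false

open FunFld WithZero IntermediateField
open Groth.Agent.FF

namespace Groth.Agent.FFWr

variable {k K : Type*} [Field k] [IsAlgClosed k] [Field K] [Algebra k K] (hK : IsFunctionField k K)
include hK

omit [IsAlgClosed k] in
lemma isFunctionField_adjoin {s : K} (hs : Transcendental k s) : IsFunctionField k k⟮s⟯ := by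
  refine ⟨isFF_adjoin hs, fun y hy => ?_⟩
  obtain ⟨c, hc⟩ := hK.2 (y : K) (hy.algHom k⟮s⟯.val)
  exact ⟨c, Subtype.ext hc⟩

omit [IsAlgClosed k] hK in
lemma adjoin_gen_eq_top (s : K) : k⟮AdjoinSimple.gen k s⟯ = (⊤ : IntermediateField k k⟮s⟯) := by
  apply IntermediateField.lift_injective k⟮s⟯
  rw [IntermediateField.lift_adjoin_simple, IntermediateField.lift_top, AdjoinSimple.coe_gen]

omit [IsAlgClosed k] in
/-- in genus zero every divisor of degree `-2` is canonical -/
lemma isCanonical_of_deg (hg : genus k K = 0) {C₁ : Divisor k K} (h : C₁.deg = -2) : IsCanonical k K C₁ := by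
  classical
  obtain ⟨C, hC⟩ := exists_canonical hK
  have hCd := deg_canonical hK hC
  have he := ell_eq_of_deg_ge hK (D := C₁ - C) (by rw [hg, deg_sub, h, hCd, hg]; norm_num)
  rw [deg_sub, h, hCd, hg] at he
  obtain ⟨z, hz, hnn⟩ := exists_nonneg_equiv hK (D := C₁ - C) (by norm_num at he; omega)
  obtain ⟨ω, hω0, hω⟩ := hC
  have hz0 : C₁ - C + div k z = 0 := by
    refine le_antisymm (fun P => ?_) hnn
    by_contra hlt
    rw [Finsupp.zero_apply, not_le] at hlt
    have h2 : Finsupp.single P 1 ≤ C₁ - C + div k z := fun Q => by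
      rw [Finsupp.single_apply]
      split_ifs with e
      · subst e; omega
      · exact hnn Q
    have h3 := deg_mono h2
    rw [deg_single, deg_add, deg_sub, deg_div hK, h, hCd, hg] at h3
    have := deg_pos hK.1 P
    push_cast at h3
    omega
  refine ⟨mulW z⁻¹ (mul_mem_adele hK.1 z⁻¹) ω, ?_, ?_⟩
  · intro h0
    exact inv_ne_zero hz (mulWHom_injective hK hω0 (show mulWHom hK ω z⁻¹ = mulWHom hK ω 0 by
      rw [map_zero]; exact h0))
  · have := isDivOf_mulW hK (inv_ne_zero hz) (mul_mem_adele hK.1 z⁻¹) hω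
    rwa [show C + div k z⁻¹ = C₁ by
      rw [div_inv hK.1]; ext Q
      have := congrArg (fun D : Divisor k K => D Q) hz0
      simp at this ⊢; omega] at this

/-- the divisor of `ds` is canonical -/
theorem isCanonical_divDiff {s : K} {H : K →ₐ[k] PowerSeries K} (hH : LocRes.IsHasseFamily s H)
    {Φ : Place k K → (K →ₐ[k] LaurentSeries k)} (hΦ : ∀ P : Place k K, LocRes.IsExpansionAt P.1 (Φ P)) :
    IsCanonical k K (divDiff Φ 1 s) := by
  classical
  have hs := isSepVar_of_hasse hK hH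
  haveI := hs.finite
  haveI := hs.separable
  have hK0 := isFunctionField_adjoin hK hs.transcendental
  have htop := adjoin_gen_eq_top (k := k) s
  have hg0 : genus k k⟮s⟯ = 0 := genus_eq_zero_of_rational hK0 htop
  set g : k⟮s⟯ := AdjoinSimple.gen k s with hgdef
  have hgs : (g : K) = s := AdjoinSimple.coe_gen k s
  have hgt : Transcendental k g := fun h => hs.transcendental (by rw [← hgs]; exact h.algHom k⟮s⟯.val)
  have hg0' : g ≠ 0 := fun h => hgt (h ▸ isAlgebraic_zero)
  let C₁ : Divisor k k⟮s⟯ := (-2 : ℤ) • zeroDiv g⁻¹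
  have hgit : Transcendental k g⁻¹ := fun h => hgt (by simpa using h.inv)
  have hC₁deg : C₁.deg = -2 := by
    rw [deg_zsmul, deg_zeroDiv hK0.1 hgit]
    have htop' : k⟮g⁻¹⟯ = (⊤ : IntermediateField k k⟮s⟯) := by
      refine eq_top_iff.2 ?_
      rw [← htop, adjoin_simple_le_iff]
      have := inv_mem (mem_adjoin_simple_self k g⁻¹)
      simpa using this
    rw [htop', IntermediateField.finrank_top]
    norm_num
  have hcan := isCanonical_of_deg hK0 hg0 hC₁deg
  suffices hD : ∀ P : Place k k⟮s⟯, ∃ t : k⟮s⟯, P.1 t = exp (-1 : ℤ) ∧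
      ∀ Q, IsOver Q P → (divDiff Φ 1 s - conorm K C₁) Q = LocRes.ordDiff (Φ Q) 1 (algebraMap k⟮s⟯ K t) by
    have := isCanonical_conorm_add hK0 hK hΦ hD hcan
    rwa [add_sub_cancel] at this
  intro P
  obtain ⟨f, hf⟩ := exists_uniformizer P
  have hf0 : f ≠ 0 := ne_zero_of_val_eq_exp P hf
  obtain ⟨p, q, hpq⟩ := (IntermediateField.mem_adjoin_simple_iff k _).1 f.2
  have hpq' : f = Polynomial.aeval g p / Polynomial.aeval g q := by
    apply Subtype.ext
    have e : ∀ r : Polynomial k, ((Polynomial.aeval g r : k⟮s⟯) : K) = Polynomial.aeval s r := fun r => by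
      exact (Polynomial.aeval_algHom_apply k⟮s⟯.val g r).symm.trans (congrArg (fun x : K => Polynomial.aeval x r) hgs)
    rw [IntermediateField.coe_div, e, e, hpq]
  have hp : Polynomial.aeval g p ≠ 0 := fun h => hf0 (by rw [hpq', h, zero_div])
  have hq : Polynomial.aeval g q ≠ 0 := fun h => hf0 (by rw [hpq', h, div_zero])
  have hp0 : p ≠ 0 := fun h => hp (by rw [h, map_zero])
  have hq0 : q ≠ 0 := fun h => hq (by rw [h, map_zero])
  have hord : P.ord f = 1 := by rw [ord_of_val_eq P hf]; norm_num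
  rw [hpq', ord_div P hp hq] at hord
  have hC₁P : C₁ P = (-2 : ℤ) * max (-(P.ord g)) 0 := by
    show ((-2 : ℤ) • zeroDiv (k := k) g⁻¹) P = _
    rw [Finsupp.smul_apply, smul_eq_mul, zeroDiv, Finsupp.sup_apply, Finsupp.zero_apply,
      div_apply hK0.1, ord_inv]
  have hQe : ∀ Q, IsOver Q P → (divDiff Φ 1 s - conorm K C₁) Q =
      LocRes.ordDiff (Φ Q) 1 s + 2 * (ramIdx Q P : ℤ) * max (-(P.ord g)) 0 := fun Q hQ => by
    rw [Finsupp.sub_apply, divDiff_apply hK hH hΦ, conorm_apply hK0.1 C₁ hQ, hC₁P]; ring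
  rcases le_or_gt (P.1 g) 1 with hgle | hggt
  · obtain ⟨a, ha⟩ := exists_residue hK0 P hgle
    have hne : g - algebraMap k k⟮s⟯ a ≠ 0 := fun h => notMem_of_transcendental hgt ⟨a, (sub_eq_zero.1 h).symm⟩
    have h1 := ord_aeval ha hgle hne hp0
    have h2 := ord_aeval ha hgle hne hq0
    rw [h1, h2, ← sub_mul] at hord
    have hu : P.ord (g - algebraMap k k⟮s⟯ a) = 1 :=
      Int.eq_one_of_mul_eq_one_left ((val_lt_one_iff P hne).1 ha).le hord
    refine ⟨g - algebraMap k k⟮s⟯ a, by rw [val_eq_exp_ord P hne, hu], fun Q hQ => ?_⟩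
    have e : algebraMap k⟮s⟯ K (g - algebraMap k k⟮s⟯ a) = s - algebraMap k K a := by
      rw [map_sub, ← IsScalarTower.algebraMap_apply]; exact congrArg (· - _) hgs
    rw [hQe Q hQ, max_eq_right (by have := (val_le_one_iff P g).1 hgle; omega), mul_zero, add_zero, e,
      ordDiff_change hK hH (isHasseFamily_sub_const hH a) (hΦ Q), hasseD_one_self hH, ord_one, zero_add]
  · have hneg : P.ord g < 0 := (one_lt_val_iff P g).1 hggt
    have hdeg : ∀ r : Polynomial k, r ≠ 0 → P.ord (Polynomial.aeval g r) = r.natDegree * P.ord g := by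
      intro r hr
      have hval : P.1 (Polynomial.aeval g r) = P.1 g ^ r.natDegree := by
        rw [Polynomial.aeval_eq_sum_range, Valuation.map_sum_eq_of_lt (v := P.1) (j := r.natDegree) (by simp) ?_,
          val_smul P (by simpa using hr), map_pow]
        intro i hi
        simp only [Finset.mem_sdiff, Finset.mem_range, Finset.mem_singleton] at hi
        rw [val_smul P (c := r.coeff r.natDegree) (by simpa using hr), map_pow]
        refine (val_smul_le P _ _).trans_lt ?_
        rw [map_pow]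
        exact pow_lt_pow_right₀ hggt (by omega)
      simp only [Place.ord, hval, log_pow]
      simp
    rw [hdeg p hp0, hdeg q hq0, ← sub_mul] at hord
    have hu : P.ord g = -1 := by
      rcases Int.eq_one_or_neg_one_of_mul_eq_one (by rwa [mul_comm] at hord) with h | h <;> omega
    refine ⟨g⁻¹, by rw [map_inv₀, val_eq_exp_ord P hg0', hu, ← exp_neg]; norm_num, fun Q hQ => ?_⟩
    obtain ⟨u, huQ⟩ := exists_uniformizer Q
    have hus := isSepVar_uniformizer hK huQ
    obtain ⟨Hu, hHu⟩ := exists_hasse hus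
    have hs0 : s ≠ 0 := fun h => hs.transcendental (h ▸ isAlgebraic_zero)
    have hd := hasseD_one_ne_zero hK hH hHu
    have hinv : LocRes.hasseD Hu 1 s⁻¹ = -(s⁻¹ ^ 2) * LocRes.hasseD Hu 1 s := by
      rw [← dD_apply hHu, ← dD_apply hHu, Derivation.leibniz_inv, smul_eq_mul]
    have hQs : Q.ord s = -(ramIdx Q P : ℤ) := by
      refine (congrArg Q.ord hgs.symm).trans ?_
      show Q.ord (algebraMap k⟮s⟯ K g) = _
      rw [IsOverWith_ord (isOverWith_ramIdx hQ), hu]; ring
    rw [hQe Q hQ, map_inv₀, show algebraMap k⟮s⟯ K g = s from hgs, ordDiff_eq (hΦ Q) huQ hus hHu,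
      ordDiff_eq (hΦ Q) huQ hus hHu, one_mul, one_mul, hinv, neg_mul,
      show -(s⁻¹ ^ 2 * LocRes.hasseD Hu 1 s) = (-1 : k) • (s⁻¹ ^ 2 * LocRes.hasseD Hu 1 s) by simp,
      ord_smul Q (by norm_num), ord_mul Q (pow_ne_zero _ (inv_ne_zero hs0)) hd, ord_pow, ord_inv, hQs,
      max_eq_left (by omega), hu]
    push_cast
    ring

/-- `deg [ds] = 2g - 2` -/
theorem deg_divDiff {s : K} {H : K →ₐ[k] PowerSeries K} (hH : LocRes.IsHasseFamily s H)
    {Φ : Place k K → (K →ₐ[k] LaurentSeries k)} (hΦ : ∀ P : Place k K, LocRes.IsExpansionAt P.1 (Φ P)) :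
    (divDiff Φ 1 s).deg = 2 * (genus k K : ℤ) - 2 :=
  deg_canonical hK (isCanonical_divDiff hK hH hΦ)

end Groth.Agent.FFWr
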