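import Groth.Agent.FFWr.Places
import Groth.Agent.FFWr.DegDiff

/-! Degree of the Weierstrass divisor, strong fixed places. -/

set_option autoImplicit false
set_option linter.style.haveILetI false
set_option linter.unusedSectionVars false

open FunFld WithZero LaurentSeries
open Groth.Agent.FF

namespace Groth.Agent.FFWr

variable {k K : Type*} [Field k] [IsAlgClosed k] [Field K] [Algebra k K] (hK : IsFunctionField k K)
include hK

theorem deg_wDiv {n : ℕ} {φ : Fin (n + 1) → K} (τ : K →ₐ[k] K)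
    {s : K} {H : K →ₐ[k] PowerSeries K} (hH : LocRes.IsHasseFamily s H)
    (J : Fin n → ℕ)
    {Φ : Place k K → (K →ₐ[k] LaurentSeries k)} (hΦ : ∀ P : Place k K, LocRes.IsExpansionAt P.1 (Φ P)) :
    (wDiv τ H Φ s φ J).deg = ((Module.finrank τ.fieldRange K : ℤ) + n) * (mapDiv k φ).deg +
        (2 * (genus k K : ℤ) - 2) * ∑ l, (J l : ℤ) := by
  rw [wDiv, deg_add, deg_add, deg_add, deg_div hK, deg_zsmul, deg_zsmul, deg_mapDiv_comp hK hK.1,
    deg_divDiff hK hH hΦ]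
  ring

lemma proportional_smul {n : ℕ} {φ : Fin (n + 1) → K} {τ : K →ₐ[k] K} {y : K} (hy : y ≠ 0)
    (hτφ : ¬ ∃ z : K, ∀ i, τ (φ i) = z * φ i) : ¬ ∃ z : K, ∀ i, τ ((y • φ) i) = z * (y • φ) i := by
  rintro ⟨z, hz⟩
  have hτy : τ y ≠ 0 := (map_ne_zero_iff τ τ.toRingHom.injective).2 hy
  refine hτφ ⟨z * y / τ y, fun i => ?_⟩
  have h := hz i
  simp only [Pi.smul_apply, smul_eq_mul, map_mul] at h
  field_simp
  linear_combination h

omit [IsAlgClosed k] hK in
lemma n_pos_of_not_proportional {n : ℕ} {φ : Fin (n + 1) → K} {τ : K →ₐ[k] K} (h0 : φ 0 ≠ 0)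
    (hτφ : ¬ ∃ z : K, ∀ i, τ (φ i) = z * φ i) : 0 < n := by
  rcases Nat.eq_zero_or_pos n with rfl | h
  · exact absurd ⟨τ (φ 0) / φ 0, fun i => by rw [show i = 0 from Fin.fin_one_eq_zero i, div_mul_cancel₀ _ h0]⟩ hτφ
  · exact h

/-- orders at a strong fixed place dominate the `τ`-orders -/
lemma orders_add_le_of_strong {P : Place k K} {τ : K →ₐ[k] K} (hP : IsStrongFixedPt τ P) {t : K}
    {e : K →ₐ[k] LaurentSeries k} (he : IsCoord P t e) {Ht : K →ₐ[k] PowerSeries K}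
    (hHt : LocRes.IsHasseFamily t Ht) {n : ℕ} (hn : 0 < n) {φ : Fin (n + 1) → K}
    (hφ : LinearIndependent k φ) (hnorm : ∀ i, P.1 (φ i) ≤ 1) (heff : (1 : K) ∈ Submodule.span k (Set.range φ))
    {J : Fin n → ℕ} (hJ : IsOrders K (hcol τ Ht φ) J) {J' : Fin n → ℕ} (hJ' : IsOrders k (ccol e φ) J') :
    ∀ l, J l + J' ⟨0, hn⟩ ≤ J' l := by
  obtain ⟨I, hI, hdet, hle⟩ := exists_binom_minor_sub (k := k) hn J' hJ'.1
  obtain ⟨-, h2⟩ := he.det_wrMat_fixed hK hHt (fixed_of_strong hP) hnorm heff hJ' I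
  have hne : (wrMat τ Ht φ I).det ≠ 0 := by
    intro h0
    have h3 := (h2 (Or.inr hP)).2 hdet
    rw [h0, map_zero] at h3
    exact exp_ne_zero h3.symm
  intro l
  have := orders_le_of_det τ Ht hφ hJ hI hne l
  have := hle l
  omega

lemma n_le_wDiv_of_strong {P : Place k K} {τ : K →ₐ[k] K} (hP : IsStrongFixedPt τ P) {n : ℕ} (hn : 0 < n)
    {φ : Fin (n + 1) → K} (hφ : LinearIndependent k φ) {s : K} {H : K →ₐ[k] PowerSeries K}
    (hH : LocRes.IsHasseFamily s H) {J : Fin n → ℕ} (hJ : IsOrders K (hcol τ H φ) J)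
    {Φ : Place k K → (K →ₐ[k] LaurentSeries k)} (hΦ : ∀ P : Place k K, LocRes.IsExpansionAt P.1 (Φ P)) :
    (n : ℤ) ≤ wDiv τ H Φ s φ J P := by
  obtain ⟨t, ht⟩ := exists_uniformizer P
  obtain ⟨Ht, hHt⟩ := exists_hasse (isSepVar_uniformizer hK ht)
  obtain ⟨e, he⟩ := exists_isCoord hK P ht
  obtain ⟨y, hy, hnorm, heff⟩ := exists_normalized hK hφ P
  obtain ⟨e1, hJt⟩ := wDiv_normalize hK hφ τ hH hHt hJ hy hΦ
  obtain ⟨J', hJ'⟩ := exists_orders_at hK he (li_smul hφ hy) hnorm heff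
  have h1 := (sum_sub_le_wDiv hK (fixed_of_strong hP) he hHt (li_smul hφ hy) hnorm heff hJt hJ' hΦ).1
  rw [e1] at h1
  refine le_trans ?_ h1
  calc (n : ℤ) = ∑ _l : Fin n, (1 : ℤ) := by simp
    _ ≤ _ := Finset.sum_le_sum fun l _ => by
      have := orders_add_le_of_strong hK hP he hHt hn (li_smul hφ hy) hnorm heff hJt hJ' l
      have := he.pos_of_isOrders hJ' ⟨0, hn⟩
      omega

theorem exists_expansions : ∃ Φ : Place k K → (K →ₐ[k] LaurentSeries k), ∀ P : Place k K, LocRes.IsExpansionAt P.1 (Φ P) := by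
  choose t ht using fun P : Place k K => exists_uniformizer P
  choose e he using fun P : Place k K => exists_isCoord hK P (ht P)
  exact ⟨e, fun P => (he P).isExp⟩

theorem strong_count {τ : K →ₐ[k] K} {n : ℕ} {φ : Fin (n + 1) → K} (hφ : LinearIndependent k φ)
    (hn : 0 < n) {s : K} {H : K →ₐ[k] PowerSeries K} (hH : LocRes.IsHasseFamily s H)
    {J : Fin n → ℕ} (hJ : IsOrders K (hcol τ H φ) J) :
    {P : Place k K | IsStrongFixedPt τ P}.Finite ∧
    (n : ℤ) * (Set.ncard {P : Place k K | IsStrongFixedPt τ P} : ℤ) ≤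
      ((n : ℤ) + Module.finrank τ.fieldRange K) * (mapDiv k φ).deg +
        (2 * (genus k K : ℤ) - 2) * ∑ l, (J l : ℤ) := by
  classical
  obtain ⟨Φ, hΦ⟩ := exists_expansions hK
  set W := wDiv τ H Φ s φ J with hW
  have hge : ∀ P, IsStrongFixedPt τ P → (n : ℤ) ≤ W P := fun P hP => n_le_wDiv_of_strong hK hP hn hφ hH hJ hΦ
  have hsub : {P : Place k K | IsStrongFixedPt τ P} ⊆ (W.support : Set (Place k K)) := fun P hP => by
    rw [Finset.mem_coe, Finsupp.mem_support_iff]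
    have := hge P hP
    omega
  have hfin : {P : Place k K | IsStrongFixedPt τ P}.Finite := W.support.finite_toSet.subset hsub
  refine ⟨hfin, ?_⟩
  have hnn := wDiv_nonneg hK hφ τ hH hJ hΦ
  have hdeg := deg_wDiv hK (φ := φ) τ hH J hΦ
  rw [← hW, add_comm (Module.finrank τ.fieldRange K : ℤ) (n : ℤ)] at hdeg
  rw [← hdeg, Set.ncard_eq_toFinset_card _ hfin, Divisor.deg, Finsupp.sum]
  refine le_trans ?_ (Finset.sum_le_sum_of_subset_of_nonneg (s := hfin.toFinset)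
    (fun P hP => hsub (hfin.mem_toFinset.1 hP)) fun P _ _ => mul_nonneg (hnn P) (Int.natCast_nonneg _))
  calc (n : ℤ) * (hfin.toFinset.card : ℤ) = ∑ _P ∈ hfin.toFinset, (n : ℤ) := by
        rw [Finset.sum_const, nsmul_eq_mul, mul_comm]
    _ ≤ _ := Finset.sum_le_sum fun P hP => by
        rw [deg_eq_one hK P]; simpa using hge P (hfin.mem_toFinset.1 hP)

end Groth.Agent.FFWr
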