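import Groth.Agent.FFWr.Weier

/-! Orders at a place: existence and the degree bound; classical orders. -/

set_option autoImplicit false
set_option linter.style.haveILetI false
set_option linter.unusedSectionVars false

open FunFld WithZero LaurentSeries
open Groth.Agent.FF

namespace Groth.Agent.FFWr

variable {k K : Type*} [Field k] [IsAlgClosed k] [Field K] [Algebra k K] (hK : IsFunctionField k K)
include hK

lemma exists_orders_at {P : Place k K} {t : K} {e : K →ₐ[k] LaurentSeries k} (he : IsCoord P t e)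
    {n : ℕ} {φ : Fin (n + 1) → K} (hφ : LinearIndependent k φ) (hnorm : ∀ i, P.1 (φ i) ≤ 1)
    (heff : (1 : K) ∈ Submodule.span k (Set.range φ)) : ∃ J' : Fin n → ℕ, IsOrders k (ccol e φ) J' := by
  refine exists_isOrders (Module.finrank_fin_fun k) (span_range_eq_top_of_rows _ fun a ha => ?_)
    (he.ccol_zero_ne hnorm heff)
  have hsum : ∑ r, a r • φ r = 0 := by
    apply e.toRingHom.injective
    show e _ = e 0
    rw [map_zero]
    ext m
    rw [he.coeff_sum, HahnSeries.coeff_zero]
    rcases lt_or_ge m 0 with hm | hm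
    · exact Finset.sum_eq_zero fun r _ => by rw [(he.val_le_one_iff _).1 (hnorm r) m hm, mul_zero]
    · lift m to ℕ using hm
      exact ha (m + 1)
  exact funext (Fintype.linearIndependent_iff.1 hφ a hsum)

omit [IsAlgClosed k] in
lemma div_eq (x : K) (P : Place k K) : div k x P = P.ord x := by
  unfold FunFld.div
  rw [dif_pos (finite_support_ord hK.1 _)]
  rfl

omit [IsAlgClosed k] in
lemma mapDiv_smul {n : ℕ} {φ : Fin (n + 1) → K} (hφ : LinearIndependent k φ) {y : K} (hy : y ≠ 0) :
    mapDiv k (y • φ) = mapDiv k φ - div k y := by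
  ext P
  rw [Finsupp.sub_apply, mapDiv_apply hK.1, mapDiv_apply hK.1, minOrd_smul hφ.ne_zero hy, div_eq hK]
  ring

omit [IsAlgClosed k] in
lemma deg_mapDiv_smul {n : ℕ} {φ : Fin (n + 1) → K} (hφ : LinearIndependent k φ) {y : K} (hy : y ≠ 0) :
    (mapDiv k (y • φ)).deg = (mapDiv k φ).deg := by
  rw [mapDiv_smul hK hφ hy, deg_sub, deg_div hK, sub_zero]

/-- an order at a place is at most the degree -/
lemma order_le_deg {P : Place k K} {n : ℕ} {φ : Fin (n + 1) → K} (hφ : LinearIndependent k φ)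
    (hnorm : ∀ i, P.1 (φ i) ≤ 1) (heff : (1 : K) ∈ Submodule.span k (Set.range φ)) {f : K} {j : ℕ}
    (hf : f ∈ Submodule.span k (Set.range φ)) (hv : P.1 f = exp (-(j : ℤ))) :
    (j : ℤ) ≤ (mapDiv k φ).deg := by
  classical
  have hf0 : f ≠ 0 := ne_zero_of_val_eq_exp P hv
  obtain ⟨a, rfl⟩ := (Submodule.mem_span_range_iff_exists_fun k).1 hf
  set x := ∑ i, a i • φ i with hx
  have hle : Finsupp.single P (j : ℤ) ≤ div k x + mapDiv k φ := by
    intro Q
    rw [Finsupp.add_apply, div_eq hK, mapDiv_apply hK.1, Finsupp.single_apply]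
    have h1 := val_sum_smul_le hφ.ne_zero a Q
    rw [← hx, val_le_exp_iff Q hf0, neg_neg] at h1
    split_ifs with e
    · subst e
      rw [minOrd_eq_zero_of_normalized hφ.ne_zero hnorm heff, ord_of_val_eq P hv]
      simp
    · omega
  have h2 := deg_mono hle
  rw [deg_single, deg_eq_one hK P, deg_add, deg_div hK, zero_add] at h2
  simpa using h2

lemma orders_at_le_deg {P : Place k K} {t : K} {e : K →ₐ[k] LaurentSeries k} (he : IsCoord P t e)
    {n : ℕ} {φ : Fin (n + 1) → K} (hφ : LinearIndependent k φ) (hnorm : ∀ i, P.1 (φ i) ≤ 1)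
    (heff : (1 : K) ∈ Submodule.span k (Set.range φ)) {J' : Fin n → ℕ} (hJ' : IsOrders k (ccol e φ) J')
    (l : Fin n) : (J' l : ℤ) ≤ (mapDiv k φ).deg := by
  obtain ⟨f, hf, hv⟩ := (he.isJump_ccol_iff hnorm (he.pos_of_isOrders hJ' l)).1 ((hJ'.2 _).1 ⟨l, rfl⟩)
  exact order_le_deg hK hφ hnorm heff hf hv

omit [IsAlgClosed k] in
lemma deg_mapDiv_nonneg {n : ℕ} {φ : Fin (n + 1) → K} (hφ : LinearIndependent k φ) :
    0 ≤ (mapDiv k φ).deg := by
  rw [← deg_mapDiv_smul hK hφ (inv_ne_zero (hφ.ne_zero 0))]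
  refine deg_nonneg fun Q => ?_
  rw [Finsupp.zero_apply, mapDiv_apply hK.1, neg_nonneg]
  refine (minOrd_le _ Q 0).trans ?_
  rw [Pi.smul_apply, smul_eq_mul, inv_mul_cancel₀ (hφ.ne_zero 0), ord_one]

omit [IsAlgClosed k] hK in
lemma le_of_strictMono_fin {n : ℕ} {J : Fin n → ℕ} (hJ : StrictMono J) (b : ℕ) (hb : ∀ l, b ≤ J l)
    (l : Fin n) : (l : ℕ) + b ≤ J l := by
  obtain ⟨m, hm⟩ := l
  induction m with
  | zero => simpa using hb _
  | succ m ih =>
    have h1 := hJ (show (⟨m, Nat.lt_of_succ_lt hm⟩ : Fin n) < ⟨m + 1, hm⟩ from Nat.lt_succ_self m)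
    have h2 := ih (Nat.lt_of_succ_lt hm)
    simp only at h1 h2 ⊢
    omega

/-- orders are classical when the characteristic is `0` or exceeds the degree -/
lemma classical_orders {n : ℕ} {φ : Fin (n + 1) → K} (hφ : LinearIndependent k φ)
    (hchar : ringChar k = 0 ∨ (mapDiv k φ).deg < ringChar k)
    (τ : K →ₐ[k] K) {s : K} {H : K →ₐ[k] PowerSeries K} (hH : LocRes.IsHasseFamily s H) :
    (τ = AlgHom.id k K → IsOrders K (hcol τ H φ) (fun l : Fin n => (l : ℕ) + 1)) ∧
    ((∃ P : Place k K, IsStrongFixedPt τ P) → IsOrders K (hcol τ H φ) (fun l : Fin n => (l : ℕ))) := by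
  classical
  obtain ⟨P0⟩ := nonempty_place hK.1
  have key : ∀ (P : Place k K) (I : Fin n → ℕ) (b : ℕ), StrictMono I → (∀ l, I l = (l : ℕ) + b) →
      IsFixedPt τ P → (((∀ l, 0 < I l) ∨ IsStrongFixedPt τ P)) →
      (∀ (J : Fin n → ℕ), IsOrders K (hcol τ H φ) J → ∀ l, b ≤ J l) →
      (∀ J' : Fin n → ℕ, StrictMono J' → (∀ l, 0 < J' l) → (∀ l, (J' l : ℤ) ≤ (mapDiv k φ).deg) →
        (binomMat k J' I).det ≠ 0) →
      IsOrders K (hcol τ H φ) I := by
    intro P I b hImono hIeq hfix hcase hb hbin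
    obtain ⟨t, ht⟩ := exists_uniformizer P
    obtain ⟨Ht, hHt⟩ := exists_hasse (isSepVar_uniformizer hK ht)
    obtain ⟨e, he⟩ := exists_isCoord hK P ht
    obtain ⟨y, hy, hnorm, heff⟩ := exists_normalized hK hφ P
    have hli := li_smul hφ hy
    obtain ⟨J', hJ'⟩ := exists_orders_at hK he hli hnorm heff
    obtain ⟨J, hJ⟩ := exists_orders hK hH τ hφ
    have hJt : IsOrders K (hcol τ Ht (y • φ)) J :=
      ((tri_var hH hHt (isSepVar_of_hasse hK hH).separable (hasseD_one_ne_zero hK hH hHt) τ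
        (y • φ)).isOrders_iff J).2 (((tri_smul hH τ φ hy).isOrders_iff J).2 hJ)
    have hdeg := fun l => orders_at_le_deg hK he hli hnorm heff hJ' l
    simp only [deg_mapDiv_smul hK hφ hy] at hdeg
    have hne : (wrMat τ Ht (y • φ) I).det ≠ 0 := by
      intro h0
      have h3 := ((he.det_wrMat_fixed hK hHt hfix hnorm heff hJ' I).2 hcase).2
        (hbin J' hJ'.1 (he.pos_of_isOrders hJ') hdeg)
      rw [h0, map_zero] at h3
      exact exp_ne_zero h3.symm
    have hle := orders_le_of_det τ Ht hli hJt hImono hne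
    have : J = I := funext fun l => by
      have h1 := le_of_strictMono_fin hJ.1 b (hb J hJ) l
      have h2 := hle l
      rw [hIeq] at h2 ⊢
      omega
    exact this ▸ hJ
  obtain ⟨d, hd⟩ := Int.eq_ofNat_of_zero_le (deg_mapDiv_nonneg hK hφ)
  have hchar' : ringChar k = 0 ∨ d < ringChar k := hchar.imp id fun h => by omega
  constructor
  · rintro rfl
    refine key P0 _ 1 (fun a b h => Nat.add_lt_add_right h 1) (fun l => rfl) (isFixedPt_id hK P0)
      (Or.inl fun l => Nat.succ_pos _) (fun J hJ l => pos_of_isOrders_id hH hJ l) fun J' hJ' hpos hdeg => ?_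
    let v : Fin (n + 1) → ℕ := Fin.cases 0 J'
    have hv : StrictMono v := by
      intro x z hxy
      cases x using Fin.cases with
      | zero =>
        cases z using Fin.cases with
        | zero => exact absurd hxy (lt_irrefl _)
        | succ z => simpa [v] using hpos z
      | succ x =>
        cases z using Fin.cases with
        | zero => exact absurd hxy (Fin.not_lt_zero _)
        | succ z => simpa [v] using hJ' (Fin.succ_lt_succ_iff.1 hxy)
    have hvd : ∀ i, v i ≤ d := fun i => by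
      cases i using Fin.cases with
      | zero => simp [v]
      | succ l => have := hdeg l; simp only [v, Fin.cases_succ]; omega
    have h := det_choose_ne_zero (k := k) hchar' v hv hvd
    rw [det_eq_det_submatrix_of_row_zero _ (fun j => by simp [v])] at h
    have hsub : (Matrix.of fun i j : Fin (n + 1) => ((v i).choose (j : ℕ) : k)).submatrix Fin.succ Fin.succ =
        binomMat k J' (fun l : Fin n => (l : ℕ) + 1) := by
      ext r c; simp [v, binomMat]
    rw [hsub] at h
    exact right_ne_zero_of_mul h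
  · rintro ⟨P, hP⟩
    refine key P _ 0 (fun a b h => h) (fun l => rfl) (fixed_of_strong hP) (Or.inr hP)
      (fun J _ l => Nat.zero_le _) fun J' hJ' _ hdeg => ?_
    exact det_choose_ne_zero (k := k) hchar' J' hJ' fun l => by have := hdeg l; omega

end Groth.Agent.FFWr
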