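import Groth.Agent.FFWr.Orders
import Groth.Agent.FF.MapDiv
import Groth.Agent.FF.Norm

/-! The divisor of a differential `ds` and the Weierstrass divisor, pointwise. -/

set_option autoImplicit false
set_option linter.style.haveILetI false
set_option linter.unusedSectionVars false

open FunFld WithZero LaurentSeries IntermediateField
open Groth.Agent.FF

namespace Groth.Agent.FFWr

variable {k K : Type*} [Field k] [IsAlgClosed k] [Field K] [Algebra k K]

section Diff

variable (hK : IsFunctionField k K)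
include hK

omit [IsAlgClosed k] hK in
lemma isFF_adjoin {s : K} (hs : Transcendental k s) : IsFF k k⟮s⟯ := by
  refine ⟨AdjoinSimple.gen k s, fun h => hs (h.algHom k⟮s⟯.val), ?_⟩
  have htop : k⟮AdjoinSimple.gen k s⟯ = (⊤ : IntermediateField k k⟮s⟯) := by
    apply IntermediateField.lift_injective k⟮s⟯
    rw [IntermediateField.lift_adjoin_simple, IntermediateField.lift_top, AdjoinSimple.coe_gen]
  rw [htop]
  refine Module.finite_of_finrank_eq_succ (n := 0) ?_
  exact IntermediateField.finrank_top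

omit [IsAlgClosed k] hK in
lemma chain_rule {s t u : K} {Ht Hu : K →ₐ[k] PowerSeries K} (ht : LocRes.IsHasseFamily t Ht)
    (hts : IsSepVar k t) (hu : LocRes.IsHasseFamily u Hu) :
    LocRes.hasseD Hu 1 s = LocRes.hasseD Ht 1 s * LocRes.hasseD Hu 1 t := by
  have h2 := congrArg (dD hu).liftKaehlerDifferential (D_eq_smul hts ht s)
  rwa [map_smul, Derivation.liftKaehlerDifferential_comp_D, Derivation.liftKaehlerDifferential_comp_D,
    dD_apply, dD_apply, smul_eq_mul] at h2

lemma ordDiff_change {s t : K} {Hs Ht : K →ₐ[k] PowerSeries K} (hs : LocRes.IsHasseFamily s Hs)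
    (ht : LocRes.IsHasseFamily t Ht) {P : Place k K} {φ : K →ₐ[k] LaurentSeries k}
    (hφ : LocRes.IsExpansionAt P.1 φ) :
    LocRes.ordDiff φ 1 s = P.ord (LocRes.hasseD Ht 1 s) + LocRes.ordDiff φ 1 t := by
  obtain ⟨u, hu⟩ := exists_uniformizer P
  have hus := isSepVar_uniformizer hK hu
  obtain ⟨Hu, hHu⟩ := exists_hasse hus
  rw [ordDiff_eq hφ hu hus hHu, ordDiff_eq hφ hu hus hHu, one_mul, one_mul,
    chain_rule (s := s) ht (isSepVar_of_hasse hK ht) hHu,
    ord_mul P (hasseD_one_ne_zero hK hs ht) (hasseD_one_ne_zero hK ht hHu)]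

lemma ordDiff_uniformizer {t : K} {P : Place k K} (ht : P.1 t = exp (-1 : ℤ)) {φ : K →ₐ[k] LaurentSeries k}
    (hφ : LocRes.IsExpansionAt P.1 φ) : LocRes.ordDiff φ 1 t = 0 := by
  have hts := isSepVar_uniformizer hK ht
  obtain ⟨H, hH⟩ := exists_hasse hts
  rw [ordDiff_eq hφ ht hts hH, hasseD_one_self hH, one_mul, ord_one]

omit hK in
lemma isHasseFamily_sub_const {s : K} {H : K →ₐ[k] PowerSeries K} (hH : LocRes.IsHasseFamily s H) (a : k) :
    LocRes.IsHasseFamily (s - algebraMap k K a) H := by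
  refine ⟨?_, hH.2⟩
  rw [map_sub, hH.1, AlgHom.commutes, map_sub, PowerSeries.algebraMap_apply]
  ring

omit hK in
/-- orders of polynomials in an element regular at `Q` -/
lemma ord_aeval {Q : Place k K} {s : K} {a : k} (ha : Q.1 (s - algebraMap k K a) < 1)
    (hs : Q.1 s ≤ 1) (hne : s - algebraMap k K a ≠ 0) {p : Polynomial k} (hp : p ≠ 0) :
    Q.ord (Polynomial.aeval s p) = p.rootMultiplicity a * Q.ord (s - algebraMap k K a) := by
  obtain ⟨q, hq, hqa⟩ := Polynomial.exists_eq_pow_rootMultiplicity_mul_and_not_dvd p hp a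
  have hva : Q.1 (Polynomial.aeval s q) = 1 := by
    have hqe : q.eval a ≠ 0 := fun h => hqa (Polynomial.dvd_iff_isRoot.2 h)
    obtain ⟨r, hr⟩ := Polynomial.X_sub_C_dvd_sub_C_eval (p := q) (a := a)
    have h1 : Q.1 (Polynomial.aeval s q - algebraMap k K (q.eval a)) < 1 := by
      rw [show Polynomial.aeval s q - algebraMap k K (q.eval a) =
        Polynomial.aeval s (q - Polynomial.C (q.eval a)) by simp, hr, map_mul, map_mul]
      simp only [map_sub, Polynomial.aeval_X, Polynomial.aeval_C]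
      refine (mul_le_mul' le_rfl ?_).trans_lt ((mul_one _).trans_lt ha)
      rw [Polynomial.aeval_eq_sum_range]
      refine Valuation.map_sum_le _ fun i _ => (val_smul_le Q _ _).trans ?_
      rw [map_pow]; exact pow_le_one₀ zero_le hs
    rw [show Polynomial.aeval s q = (Polynomial.aeval s q - algebraMap k K (q.eval a)) + algebraMap k K (q.eval a) by ring]
    rw [Valuation.map_add_eq_of_lt_right _ (by rwa [val_const Q hqe]), val_const Q hqe]
  have hne2 : Polynomial.aeval s q ≠ 0 := fun h => by simp [h] at hva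
  have e : Polynomial.aeval s p =
      (s - algebraMap k K a) ^ p.rootMultiplicity a * Polynomial.aeval s q := by
    conv_lhs => rw [hq]
    simp
  rw [e, ord_mul Q (pow_ne_zero _ hne) hne2, ord_pow, (val_eq_one_iff Q hne2).1 hva, add_zero]

lemma finite_support_ordDiff {s : K} {H : K →ₐ[k] PowerSeries K} (hH : LocRes.IsHasseFamily s H)
    {Φ : Place k K → (K →ₐ[k] LaurentSeries k)} (hΦ : ∀ P : Place k K, LocRes.IsExpansionAt P.1 (Φ P)) :
    (Function.support fun P : Place k K => LocRes.ordDiff (Φ P) 1 s).Finite := by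
  classical
  have hs := isSepVar_of_hasse hK hH
  haveI := hs.finite
  haveI := hs.separable
  refine ((finite_ramified (K := k⟮s⟯) (K' := K) (k := k) (isFF_adjoin hs.transcendental)).union
    (finite_poles hK.1 s)).subset fun Q hQ => ?_
  by_contra hno
  simp only [Set.mem_union, Set.mem_ofPred_eq, not_or, not_not, not_lt] at hno
  obtain ⟨hsurj, hpole⟩ := hno
  obtain ⟨a, ha⟩ := exists_residue hK Q hpole
  obtain ⟨f, hf⟩ := hsurj (exp (-1 : ℤ))
  obtain ⟨p, q, hpq⟩ := (IntermediateField.mem_adjoin_simple_iff k _).1 f.2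
  have hne : s - algebraMap k K a ≠ 0 := fun h =>
    notMem_of_transcendental hs.transcendental ⟨a, (sub_eq_zero.1 h).symm⟩
  have hf0 : (f : K) ≠ 0 := ne_zero_of_val_eq_exp Q hf
  have hp : Polynomial.aeval s p ≠ 0 := fun h => hf0 (by rw [hpq, h, zero_div])
  have hq : Polynomial.aeval s q ≠ 0 := fun h => hf0 (by rw [hpq, h, div_zero])
  have hm₁ := ord_aeval ha hpole hne (p := p) (fun h => hp (by rw [h, map_zero]))
  have hm₂ := ord_aeval ha hpole hne (p := q) (fun h => hq (by rw [h, map_zero]))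
  have hfQ : Q.1 (f : K) = exp (-1 : ℤ) := hf
  have h1 : Q.ord (f : K) = 1 := by rw [ord_of_val_eq Q hfQ]; norm_num
  rw [hpq, ord_div Q hp hq, hm₁, hm₂, ← sub_mul] at h1
  have hpos : 0 < Q.ord (s - algebraMap k K a) := (val_lt_one_iff Q hne).1 ha
  have hu : Q.ord (s - algebraMap k K a) = 1 := Int.eq_one_of_mul_eq_one_left hpos.le h1
  have hu' : Q.1 (s - algebraMap k K a) = exp (-1 : ℤ) := by rw [val_eq_exp_ord Q hne, hu]
  apply hQ
  have hH' := isHasseFamily_sub_const hH a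
  show LocRes.ordDiff (Φ Q) 1 s = 0
  rw [ordDiff_change hK hH hH' (hΦ Q), ordDiff_uniformizer hK hu' (hΦ Q), add_zero,
    hasseD_one_self hH, ord_one]

lemma divDiff_apply {s : K} {H : K →ₐ[k] PowerSeries K} (hH : LocRes.IsHasseFamily s H)
    {Φ : Place k K → (K →ₐ[k] LaurentSeries k)} (hΦ : ∀ P : Place k K, LocRes.IsExpansionAt P.1 (Φ P))
    (P : Place k K) : divDiff Φ 1 s P = LocRes.ordDiff (Φ P) 1 s := by
  unfold divDiff
  rw [dif_pos (finite_support_ordDiff hK hH hΦ)]
  rfl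

lemma wDiv_apply {n : ℕ} {τ : K →ₐ[k] K} {s : K} {H : K →ₐ[k] PowerSeries K} (hH : LocRes.IsHasseFamily s H)
    {Φ : Place k K → (K →ₐ[k] LaurentSeries k)} (hΦ : ∀ P : Place k K, LocRes.IsExpansionAt P.1 (Φ P))
    (φ : Fin (n + 1) → K) (J : Fin n → ℕ) (P : Place k K) :
    wDiv τ H Φ s φ J P = P.ord (wrMat τ H φ J).det - minOrd (τ ∘ φ) P - n * minOrd φ P +
      (∑ l, (J l : ℤ)) * LocRes.ordDiff (Φ P) 1 s := by
  have hdiv : div k (wrMat τ H φ J).det P = P.ord (wrMat τ H φ J).det := by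
    unfold FunFld.div
    rw [dif_pos (finite_support_ord hK.1 _)]
    rfl
  simp only [wDiv, Finsupp.add_apply, Finsupp.smul_apply, smul_eq_mul, hdiv,
    mapDiv_apply hK.1, divDiff_apply hK hH hΦ]
  ring

end Diff

section MinOrd

omit [IsAlgClosed k]

lemma minOrd_smul {ι : Type*} [Fintype ι] [Nonempty ι] {φ : ι → K} (hφ : ∀ i, φ i ≠ 0) {y : K} (hy : y ≠ 0)
    (P : Place k K) : minOrd (y • φ) P = P.ord y + minOrd φ P := by
  apply le_antisymm
  · obtain ⟨i, hi⟩ := exists_minOrd φ P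
    refine (minOrd_le (y • φ) P i).trans_eq ?_
    rw [Pi.smul_apply, smul_eq_mul, ord_mul P hy (hφ i), hi]
  · obtain ⟨i, hi⟩ := exists_minOrd (y • φ) P
    rw [← hi, Pi.smul_apply, smul_eq_mul, ord_mul P hy (hφ i)]
    exact add_le_add le_rfl (minOrd_le φ P i)

lemma val_sum_smul_le {ι : Type*} [Fintype ι] [Nonempty ι] {φ : ι → K} (hφ : ∀ i, φ i ≠ 0) (a : ι → k)
    (P : Place k K) : P.1 (∑ i, a i • φ i) ≤ exp (-(minOrd φ P)) :=
  Valuation.map_sum_le _ fun i _ => (val_smul_le P _ _).trans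
    ((val_le_exp_iff P (hφ i) _).2 (by rw [neg_neg]; exact minOrd_le φ P i))

lemma minOrd_linear {n : ℕ} {φ φ' : Fin (n + 1) → K} (hφ : ∀ i, φ i ≠ 0)
    (hφ0 : ∀ i, φ' i ≠ 0) {A : Matrix (Fin (n + 1)) (Fin (n + 1)) k} (hA : A.det ≠ 0)
    (hφ' : ∀ i, φ' i = ∑ j, A i j • φ j) (P : Place k K) : minOrd φ' P = minOrd φ P := by
  have hinv : ∀ j, φ j = ∑ i, A⁻¹ j i • φ' i := fun j => by
    simp only [hφ', Finset.smul_sum, smul_smul]
    rw [Finset.sum_comm]
    simp only [← Finset.sum_smul]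
    have h3 : ∀ l, ∑ i, A⁻¹ j i * A i l = (1 : Matrix (Fin (n + 1)) (Fin (n + 1)) k) j l := fun l => by
      rw [← Matrix.nonsing_inv_mul A (isUnit_iff_ne_zero.2 hA), Matrix.mul_apply]
    simp [h3, Matrix.one_apply]
  apply le_antisymm
  · obtain ⟨i, hi⟩ := exists_minOrd φ P
    rw [← hi]
    have := val_sum_smul_le hφ0 (A⁻¹ i) P
    rw [← hinv i, val_le_exp_iff P (hφ i), neg_neg] at this
    exact this
  · obtain ⟨i, hi⟩ := exists_minOrd φ' P
    rw [← hi]
    have := val_sum_smul_le hφ (A i) P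
    rw [← hφ' i, val_le_exp_iff P (hφ0 i), neg_neg] at this
    exact this

lemma minOrd_eq_zero_of_normalized {ι : Type*} [Fintype ι] [Nonempty ι] {φ : ι → K} {P : Place k K}
    (hφ : ∀ i, φ i ≠ 0) (hnorm : ∀ i, P.1 (φ i) ≤ 1) (heff : (1 : K) ∈ Submodule.span k (Set.range φ)) :
    minOrd φ P = 0 := by
  obtain ⟨a, ha⟩ := (Submodule.mem_span_range_iff_exists_fun k).1 heff
  have h1 := val_sum_smul_le hφ a P
  rw [ha, map_one, ← exp_zero, exp_le_exp] at h1
  obtain ⟨i, hi⟩ := exists_minOrd φ P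
  have h2 := (val_le_one_iff P (φ i)).1 (hnorm i)
  omega

lemma li_smul {ι : Type*} {φ : ι → K} (hφ : LinearIndependent k φ) {y : K} (hy : y ≠ 0) :
    LinearIndependent k (y • φ) :=
  hφ.map' (LinearMap.mulLeft k y) (LinearMap.ker_eq_bot.2 (mul_right_injective₀ hy))

lemma li_of_linear {n : ℕ} {φ φ' : Fin (n + 1) → K} (hφ : LinearIndependent k φ)
    {A : Matrix (Fin (n + 1)) (Fin (n + 1)) k} (hA : A.det ≠ 0)
    (hφ' : ∀ i, φ' i = ∑ j, A i j • φ j) : LinearIndependent k φ' := by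
  rw [Fintype.linearIndependent_iff]
  intro g hg
  simp only [hφ', Finset.smul_sum, smul_smul] at hg
  rw [Finset.sum_comm] at hg
  simp only [← Finset.sum_smul] at hg
  have h := Fintype.linearIndependent_iff.1 hφ _ hg
  have hz : Matrix.vecMul g A = 0 := funext h
  exact congrFun (Matrix.eq_zero_of_vecMul_eq_zero hA hz)

end MinOrd

end Groth.Agent.FFWr
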