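import Groth.Agent.FFWr.CoordChange
import Groth.Agent.FFWr.WDiv
import Groth.Agent.FFWr.Places
import Groth.Agent.FFEmb.Plane

/-! Invariance of the adjoint divisor under projective changes of coordinates. -/

set_option autoImplicit false
set_option linter.style.haveILetI false
set_option linter.unusedSectionVars false

open FunFld WithZero Groth.Agent.FF Groth.Agent.FFEmb Groth.Agent.FFEmb.Map

namespace Groth.Agent.FFWr

variable {k K : Type*} [Field k] [IsAlgClosed k] [Field K] [Algebra k K] (hK : IsFunctionField k K)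
include hK

lemma divDiff_smul_apply {c y : K} (hc : c ≠ 0) (hy : KaehlerDifferential.D k K y ≠ 0)
    {Φ : Place k K → (K →ₐ[k] LaurentSeries k)} (hΦ : ∀ P : Place k K, LocRes.IsExpansionAt P.1 (Φ P))
    (P : Place k K) : divDiff Φ c y P = LocRes.ordDiff (Φ P) c y := by
  obtain ⟨H, hH⟩ := exists_hasse ((isSepVar_iff_D_ne_zero hK good_of_perfect).2 hy)
  have key : ∀ R : Place k K, LocRes.ordDiff (Φ R) c y = R.ord c + LocRes.ordDiff (Φ R) 1 y := fun R => by
    obtain ⟨t, ht⟩ := exists_uniformizer R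
    have hts := isSepVar_uniformizer hK ht
    obtain ⟨Ht, hHt⟩ := exists_hasse hts
    rw [ordDiff_eq (hΦ R) ht hts hHt, ordDiff_eq (hΦ R) ht hts hHt, one_mul,
      ord_mul R hc (hasseD_one_ne_zero hK hH hHt)]
  have hfin : (Function.support fun R : Place k K => LocRes.ordDiff (Φ R) c y).Finite := by
    refine ((finite_support_ord hK.1 c).union (finite_support_ordDiff hK hH hΦ)).subset fun R hR => ?_
    by_contra h
    simp only [Set.mem_union, Function.mem_support, not_or, not_not] at h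
    exact hR (by show LocRes.ordDiff (Φ R) c y = 0; rw [key, h.1, h.2, add_zero])
  unfold divDiff
  rw [dif_pos hfin]
  rfl

theorem adjointDiv_change (f : MvPolynomial (Fin 3) k) (e : ℕ) (hf : f.IsHomogeneous e)
    (x y : K) (hfxy : MvPolynomial.aeval ![(1 : K), x, y] f = 0)
    (hdx : KaehlerDifferential.D k K x ≠ 0)
    (he : (mapDiv k ![(1 : K), x, y]).deg = e)
    (A : Matrix (Fin 3) (Fin 3) k) (hA : A.det ≠ 0)
    (u : Fin 3 → K) (hu : ∀ i, ∑ j, algebraMap k K (A i j) * u j = ![(1 : K), x, y] i)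
    (hu0 : u 0 ≠ 0)
    (hfy : (MvPolynomial.aeval ![(1 : K), x, y] (MvPolynomial.pderiv 2 f)) ≠ 0)
    (hfy' : (MvPolynomial.aeval ![(1 : K), u 1 / u 0, u 2 / u 0] (MvPolynomial.pderiv 2 (MvPolynomial.aeval (fun i : Fin 3 => ∑ j, MvPolynomial.C (A i j) * MvPolynomial.X j) f))) ≠ 0)
    (Φ : Place k K → (K →ₐ[k] LaurentSeries k))
    (hΦ : ∀ P : Place k K, LocRes.IsExpansionAt P.1 (Φ P)) :
    ((mapDiv k ![(1 : K), x, y]).deg - 3) • mapDiv k ![(1 : K), x, y] -
        divDiff Φ (MvPolynomial.aeval ![(1 : K), x, y] (MvPolynomial.pderiv 2 f))⁻¹ x =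
      ((mapDiv k ![(1 : K), u 1 / u 0, u 2 / u 0]).deg - 3) •
          mapDiv k ![(1 : K), u 1 / u 0, u 2 / u 0] -
        divDiff Φ (MvPolynomial.aeval ![(1 : K), u 1 / u 0, u 2 / u 0] (MvPolynomial.pderiv 2 (MvPolynomial.aeval (fun i : Fin 3 => ∑ j, MvPolynomial.C (A i j) * MvPolynomial.X j) f)))⁻¹ (u 1 / u 0) := by
  classical
  set c := (MvPolynomial.aeval ![(1 : K), x, y] (MvPolynomial.pderiv 2 f))⁻¹ with hc
  set c' := (MvPolynomial.aeval ![(1 : K), u 1 / u 0, u 2 / u 0] (MvPolynomial.pderiv 2 (MvPolynomial.aeval (fun i : Fin 3 => ∑ j, MvPolynomial.C (A i j) * MvPolynomial.X j) f)))⁻¹ with hc'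
  set v := u 1 / u 0 with hv
  set ψ := ![(1 : K), v, u 2 / u 0] with hψ
  set φ := ![(1 : K), x, y] with hφ
  have hc0 : c ≠ 0 := inv_ne_zero hfy
  have hc0' : c' ≠ 0 := inv_ne_zero hfy'
  have hΩ := coord_change f e hf x y hfxy A hA u hu hu0 hfy hfy' (KaehlerDifferential.D k K)
  have hdv : KaehlerDifferential.D k K v ≠ 0 := fun h => by
    rw [h, smul_zero, smul_eq_zero] at hΩ
    exact hΩ.elim hc0 hdx
  have hF : Fits φ (mapDiv k φ) := fits_mapDiv hK _ (Or.inr ⟨0, rfl⟩)
  have hG : Fits ψ (mapDiv k ψ) := fits_mapDiv hK _ (Or.inr ⟨0, rfl⟩)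
  have hψu : ∀ i, ψ i = u i / u 0 := fun i => by
    fin_cases i <;> simp [hψ, hv, hu0]
  set B := A⁻¹
  have hAu : IsUnit A.det := isUnit_iff_ne_zero.2 hA
  have hinv : ∀ i, u i = ∑ j, algebraMap k K (B i j) * φ j := by
    intro i
    simp only [← hu, Finset.mul_sum, ← mul_assoc, ← map_mul]
    rw [Finset.sum_comm]
    simp only [← Finset.sum_mul, ← map_sum, ← Matrix.mul_apply, B, Matrix.nonsing_inv_mul A hAu,
      Matrix.one_apply, apply_ite (algebraMap k K), map_one, map_zero, ite_mul, one_mul, zero_mul,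
      Finset.sum_ite_eq, Finset.mem_univ, if_true]
  have hD : ∀ P : Place k K, mapDiv k ψ P = mapDiv k φ P + P.ord (u 0) := by
    intro P
    have hle : ∀ (a b : Fin 3 → K) (M : Matrix (Fin 3) (Fin 3) k) (D : Divisor k K), (∀ j, b j ∈ L D) →
        (∀ i, a i = ∑ j, algebraMap k K (M i j) * b j) → ∀ i, a i ∈ L D := fun a b M D hb hab i => by
      rw [hab i]
      exact sum_mem fun j _ => by rw [← Algebra.smul_def]; exact Submodule.smul_mem _ _ (hb j)
    have hval : P.1 (u 0) = exp (-(P.ord (u 0))) := val_eq_exp_ord P hu0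
    refine le_antisymm ?_ ?_
    · obtain ⟨i, hi⟩ := hG.exact' P
      have h := hle u φ B _ hF.mem hinv i P
      rw [hψu, map_div₀, hval, div_eq_iff exp_ne_zero, ← exp_add] at hi
      rw [hi, exp_le_exp] at h
      omega
    · obtain ⟨i, hi⟩ := hF.exact' P
      have hu' : ∀ j, P.1 (u j) ≤ exp (mapDiv k ψ P - P.ord (u 0)) := fun j => by
        have h := hG.mem j P
        rw [hψu, map_div₀, hval, div_le_iff₀ exp_pos, ← exp_add] at h
        simpa [sub_eq_add_neg] using h
      have h : P.1 (φ i) ≤ exp (mapDiv k ψ P - P.ord (u 0)) := by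
        rw [← hu i]
        refine Valuation.map_sum_le _ fun j _ => ?_
        rw [map_mul]
        exact (mul_le_of_le_one_left zero_le (P.2.1 _)).trans (hu' j)
      rw [hi, exp_le_exp] at h
      omega
  have hDeq : mapDiv k ψ = mapDiv k φ + FunFld.div k (u 0) := Finsupp.ext fun P => by
    rw [Finsupp.add_apply, div_apply hK.1, hD]
  have hdeg : (mapDiv k ψ).deg = e := by rw [hDeq, deg_add, deg_div hK, he, add_zero]
  ext P
  simp only [Finsupp.sub_apply, Finsupp.smul_apply, smul_eq_mul, divDiff_smul_apply hK hc0 hdx hΦ,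
    divDiff_smul_apply hK hc0' hdv hΦ, hdeg, he, hD]
  obtain ⟨t, ht⟩ := exists_uniformizer P
  have hts := isSepVar_uniformizer hK ht
  obtain ⟨H, hH⟩ := exists_hasse hts
  have h := congrArg (dD hH).liftKaehlerDifferential hΩ
  simp only [map_smul, Derivation.liftKaehlerDifferential_comp_D, smul_eq_mul, dD_apply] at h
  have hne : ∀ {z : K}, KaehlerDifferential.D k K z ≠ 0 → LocRes.hasseD H 1 z ≠ 0 := fun hz => by
    obtain ⟨Hz, hHz⟩ := exists_hasse ((isSepVar_iff_D_ne_zero hK good_of_perfect).2 hz)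
    exact hasseD_one_ne_zero hK hHz hH
  have hAK : algebraMap k K A.det ≠ 0 := by simpa using hA
  have hz0 : (u 0)⁻¹ ^ ((e : ℤ) - 3) ≠ 0 := zpow_ne_zero _ (inv_ne_zero hu0)
  have hzord : P.ord ((u 0)⁻¹ ^ ((e : ℤ) - 3)) = -(((e : ℤ) - 3) * P.ord (u 0)) := by
    simp only [Place.ord, map_zpow₀, map_inv₀, log_zpow, log_inv, smul_eq_mul]
  rw [ordDiff_eq (hΦ P) ht hts hH, ordDiff_eq (hΦ P) ht hts hH, h,
    ord_mul P (mul_ne_zero (mul_ne_zero hAK hz0) hc0') (hne hdv), ord_mul P hc0' (hne hdv),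
    ord_mul P (mul_ne_zero hAK hz0) hc0', ord_mul P hAK hz0, hzord,
    ord_eq_zero_of_isAlgebraic P (isAlgebraic_algebraMap A.det)]
  ring

end Groth.Agent.FFWr
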