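import Groth.Agent.FFWr.AdjLocal
import Groth.Agent.FFWr.WDiv
import Groth.Agent.FFWr.DegDiff
import Groth.Agent.FFWr.Count
import Groth.Agent.FFEmb.Plane
import Groth.Agent.FF.Norm
import Mathlib.Algebra.MvPolynomial.PDeriv

/-! The adjoint coefficient of a plane model at a place. -/

set_option autoImplicit false
set_option linter.style.haveILetI false
set_option linter.unusedSectionVars false
set_option maxHeartbeats 1000000

open FunFld WithZero Groth.Agent.FF Groth.Agent.FFEmb Groth.Agent.FFEmb.Map Polynomial IntermediateField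

namespace Groth.Agent.FFWr

section

variable {k K : Type*} [Field k] [Field K] [Algebra k K]

lemma derivation_aeval_mv {n : ℕ} (δ : Derivation k K K) (φ : Fin n → K) (p : MvPolynomial (Fin n) k) :
    δ (MvPolynomial.aeval φ p) = ∑ i, MvPolynomial.aeval φ (MvPolynomial.pderiv i p) * δ (φ i) := by
  induction p using MvPolynomial.induction_on with
  | C c => simp [MvPolynomial.aeval_C]
  | add p q hp hq => simp only [map_add, hp, hq, add_mul, Finset.sum_add_distrib]
  | mul_X p i hp =>
    have h0 : ∀ x, MvPolynomial.aeval φ (MvPolynomial.pderiv x (MvPolynomial.X i : MvPolynomial (Fin n) k)) =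
        if x = i then (1 : K) else 0 := fun x => by
      rw [MvPolynomial.pderiv_X]
      rcases eq_or_ne x i with rfl | h
      · simp
      · simp [Pi.single_eq_of_ne' h, h]
    simp only [map_mul, MvPolynomial.aeval_X, Derivation.leibniz, hp, smul_eq_mul, map_add, h0, mul_ite,
      mul_one, mul_zero, add_mul, ite_mul, zero_mul, Finset.sum_add_distrib, Finset.sum_ite_eq',
      Finset.mem_univ, if_true, Finset.mul_sum]
    ring_nf

lemma aeval_pderiv_two (f : MvPolynomial (Fin 2) k) (x y : K) :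
    (MvPolynomial.aeval ![x, y] (MvPolynomial.pderiv 0 f) =
      ∑ m ∈ f.support, algebraMap k K (f.coeff m) * ((m 0 : K) * x ^ (m 0 - 1) * y ^ (m 1))) ∧
    (MvPolynomial.aeval ![x, y] (MvPolynomial.pderiv 1 f) =
      ∑ m ∈ f.support, algebraMap k K (f.coeff m) * ((m 1 : K) * x ^ (m 0) * y ^ (m 1 - 1))) ∧
    (MvPolynomial.aeval ![x, y] f = ∑ m ∈ f.support, algebraMap k K (f.coeff m) * (x ^ (m 0) * y ^ (m 1))) := by
  refine ⟨?_, ?_, ?_⟩
  all_goals conv_lhs => rw [f.as_sum]
  all_goals simp only [map_sum, MvPolynomial.pderiv_monomial, MvPolynomial.aeval_monomial]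
  all_goals refine Finset.sum_congr rfl fun m _ => ?_
  all_goals rw [Finsupp.prod_fintype _ _ (fun i => pow_zero _), Fin.prod_univ_two]
  all_goals simp
  all_goals ring

lemma monomial_euler (e i j : ℕ) (L0 a0 a1 a2 x y : K) :
    ((e : K) * a0 * L0 ^ (e - 1) * (L0 * x) ^ i * (L0 * y) ^ j +
      (i : K) * a1 * L0 ^ e * (L0 * x) ^ (i - 1) * (L0 * y) ^ j +
      (j : K) * a2 * L0 ^ e * (L0 * x) ^ i * (L0 * y) ^ (j - 1)) * L0 =
    L0 ^ (e + i + j) * (((e + i + j : ℕ) : K) * a0 * x ^ i * y ^ j +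
      (i : K) * x ^ (i - 1) * y ^ j * (a1 - x * a0) + (j : K) * x ^ i * y ^ (j - 1) * (a2 - y * a0)) := by
  rcases e with _ | e <;> rcases i with _ | i <;> rcases j with _ | j <;>
    simp [pow_succ, pow_add, mul_pow] <;> ring

/-- a coordinate change of a plane model -/
lemma deriv_eval_change {K0 : Type*} [Field K0] [Algebra k K0] [Algebra K0 K] [IsScalarTower k K0 K]
    (f : MvPolynomial (Fin 2) k) (d : ℕ) (hd : ∀ m ∈ f.support, m 0 + m 1 ≤ d) (l0 l1 l2 : K0) (a0 a1 a2 : k)
    (w x y : K)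
    (hx : algebraMap K0 K l1 + algebraMap k K a1 * w = (algebraMap K0 K l0 + algebraMap k K a0 * w) * x)
    (hy : algebraMap K0 K l2 + algebraMap k K a2 * w = (algebraMap K0 K l0 + algebraMap k K a0 * w) * y)
    (hf : MvPolynomial.aeval ![x, y] f = 0) :
    ∃ (g : K0[X]) (γ : k), g.natDegree ≤ d ∧ g.coeff d = algebraMap k K0 γ ∧ aeval w g = 0 ∧
      aeval w (derivative g) * (algebraMap K0 K l0 + algebraMap k K a0 * w) =
        (algebraMap K0 K l0 + algebraMap k K a0 * w) ^ d *
          (MvPolynomial.aeval ![x, y] (MvPolynomial.pderiv 0 f) * (algebraMap k K a1 - x * algebraMap k K a0) +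
           MvPolynomial.aeval ![x, y] (MvPolynomial.pderiv 1 f) * (algebraMap k K a2 - y * algebraMap k K a0)) := by
  classical
  set P0 : K0[X] := C l0 + C (algebraMap k K0 a0) * X with hP0
  set P1 : K0[X] := C l1 + C (algebraMap k K0 a1) * X with hP1
  set P2 : K0[X] := C l2 + C (algebraMap k K0 a2) * X with hP2
  have hdeg : ∀ (l : K0) (a : k), (C l + C (algebraMap k K0 a) * X : K0[X]).natDegree ≤ 1 := fun l a =>
    (natDegree_add_le _ _).trans (max_le (by simp) ((natDegree_C_mul_le _ _).trans natDegree_X_le))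
  have hco : ∀ (l : K0) (a : k), (C l + C (algebraMap k K0 a) * X : K0[X]).coeff 1 = algebraMap k K0 a := by
    intro l a; simp [coeff_C]
  set L0 := algebraMap K0 K l0 + algebraMap k K a0 * w with hL0
  have e0 : aeval w P0 = L0 := by simp [hP0, hL0, ← IsScalarTower.algebraMap_apply]
  have e1 : aeval w P1 = L0 * x := by rw [← hx]; simp [hP1, ← IsScalarTower.algebraMap_apply]
  have e2 : aeval w P2 = L0 * y := by rw [← hy]; simp [hP2, ← IsScalarTower.algebraMap_apply]
  let T : (Fin 2 →₀ ℕ) → K0[X] := fun m =>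
    C (algebraMap k K0 (f.coeff m)) * (P0 ^ (d - (m 0 + m 1)) * P1 ^ (m 0) * P2 ^ (m 1))
  have hTdeg : ∀ m ∈ f.support, (P0 ^ (d - (m 0 + m 1)) * P1 ^ (m 0) * P2 ^ (m 1)).natDegree ≤ d ∧
      (P0 ^ (d - (m 0 + m 1)) * P1 ^ (m 0) * P2 ^ (m 1)).coeff d =
        algebraMap k K0 (a0 ^ (d - (m 0 + m 1)) * a1 ^ (m 0) * a2 ^ (m 1)) := by
    intro m hm
    have h := hd m hm
    have hpow : ∀ (P : K0[X]) (n : ℕ), P.natDegree ≤ 1 →
        (P ^ n).natDegree ≤ n ∧ (P ^ n).coeff n = P.coeff 1 ^ n := fun P n hP => by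
      refine ⟨natDegree_pow_le.trans ((Nat.mul_le_mul_left n hP).trans_eq (mul_one n)), ?_⟩
      have := coeff_pow_of_natDegree_le (m := n) hP
      rwa [mul_one] at this
    obtain ⟨d0, c0⟩ := hpow P0 (d - (m 0 + m 1)) (hdeg _ _)
    obtain ⟨d1, c1⟩ := hpow P1 (m 0) (hdeg _ _)
    obtain ⟨d2, c2⟩ := hpow P2 (m 1) (hdeg _ _)
    have d01 := natDegree_mul_le.trans (Nat.add_le_add d0 d1)
    refine ⟨(natDegree_mul_le.trans (Nat.add_le_add d01 d2)).trans (by omega), ?_⟩
    have key := coeff_mul_add_eq_of_natDegree_le d01 d2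
    rw [coeff_mul_add_eq_of_natDegree_le d0 d1, c0, c1, c2, show d - (m 0 + m 1) + m 0 + m 1 = d by omega,
      hco, hco, hco] at key
    rw [key, map_mul, map_mul, map_pow, map_pow, map_pow]
  refine ⟨∑ m ∈ f.support, T m,
    ∑ m ∈ f.support, f.coeff m * (a0 ^ (d - (m 0 + m 1)) * a1 ^ (m 0) * a2 ^ (m 1)),
    natDegree_sum_le_of_forall_le _ _ (fun m hm => (natDegree_C_mul_le _ _).trans (hTdeg m hm).1), ?_, ?_, ?_⟩
  · rw [finsetSum_coeff, map_sum]
    refine Finset.sum_congr rfl fun m hm => ?_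
    rw [coeff_C_mul, (hTdeg m hm).2]
    simp only [map_mul, map_pow]
  · have hs := (aeval_pderiv_two f x y).2.2
    rw [hf] at hs
    rw [map_sum, show (∑ m ∈ f.support, aeval w (T m)) =
        L0 ^ d * ∑ m ∈ f.support, algebraMap k K (f.coeff m) * (x ^ (m 0) * y ^ (m 1)) by
      rw [Finset.mul_sum]
      refine Finset.sum_congr rfl fun m hm => ?_
      have h := hd m hm
      simp only [T, map_mul, map_pow, aeval_C, ← IsScalarTower.algebraMap_apply, e0, e1, e2, mul_pow]
      have hp : L0 ^ d = L0 ^ (d - (m 0 + m 1)) * L0 ^ (m 0) * L0 ^ (m 1) := by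
        rw [← pow_add, ← pow_add]; congr 1; omega
      rw [hp]; ring, ← hs, mul_zero]
  · obtain ⟨hp0, hp1, hs⟩ := aeval_pderiv_two f x y
    rw [hf] at hs
    rw [map_sum, map_sum, Finset.sum_mul, hp0, hp1, Finset.sum_mul, Finset.sum_mul]
    have hz : (0 : K) = L0 ^ d * ((d : K) * algebraMap k K a0 *
        ∑ m ∈ f.support, algebraMap k K (f.coeff m) * (x ^ (m 0) * y ^ (m 1))) := by
      rw [← hs, mul_zero, mul_zero]
    rw [← Finset.sum_add_distrib, ← zero_add (L0 ^ d * _), hz, ← mul_add, Finset.mul_sum,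
      ← Finset.sum_add_distrib, Finset.mul_sum]
    refine Finset.sum_congr rfl fun m hm => ?_
    have h := hd m hm
    have key := monomial_euler (d - (m 0 + m 1)) (m 0) (m 1) L0 (algebraMap k K a0) (algebraMap k K a1)
      (algebraMap k K a2) x y
    rw [show d - (m 0 + m 1) + m 0 + m 1 = d by omega] at key
    have hder : aeval w (derivative (T m)) = algebraMap k K (f.coeff m) *
        (((d - (m 0 + m 1) : ℕ) : K) * algebraMap k K a0 * L0 ^ (d - (m 0 + m 1) - 1) * (L0 * x) ^ (m 0) * (L0 * y) ^ (m 1) +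
          (m 0 : K) * algebraMap k K a1 * L0 ^ (d - (m 0 + m 1)) * (L0 * x) ^ (m 0 - 1) * (L0 * y) ^ (m 1) +
          (m 1 : K) * algebraMap k K a2 * L0 ^ (d - (m 0 + m 1)) * (L0 * x) ^ (m 0) * (L0 * y) ^ (m 1 - 1)) := by
      simp only [T, derivative_mul, derivative_pow, derivative_C, zero_mul, zero_add, map_add, map_mul,
        map_pow, aeval_C, ← IsScalarTower.algebraMap_apply, e0, e1, e2, map_natCast]
      simp only [hP0, hP1, hP2, derivative_add, derivative_C, derivative_C_mul, derivative_X, mul_one,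
        zero_add, aeval_C, ← IsScalarTower.algebraMap_apply]
      ring
    rw [hder, mul_assoc, key]
    ring

end


section

variable {k K : Type*} [Field k] [IsAlgClosed k] [Field K] [Algebra k K] (hK : IsFunctionField k K)
include hK

/-- a coordinate change adapted to a place -/
lemma exists_chart (x y : K) (Q : Place k K) (δ : Derivation k K K) (hδ : δ x ≠ 0) :
    ∃ B : Matrix (Fin 3) (Fin 3) k, B.det ≠ 0 ∧
      let u := fun i => ∑ j, algebraMap k K (B i j) * ![(1 : K), x, y] j
      u 0 ≠ 0 ∧ Q.1 (u 0) = exp (mapDiv k ![(1 : K), x, y] Q) ∧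
      (∀ R : Place k K, R.1 (u 0) ≠ exp (mapDiv k ![(1 : K), x, y] R) →
        R.1 (u 1) = exp (mapDiv k ![(1 : K), x, y] R)) ∧
      δ (u 1 / u 0) ≠ 0 := by
  classical
  set φ := ![(1 : K), x, y] with hφ
  set D := mapDiv k φ with hD
  set W := Submodule.span k (Set.range φ) with hW
  have hF : Fits φ D := fits_mapDiv hK _ (Or.inr ⟨0, rfl⟩)
  obtain ⟨u0, hu0, hu0Q⟩ := Plane.exists_exact_combination hF.span_le hF.span_exact {Q}
  have hu0Q' := hu0Q Q (Finset.mem_singleton_self Q)
  have hu00 : u0 ≠ 0 := ne_zero_of_val_eq_exp Q hu0Q'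
  set S : Finset (Place k K) := D.support ∪ (FunFld.div k u0).support with hS
  have hout : ∀ R, R ∉ S → R.1 u0 = exp (D R) := fun R hR => by
    rw [hS, Finset.mem_union, not_or, Finsupp.notMem_support_iff, Finsupp.notMem_support_iff,
      div_apply hK.1] at hR
    rw [val_eq_exp_ord R hu00, hR.1, hR.2, neg_zero]
  obtain ⟨ub, hub, hubS⟩ := Plane.exists_exact_combination hF.span_le hF.span_exact S
  obtain ⟨w0, hw0, hw0δ⟩ : ∃ w0 ∈ W, δ (w0 / u0) ≠ 0 := by
    by_contra! hc
    have h1 := hc 1 (Submodule.subset_span ⟨0, rfl⟩)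
    have hx := hc x (Submodule.subset_span ⟨1, rfl⟩)
    apply hδ
    have : δ (x / u0 * u0) = 0 := by
      rw [one_div, Derivation.leibniz_inv, smul_eq_mul] at h1
      have hu' : δ u0 = 0 := by
        rcases mul_eq_zero.1 h1 with h | h
        · simp [hu00] at h
        · exact h
      rw [Derivation.leibniz, hx, hu', smul_zero, smul_zero, add_zero]
    rwa [div_mul_cancel₀ _ hu00] at this
  have hmem : ∀ t : k, ub + t • w0 ∈ W := fun t => add_mem hub (Submodule.smul_mem _ t hw0)
  have hbad1 : ∀ R ∈ S, {t : k | R.1 (ub + t • w0) ≠ exp (D R)}.Subsingleton := by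
    intro R hR t ht t' ht'
    by_contra hne
    have hlt : ∀ {u : k}, R.1 (ub + u • w0) ≠ exp (D R) → R.1 (ub + u • w0) < exp (D R) :=
      fun h => lt_of_le_of_ne (hF.span_le (hmem _) R) h
    have hw' : R.1 w0 < exp (D R) := by
      have h1 : R.1 ((t - t') • w0) < exp (D R) := by
        rw [show (t - t') • w0 = (ub + t • w0) - (ub + t' • w0) by rw [sub_smul]; abel]
        exact lt_of_le_of_lt (R.1.map_sub _ _) (max_lt (hlt ht) (hlt ht'))
      rwa [val_smul R (sub_ne_zero.2 hne)] at h1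
    refine (hlt ht).ne ?_
    rw [Valuation.map_add_eq_of_lt_left _ (lt_of_le_of_lt (val_smul_le R t w0) (hubS R hR ▸ hw'))]
    exact hubS R hR
  have hbad2 : {t : k | δ ((ub + t • w0) / u0) = 0}.Subsingleton := by
    intro t ht t' ht'
    by_contra hne
    have e : ∀ t : k, δ ((ub + t • w0) / u0) = δ (ub / u0) + t • δ (w0 / u0) := fun t => by
      rw [add_div, map_add, smul_div_assoc, Derivation.map_smul]
    rw [Set.mem_setOf_eq, e] at ht ht'
    have h2 : (t - t') • δ (w0 / u0) = 0 := by rw [sub_smul]; linear_combination (norm := abel) ht - ht'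
    exact hw0δ ((smul_eq_zero.1 h2).resolve_left (sub_ne_zero.2 hne))
  obtain ⟨t, ht⟩ := Set.Finite.exists_notMem
    ((S.finite_toSet.biUnion fun R hR => (hbad1 R hR).finite).union hbad2.finite)
  rw [Set.mem_union, not_or] at ht
  set u1 := ub + t • w0 with hu1
  have hu1S : ∀ R ∈ S, R.1 u1 = exp (D R) := fun R hR => by
    by_contra h; exact ht.1 (Set.mem_biUnion hR h)
  have hδv : δ (u1 / u0) ≠ 0 := ht.2
  obtain ⟨a0, ha0⟩ := (Submodule.mem_span_range_iff_exists_fun k).1 hu0
  obtain ⟨a1, ha1⟩ := (Submodule.mem_span_range_iff_exists_fun k).1 (hmem t)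
  have hli : LinearIndependent k ![a0, a1] := by
    rw [linearIndependent_fin2]
    refine ⟨fun h => ?_, fun c h => ?_⟩
    · apply hδv
      simp only [Matrix.cons_val_one, Matrix.cons_val_zero, Matrix.cons_val_fin_one] at h
      have : u1 = 0 := by rw [hu1, ← ha1, h]; simp
      rw [this, zero_div, map_zero]
    · simp only [Matrix.cons_val_one, Matrix.cons_val_zero] at h
      apply hδv
      have hc : c • u1 = u0 := by
        rw [← ha0, ← h, hu1, ← ha1, Finset.smul_sum]
        exact Finset.sum_congr rfl fun i _ => by simp [smul_smul]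
      have hc0 : c ≠ 0 := fun e => hu00 (by rw [← hc, e, zero_smul])
      have hu10 : u1 ≠ 0 := fun e => hu00 (by rw [← hc, e, smul_zero])
      rw [← hc, show u1 / (c • u1) = algebraMap k K c⁻¹ by
        rw [Algebra.smul_def, map_inv₀, div_mul_cancel_right₀ hu10]]
      exact Derivation.map_algebraMap _ _
  obtain ⟨a2, ha2⟩ : ∃ a2, a2 ∉ Submodule.span k (Set.range ![a0, a1]) := by
    by_contra! h
    have h3 := finrank_span_eq_card hli
    rw [Submodule.eq_top_iff'.2 h, finrank_top, Module.finrank_fin_fun] at h3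
    simp at h3
  let B : Matrix (Fin 3) (Fin 3) k := Matrix.of (Fin.snoc ![a0, a1] a2)
  refine ⟨B, ?_, ?_⟩
  · have hB : LinearIndependent k B.row := linearIndependent_finSnoc.2 ⟨hli, ha2⟩
    exact ((Matrix.isUnit_iff_isUnit_det B).1 (Matrix.linearIndependent_rows_iff_isUnit.1 hB)).ne_zero
  intro u
  have hu' : u 0 = u0 ∧ u 1 = u1 := by
    constructor
    · rw [← ha0]
      exact Finset.sum_congr rfl fun j _ => by rw [Algebra.smul_def]; rfl
    · rw [hu1, ← ha1]
      exact Finset.sum_congr rfl fun j _ => by rw [Algebra.smul_def]; rfl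
  rw [hu'.1, hu'.2]
  exact ⟨hu00, hu0Q', fun R hR => hu1S R (by by_contra h; exact hR (hout R h)), hδv⟩

/-- the adjoint coefficient of a plane curve is `ord m'(w) - ord dv` in an adapted chart -/
theorem adjoint_iff (x y : K) (hxy : IntermediateField.adjoin k ({x, y} : Set K) = ⊤)
    (f : MvPolynomial (Fin 2) k) (hf : Irreducible f) (hfxy : MvPolynomial.aeval ![x, y] f = 0)
    (Q : Place k K) (ΦQ : K →ₐ[k] LaurentSeries k) (hΦQ : LocRes.IsExpansionAt Q.1 ΦQ)
    (hne : LocRes.vDiff ΦQ (MvPolynomial.aeval ![x, y] (MvPolynomial.pderiv 1 f))⁻¹ x ≠ 0) :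
    0 ≤ ((mapDiv k ![(1 : K), x, y]).deg - 3) * mapDiv k ![(1 : K), x, y] Q -
        LocRes.ordDiff ΦQ (MvPolynomial.aeval ![x, y] (MvPolynomial.pderiv 1 f))⁻¹ x ∧
    (((mapDiv k ![(1 : K), x, y]).deg - 3) * mapDiv k ![(1 : K), x, y] Q -
        LocRes.ordDiff ΦQ (MvPolynomial.aeval ![x, y] (MvPolynomial.pderiv 1 f))⁻¹ x = 0 ↔
      IsNonsingularAt ![(1 : K), x, y] Q) := by
  classical
  set φ := ![(1 : K), x, y] with hφdef
  set D := mapDiv k φ with hD
  set fy := MvPolynomial.aeval ![x, y] (MvPolynomial.pderiv 1 f) with hfy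
  -- the derivation at `Q`
  obtain ⟨t, ht⟩ := exists_uniformizer Q
  have hts := isSepVar_uniformizer hK ht
  obtain ⟨H, hH⟩ := exists_hasse hts
  set δ := dD hH with hδdef
  have hord := ordDiff_eq hΦQ ht hts hH
  rw [vDiff_eq hΦQ ht hts hH, Valuation.ne_zero_iff, mul_ne_zero_iff] at hne
  have hfy0 : fy ≠ 0 := fun h => hne.1 (by rw [h, inv_zero])
  have hδx : δ x ≠ 0 := hne.2
  -- chart
  obtain ⟨B, hB, hchart⟩ := exists_chart hK x y Q δ hδx
  set u : Fin 3 → K := fun i => ∑ j, algebraMap k K (B i j) * φ j with hu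
  obtain ⟨hu00, hu0Q, hu1S, hδv⟩ := hchart
  have hF : Fits φ D := fits_mapDiv hK _ (Or.inr ⟨0, rfl⟩)
  have humem : ∀ i, u i ∈ Submodule.span k (Set.range φ) := fun i => sum_mem fun j _ => by
    rw [← Algebra.smul_def]; exact Submodule.smul_mem _ _ (Submodule.subset_span ⟨j, rfl⟩)
  have huD : ∀ i (R : Place k K), R.1 (u i) ≤ exp (D R) := fun i R => hF.span_le (humem i) R
  set A := B⁻¹ with hA
  have hBu : IsUnit B.det := isUnit_iff_ne_zero.2 hB
  have hAu : ∀ i, φ i = ∑ j, algebraMap k K (A i j) * u j := by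
    intro i
    simp only [hu, Finset.mul_sum, ← mul_assoc, ← map_mul]
    rw [Finset.sum_comm]
    simp only [← Finset.sum_mul, ← map_sum, ← Matrix.mul_apply, hA, Matrix.nonsing_inv_mul B hBu,
      Matrix.one_apply, apply_ite (algebraMap k K), map_one, map_zero, ite_mul, one_mul, zero_mul,
      Finset.sum_ite_eq, Finset.mem_univ, if_true]
  set v := u 1 / u 0 with hv
  set w := u 2 / u 0 with hw
  set L : Fin 3 → K := fun i => algebraMap k K (A i 0) + algebraMap k K (A i 1) * v + algebraMap k K (A i 2) * w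
    with hL
  have hφL : ∀ i, φ i = u 0 * L i := fun i => by
    rw [hAu i, Fin.sum_univ_three]; simp only [hL, hv, hw]; field_simp
  have h0L : u 0 * L 0 = 1 := (hφL 0).symm
  have hxL : u 0 * L 1 = x := (hφL 1).symm
  have hyL : u 0 * L 2 = y := (hφL 2).symm
  have hL0 : L 0 ≠ 0 := fun h => by rw [h, mul_zero] at h0L; exact zero_ne_one h0L
  have hx' : L 1 = L 0 * x := by rw [← hxL, mul_left_comm, ← mul_assoc, h0L, one_mul]
  have hy' : L 2 = L 0 * y := by rw [← hyL, mul_left_comm, ← mul_assoc, h0L, one_mul]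
  -- the rational subfield
  have hDv : KaehlerDifferential.D k K v ≠ 0 := fun h0 => hδv (by
    have := congrArg δ.liftKaehlerDifferential h0
    rwa [Derivation.liftKaehlerDifferential_comp_D, map_zero] at this)
  have hvs : IsSepVar k v := (isSepVar_iff_D_ne_zero hK good_of_perfect).2 hDv
  haveI := hvs.finite
  haveI := hvs.separable
  have hK0 := isFunctionField_adjoin hK hvs.transcendental
  set gv : k⟮v⟯ := AdjoinSimple.gen k v with hgv
  have hgvv : algebraMap k⟮v⟯ K gv = v := AdjoinSimple.coe_gen k v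
  have hgen : IntermediateField.adjoin k⟮v⟯ ({w} : Set K) = ⊤ := by
    set G := IntermediateField.adjoin k⟮v⟯ ({w} : Set K)
    have hLG : ∀ i, L i ∈ G := fun i => by
      refine add_mem (add_mem ?_ (mul_mem ?_ (by have h' := G.algebraMap_mem gv; rwa [hgvv] at h'))) (mul_mem ?_ (mem_adjoin_simple_self _ w))
      all_goals
        rw [IsScalarTower.algebraMap_apply k k⟮v⟯ K]
        exact G.algebraMap_mem _
    have hu0G : u 0 ∈ G := by
      rw [show u 0 = (L 0)⁻¹ from eq_inv_of_mul_eq_one_left h0L]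
      exact inv_mem (hLG 0)
    have htop : IntermediateField.adjoin k ({x, y} : Set K) ≤ G.restrictScalars k := by
      rw [IntermediateField.adjoin_le_iff, Set.insert_subset_iff, Set.singleton_subset_iff, ← hxL, ← hyL]
      exact ⟨mul_mem hu0G (hLG 1), mul_mem hu0G (hLG 2)⟩
    rw [hxy] at htop
    exact eq_top_iff.2 fun z _ => htop (trivial : z ∈ (⊤ : IntermediateField k K))
  -- places where `v` is integral
  have hu0R : ∀ R : Place k K, R.1 v ≤ 1 → R.1 (u 0) = exp (D R) := fun R hR => by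
    by_contra h
    have h1 := hu1S R h
    have h2 : R.1 (u 0) < exp (D R) := lt_of_le_of_ne (huD 0 R) h
    rw [hv, map_div₀, h1, div_le_one₀ (pos_iff_ne_zero.2 ((Valuation.ne_zero_iff _).2 hu00))] at hR
    exact absurd hR (not_le.2 h2)
  have hwR : ∀ R : Place k K, R.1 v ≤ 1 → R.1 w ≤ 1 := fun R hR => by
    rw [hw, map_div₀, hu0R R hR, div_le_one₀ exp_pos]; exact huD 2 R
  have hvQ : Q.1 v ≤ 1 := by
    rw [hv, map_div₀, hu0Q, div_le_one₀ exp_pos]; exact huD 1 Q
  -- the degree
  obtain ⟨v', w', d, hc⟩ := Plane.exists_coord hK x y hxy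
  have hdD : D.deg = d := hc.deg_eq
  have hdf : ∀ m ∈ f.support, m 0 + m 1 ≤ d := fun m hm => by
    have h := MvPolynomial.le_totalDegree hm
    rw [hc.totalDegree_eq f hf hfxy] at h
    rw [Finsupp.sum_fintype _ _ (fun _ => rfl), Fin.sum_univ_two] at h
    exact h
  have hrank : Module.finrank k⟮v⟯ K = d := by
    have hvinv : Transcendental k v⁻¹ := fun h => hvs.transcendental (by simpa using h.inv)
    have hv0 : v ≠ 0 := fun h => hvs.transcendental (h ▸ isAlgebraic_zero)
    have hu10 : u 1 ≠ 0 := fun h => hv0 (by rw [hv, h, zero_div])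
    have e : zeroDiv (k := k) v⁻¹ = D + FunFld.div k (u 0) := by
      ext R
      simp only [zeroDiv, Finsupp.sup_apply, div_apply hK.1, ord_inv, Finsupp.coe_zero, Pi.zero_apply,
        Finsupp.add_apply]
      rw [hv, ord_div R hu10 hu00]
      have g0 := huD 0 R
      have g1 := huD 1 R
      rw [val_le_exp_iff R hu00] at g0
      rw [val_le_exp_iff R hu10] at g1
      by_cases h : R.1 (u 0) = exp (D R)
      · rw [ord_of_val_eq R h]
        rw [max_eq_right (by omega)]; ring
      · have h' : R.1 (u 1) = exp (D R) := hu1S R h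
        rw [ord_of_val_eq R h']
        rw [max_eq_left (by omega)]; ring
    have h1 := deg_zeroDiv hK.1 hvinv
    rw [e, deg_add, deg_div hK, add_zero, hdD] at h1
    have e2 : (IntermediateField.adjoin k ({v⁻¹} : Set K)) = k⟮v⟯ := by
      apply le_antisymm <;> rw [IntermediateField.adjoin_le_iff, Set.singleton_subset_iff]
      · exact inv_mem (IntermediateField.mem_adjoin_simple_self k v)
      · have := inv_mem (IntermediateField.mem_adjoin_simple_self k v⁻¹)
        rwa [inv_inv] at this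
    rw [e2] at h1
    exact_mod_cast h1.symm
  have hint : IsIntegral k⟮v⟯ w := Algebra.IsIntegral.isIntegral w
  have hmdeg : (minpoly k⟮v⟯ w).natDegree = d := by
    rw [← IntermediateField.adjoin.finrank hint, hgen, IntermediateField.finrank_top', hrank]
  let pb : PowerBasis k⟮v⟯ K := (IntermediateField.adjoin.powerBasis hint).map
    ((IntermediateField.equivOfEq hgen).trans IntermediateField.topEquiv)
  have hpbgen : pb.gen = w := rfl
  -- derivative
  set η := Polynomial.aeval w (derivative (minpoly k⟮v⟯ w)) with hη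
  have hη0 : η ≠ 0 := (Algebra.IsSeparable.isSeparable k⟮v⟯ w).aeval_derivative_ne_zero (minpoly.aeval _ _)
  have eL : ∀ i, L i = algebraMap k⟮v⟯ K (algebraMap k k⟮v⟯ (A i 0) + algebraMap k k⟮v⟯ (A i 1) * gv) +
      algebraMap k K (A i 2) * w := fun i => by
    rw [map_add, map_mul, hgvv, ← IsScalarTower.algebraMap_apply, ← IsScalarTower.algebraMap_apply]
  obtain ⟨g, γ, hgdeg, hgco, hgw, hgder⟩ := deriv_eval_change f d hdf
    (algebraMap k k⟮v⟯ (A 0 0) + algebraMap k k⟮v⟯ (A 0 1) * gv)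
    (algebraMap k k⟮v⟯ (A 1 0) + algebraMap k k⟮v⟯ (A 1 1) * gv)
    (algebraMap k k⟮v⟯ (A 2 0) + algebraMap k k⟮v⟯ (A 2 1) * gv) (A 0 2) (A 1 2) (A 2 2) w x y
    (by rw [← eL, ← eL]; exact hx') (by rw [← eL, ← eL]; exact hy') hfxy
  rw [← eL] at hgder
  set c0 := algebraMap k K γ with hc0def
  have hgder' : aeval w (derivative g) = c0 * η := by
    have hg : g = Polynomial.C (algebraMap k k⟮v⟯ γ) * minpoly k⟮v⟯ w := by
      by_contra hne'
      set r := g - Polynomial.C (algebraMap k k⟮v⟯ γ) * minpoly k⟮v⟯ w with hr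
      have hr0 : r ≠ 0 := sub_ne_zero.2 hne'
      have hrw : aeval w r = 0 := by rw [hr, map_sub, map_mul, minpoly.aeval, hgw, mul_zero, sub_zero]
      have hle := natDegree_le_of_dvd (minpoly.dvd k⟮v⟯ w hrw) hr0
      rw [hmdeg] at hle
      have hrd : r.natDegree ≤ d := (natDegree_sub_le _ _).trans (max_le hgdeg
        ((natDegree_C_mul_le _ _).trans hmdeg.le))
      have hcd : r.coeff d = 0 := by
        rw [hr, coeff_sub, coeff_C_mul, hgco]
        rw [show (minpoly k⟮v⟯ w).coeff d = 1 from hmdeg ▸ (minpoly.monic hint).coeff_natDegree, mul_one, sub_self]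
      exact hr0 (leadingCoeff_eq_zero.1 (by rwa [leadingCoeff, le_antisymm hrd hle]))
    rw [hg, derivative_C_mul, map_mul, aeval_C, ← IsScalarTower.algebraMap_apply]
  -- implicit differentiation
  set fx := MvPolynomial.aeval ![x, y] (MvPolynomial.pderiv 0 f) with hfx
  have hdf0 : fx * δ x + fy * δ y = 0 := by
    have := derivation_aeval_mv δ ![x, y] f
    rw [hfxy, map_zero, Fin.sum_univ_two] at this
    exact this.symm
  have hLd : ∀ i, δ (L i) = algebraMap k K (A i 1) * δ v + algebraMap k K (A i 2) * δ w := fun i => by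
    simp [hL]
  have hdx : L 0 * δ x + x * δ (L 0) = δ (L 1) := by
    rw [hx', Derivation.leibniz, smul_eq_mul, smul_eq_mul]
  have hdy : L 0 * δ y + y * δ (L 0) = δ (L 2) := by
    rw [hy', Derivation.leibniz, smul_eq_mul, smul_eq_mul]
  rw [hLd, hLd] at hdx hdy
  let a : Fin 3 → Fin 3 → K := fun i j => algebraMap k K (A i j)
  have hdet : (a 2 2 - y * a 0 2) * (a 1 1 - x * a 0 1) - (a 1 2 - x * a 0 2) * (a 2 1 - y * a 0 1) =
      u 0 * algebraMap k K A.det := by
    rw [Matrix.det_fin_three]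
    simp only [map_sub, map_add, map_mul, a, hL] at h0L hxL hyL ⊢
    linear_combination
      -(algebraMap k K (A 1 1) * algebraMap k K (A 2 2) - algebraMap k K (A 1 2) * algebraMap k K (A 2 1)) * h0L
      + (algebraMap k K (A 0 1) * algebraMap k K (A 2 2) - algebraMap k K (A 0 2) * algebraMap k K (A 2 1)) * hxL
      - (algebraMap k K (A 0 1) * algebraMap k K (A 1 2) - algebraMap k K (A 0 2) * algebraMap k K (A 1 1)) * hyL
  have hmain : c0 * η * δ x * L 0 ^ 2 = L 0 ^ d * fy * (u 0 * algebraMap k K A.det) * δ v := by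
    rw [← hdet, ← hgder']
    simp only [a]
    linear_combination (δ x * L 0) * hgder + (L 0 ^ d * L 0 * (algebraMap k K (A 1 2) - x * algebraMap k K (A 0 2))) * hdf0
      + (L 0 ^ d * fy * (algebraMap k K (A 2 2) - y * algebraMap k K (A 0 2))) * hdx
      - (L 0 ^ d * fy * (algebraMap k K (A 1 2) - x * algebraMap k K (A 0 2))) * hdy
  have hAdet : A.det ≠ 0 := by
    rw [hA, Matrix.det_nonsing_inv, Ring.inverse_eq_inv']
    exact inv_ne_zero hB
  have hrhs : L 0 ^ d * fy * (u 0 * algebraMap k K A.det) * δ v ≠ 0 := by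
    simp only [mul_ne_zero_iff]
    exact ⟨⟨⟨pow_ne_zero _ hL0, hfy0⟩, hu00, by simpa using hAdet⟩, hδv⟩
  have hc00 : c0 ≠ 0 := fun h => hrhs (by rw [← hmain, h, zero_mul, zero_mul, zero_mul])
  have hAK : algebraMap k K A.det ≠ 0 := by simpa using hAdet
  have hordeq : ((D.deg - 3) * D Q - LocRes.ordDiff ΦQ fy⁻¹ x) = Q.ord η - Q.ord (δ v) := by
    have hou : Q.ord (u 0) = -(D Q) := ord_of_val_eq Q hu0Q
    have hoL : Q.ord (L 0) = D Q := by
      rw [eq_inv_of_mul_eq_one_right h0L, ord_inv, hou, neg_neg]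
    have hoc : Q.ord c0 = 0 := ord_eq_zero_of_isAlgebraic Q (isAlgebraic_algebraMap _)
    have hoA : Q.ord (algebraMap k K A.det) = 0 := ord_eq_zero_of_isAlgebraic Q (isAlgebraic_algebraMap _)
    have h := congrArg Q.ord hmain
    rw [ord_mul Q (mul_ne_zero (mul_ne_zero hc00 hη0) hδx) (pow_ne_zero _ hL0),
      ord_mul Q (mul_ne_zero hc00 hη0) hδx, ord_mul Q hc00 hη0, ord_pow,
      ord_mul Q (mul_ne_zero (mul_ne_zero (pow_ne_zero _ hL0) hfy0) (mul_ne_zero hu00 hAK)) hδv,
      ord_mul Q (mul_ne_zero (pow_ne_zero _ hL0) hfy0) (mul_ne_zero hu00 hAK), ord_mul Q hu00 hAK,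
      ord_mul Q (pow_ne_zero _ hL0) hfy0, ord_pow, hoL, hou, hoc, hoA] at h
    rw [hord, ← dD_apply hH, ← hδdef, ord_mul Q (inv_ne_zero hfy0) hδx, ord_inv, hdD]
    push_cast at h ⊢
    linear_combination -h
  -- the place below
  obtain ⟨P, hP⟩ := exists_below (K := k⟮v⟯) hK0.1 Q
  have hgP : P.1 gv ≤ 1 := (val_algebraMap_le_one_iff hP gv).1 (by rw [hgvv]; exact hvQ)
  obtain ⟨a0, ha0⟩ := exists_residue hK0 P hgP
  have hgtr : Transcendental k gv := fun h => hvs.transcendental (by rw [← hgvv]; exact h.algHom k⟮v⟯.val)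
  set tP := gv - algebraMap k k⟮v⟯ a0 with htP
  have htP0 : tP ≠ 0 := fun h => notMem_of_transcendental hgtr ⟨a0, (sub_eq_zero.1 h).symm⟩
  have hrep : ∀ c : k⟮v⟯, ∃ p q : k[X], c = Polynomial.aeval gv p / Polynomial.aeval gv q := fun c => by
    obtain ⟨p, q, hpq⟩ := (IntermediateField.mem_adjoin_simple_iff k _).1 c.2
    refine ⟨p, q, Subtype.ext ?_⟩
    have e : ∀ r : k[X], ((Polynomial.aeval gv r : k⟮v⟯) : K) = Polynomial.aeval v r := fun r =>
      (Polynomial.aeval_algHom_apply k⟮v⟯.val gv r).symm.trans (congrArg (fun z : K => Polynomial.aeval z r) hgvv)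
    rw [IntermediateField.coe_div, e, e, hpq]
  have haev : ∀ r : k[X], algebraMap k⟮v⟯ K (Polynomial.aeval gv r) = Polynomial.aeval v r := fun r => by
    rw [← Polynomial.aeval_algebraMap_apply, hgvv]
  have htPord : P.1 tP = exp (-1 : ℤ) := by
    obtain ⟨c, hc'⟩ := exists_uniformizer P
    obtain ⟨p, q, hpq⟩ := hrep c
    have hc0' : c ≠ 0 := ne_zero_of_val_eq_exp P hc'
    have hp : Polynomial.aeval gv p ≠ 0 := fun h => hc0' (by rw [hpq, h, zero_div])
    have hq : Polynomial.aeval gv q ≠ 0 := fun h => hc0' (by rw [hpq, h, div_zero])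
    have h1 := ord_of_val_eq P hc'
    rw [hpq, ord_div P hp hq, ord_aeval ha0 hgP htP0 (fun h => hp (by rw [h, map_zero])),
      ord_aeval ha0 hgP htP0 (fun h => hq (by rw [h, map_zero])), ← sub_mul] at h1
    have hu' : P.ord tP = 1 :=
      Int.eq_one_of_mul_eq_one_left ((val_lt_one_iff P htP0).1 ha0).le (by rw [h1]; norm_num)
    rw [val_eq_exp_ord P htP0, hu']
  -- subrings
  set R0 := Algebra.adjoin k ({v, w} : Set K) with hR0
  have hvR : v ∈ R0 := Algebra.subset_adjoin (by simp)
  have hwR0 : w ∈ R0 := Algebra.subset_adjoin (by simp)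
  have hpolyR : ∀ r : k[X], Polynomial.aeval v r ∈ R0 := fun r =>
    Algebra.adjoin_mono (by simp : ({v} : Set K) ⊆ {v, w}) (Polynomial.aeval_mem_adjoin_singleton k v)
  have hcR : ∀ c : k⟮v⟯, P.1 c ≤ 1 → algebraMap k⟮v⟯ K c ∈ locSubring R0 Q := by
    intro c hc1
    rcases eq_or_ne c 0 with rfl | hc0'
    · rw [map_zero]; exact zero_mem _
    obtain ⟨p, q, hpq⟩ := hrep c
    have hp : Polynomial.aeval gv p ≠ 0 := fun h => hc0' (by rw [hpq, h, zero_div])
    have hq : Polynomial.aeval gv q ≠ 0 := fun h => hc0' (by rw [hpq, h, div_zero])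
    have hp0 : p ≠ 0 := fun h => hp (by rw [h, map_zero])
    have hq0 : q ≠ 0 := fun h => hq (by rw [h, map_zero])
    obtain ⟨p', hp', -⟩ := exists_eq_pow_rootMultiplicity_mul_and_not_dvd p hp0 a0
    obtain ⟨q', hq', hqa⟩ := exists_eq_pow_rootMultiplicity_mul_and_not_dvd q hq0 a0
    set l := p.rootMultiplicity a0
    set m := q.rootMultiplicity a0
    have hml : m ≤ l := by
      have h1 : 0 ≤ P.ord c := (val_le_one_iff P c).1 hc1
      rw [hpq, ord_div P hp hq, ord_aeval ha0 hgP htP0 hp0, ord_aeval ha0 hgP htP0 hq0,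
        ord_of_val_eq P htPord] at h1
      push_cast at h1
      omega
    have hq'0 : q' ≠ 0 := fun h => hq0 (by rw [hq', h, mul_zero])
    have hval : Q.1 (Polynomial.aeval v q') = 1 := by
      rw [← haev]
      have hz : Polynomial.aeval gv q' ≠ 0 := fun h => hq (by rw [hq', map_mul, h, mul_zero])
      have hPv : P.ord (Polynomial.aeval gv q') = 0 := by
        rw [ord_aeval ha0 hgP htP0 hq'0, rootMultiplicity_eq_zero (fun h => hqa (dvd_iff_isRoot.2 h))]
        simp
      obtain ⟨e, he⟩ := hP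
      rw [he, val_eq_exp_ord P hz, hPv, neg_zero, exp_zero, one_pow]
    refine ⟨Polynomial.aeval v ((X - Polynomial.C a0) ^ (l - m) * p'), hpolyR _, Polynomial.aeval v q', hpolyR _,
      hval, ?_⟩
    rw [← haev, ← haev, ← map_mul]
    congr 1
    have hp2 : Polynomial.aeval gv p = tP ^ l * Polynomial.aeval gv p' := by
      conv_lhs => rw [hp']
      simp [htP]
    have hq2 : Polynomial.aeval gv q = tP ^ m * Polynomial.aeval gv q' := by
      conv_lhs => rw [hq']
      simp [htP]
    have hqz : Polynomial.aeval gv q' ≠ 0 := fun h => hq (by rw [hq2, h, mul_zero])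
    rw [hpq, hp2, hq2, map_mul, map_pow, map_sub, aeval_X, aeval_C, ← htP,
      show tP ^ l = tP ^ m * tP ^ (l - m) by rw [← pow_add]; congr 1; omega]
    field_simp
  have hS_R : ordRing P pb.gen ≤ locSubring R0 Q := by
    rw [hpbgen]
    refine Subring.closure_le.2 ?_
    rintro _ (⟨c, hc', rfl⟩ | rfl)
    · exact hcR c hc'
    · exact le_locSubring R0 Q hwR0
  have hR_S : ∀ z ∈ R0, z ∈ ordRing P pb.gen := by
    rw [hpbgen]
    intro z hz
    induction hz using Algebra.adjoin_induction with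
    | mem z hz =>
      rcases hz with rfl | rfl
      · exact Subring.subset_closure (Or.inl ⟨gv, hgP, hgvv⟩)
      · exact Subring.subset_closure (Or.inr rfl)
    | algebraMap c =>
      rw [IsScalarTower.algebraMap_apply k k⟮v⟯ K]
      exact Subring.subset_closure (Or.inl ⟨_, P.2.1 c, rfl⟩)
    | add a b _ _ ha hb => exact add_mem ha hb
    | mul a b _ _ ha hb => exact mul_mem ha hb
  -- coefficient integrality
  have hPR : ∀ R, IsOver R P → R.1 w ≤ 1 := fun R hR =>
    hwR R (by rw [← hgvv]; exact (val_algebraMap_le_one_iff hR gv).2 hgP)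
  have hmint : ∀ j, P.1 ((minpoly k⟮v⟯ pb.gen).coeff j) ≤ 1 := by
    rw [hpbgen]
    intro j
    letI : Algebra P.O K := ((algebraMap k⟮v⟯ K).comp P.O.subtype).toAlgebra
    haveI : IsScalarTower P.O k⟮v⟯ K := IsScalarTower.of_algebraMap_eq fun _ => rfl
    have hi : IsIntegral P.O w := (isIntegral_iff_mem_IntP hK0.1 w).2 (mem_IntP.2 hPR)
    rw [minpoly.isIntegrallyClosed_eq_field_fractions' k⟮v⟯ hi, coeff_map]
    exact (mem_O P).1 ((minpoly P.O w).coeff j).2
  -- expansions
  obtain ⟨Φ, hΦ⟩ := exists_expansions hK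
  let Φ' : Place k K → (K →ₐ[k] LaurentSeries k) := Function.update Φ Q ΦQ
  have hΦ' : ∀ R, LocRes.IsExpansionAt R.1 (Φ' R) := fun R => by
    by_cases h : R = Q
    · subst h; simp only [Φ', Function.update_self]; exact hΦQ
    · simp only [Φ', Function.update_of_ne h]; exact hΦ R
  have hDt : LocRes.ordDiff (Φ' Q) 1 (algebraMap k⟮v⟯ K tP) = Q.ord (δ v) := by
    simp only [Φ', Function.update_self]
    rw [htP, map_sub, hgvv, ← IsScalarTower.algebraMap_apply, hord, one_mul, ← dD_apply hH,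
      ← hδdef, map_sub, Derivation.map_algebraMap, sub_zero]
  obtain ⟨h1, h2⟩ := ordDiff_le_ord_deriv hK0 hK pb hmint htPord hΦ' hP
  rw [hpbgen, ← hη, hDt] at h1 h2
  -- nonsingularity
  have hLR : ∀ i, L i ∈ R0 := fun i =>
    add_mem (add_mem (R0.algebraMap_mem _) (mul_mem (R0.algebraMap_mem _) hvR)) (mul_mem (R0.algebraMap_mem _) hwR0)
  have hns : IsNonsingularAt φ Q ↔ ∀ z : K, Q.1 z ≤ 1 → z ∈ locSubring R0 Q := by
    have hmax : ∀ j, (∀ i, Q.1 (φ i) ≤ Q.1 (φ j)) → Q.1 (φ j) = Q.1 (u 0) := fun j hj => by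
      refine le_antisymm (hu0Q ▸ hF.mem j Q) ?_
      refine Valuation.map_sum_le _ fun i _ => ?_
      rw [map_mul]
      exact (mul_le_of_le_one_left zero_le (Q.2.1 _)).trans (hj i)
    refine ⟨fun h z hz => ?_, fun h z hz => ?_⟩
    · obtain ⟨j, hj0, hj, a, ha, b, hb, hb1, hab⟩ := h z hz
      have hle : ∀ e ∈ Algebra.adjoin k (Set.range fun i => φ i / φ j), e ∈ locSubring R0 Q := by
        intro e he
        induction he using Algebra.adjoin_induction with
        | mem e he =>
          obtain ⟨i, rfl⟩ := he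
          have hQL : Q.1 (L j) = 1 := by
            have h' := congrArg Q.1 (hφL j)
            rw [map_mul, hmax j hj] at h'
            exact (mul_eq_left₀ ((Valuation.ne_zero_iff _).2 hu00)).1 h'.symm
          show φ i / φ j ∈ locSubring R0 Q
          rw [hφL i, hφL j, mul_div_mul_left _ _ hu00]
          exact div_mem_locSubring (le_locSubring _ _ (hLR i)) (le_locSubring _ _ (hLR j)) hQL
        | algebraMap c => exact le_locSubring _ _ (R0.algebraMap_mem c)
        | add a b _ _ ha hb => exact add_mem ha hb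
        | mul a b _ _ ha hb => exact mul_mem ha hb
      have hb0 : b ≠ 0 := fun e => by simp [e] at hb1
      rw [show z = a / b by rw [← hab, mul_div_cancel_right₀ _ hb0]]
      exact div_mem_locSubring (hle a ha) (hle b hb) hb1
    · obtain ⟨j, -, hj⟩ := Finset.exists_max_image Finset.univ (fun i => Q.1 (φ i)) Finset.univ_nonempty
      have hj' : ∀ i, Q.1 (φ i) ≤ Q.1 (φ j) := fun i => hj i (Finset.mem_univ _)
      have hju := hmax j hj'
      have hj0 : φ j ≠ 0 := fun e => by
        rw [e, map_zero] at hju; exact (Valuation.ne_zero_iff _).2 hu00 hju.symm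
      set Rj := Algebra.adjoin k (Set.range fun i => φ i / φ j) with hRj
      have huj : ∀ i, u i / φ j ∈ Rj := fun i => by
        rw [hu]
        simp only [Finset.sum_div, mul_div_assoc]
        exact sum_mem fun l _ => mul_mem (Rj.algebraMap_mem _) (Algebra.subset_adjoin ⟨l, rfl⟩)
      have hdiv : ∀ i, u i / u 0 ∈ locSubring Rj Q := fun i => by
        rw [show u i / u 0 = (u i / φ j) / (u 0 / φ j) by rw [div_div_div_cancel_right₀ hj0]]
        exact div_mem_locSubring (le_locSubring _ _ (huj i)) (le_locSubring _ _ (huj 0))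
          (by rw [map_div₀, hju, div_self ((Valuation.ne_zero_iff _).2 hu00)])
      have hle : ∀ e ∈ R0, e ∈ locSubring Rj Q := by
        intro e he
        induction he using Algebra.adjoin_induction with
        | mem e he =>
          rcases he with rfl | rfl
          · exact hdiv 1
          · exact hdiv 2
        | algebraMap c => exact le_locSubring _ _ (Rj.algebraMap_mem c)
        | add a b _ _ ha hb => exact add_mem ha hb
        | mul a b _ _ ha hb => exact mul_mem ha hb
      obtain ⟨a, ha, b, hb, hb1, hab⟩ := h z hz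
      have hb0 : b ≠ 0 := fun e => by simp [e] at hb1
      have hz' : z ∈ locSubring Rj Q := by
        rw [show z = a / b by rw [← hab, mul_div_cancel_right₀ _ hb0]]
        exact div_mem_locSubring (hle a ha) (hle b hb) hb1
      obtain ⟨a', ha', b', hb', hb1', hab'⟩ := hz'
      exact ⟨j, hj0, hj', a', ha', b', hb', hb1', hab'⟩
  rw [hordeq, hns]
  refine ⟨by omega, fun h z hz => ?_, fun h => ?_⟩
  · obtain ⟨a, ha, b, hb, hb1, hab⟩ := h2 (by omega) z hz
    have hb0 : b ≠ 0 := fun e => by simp [e] at hb1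
    rw [show z = a / b by rw [← hab, mul_div_cancel_right₀ _ hb0]]
    exact div_mem_locSubring (hS_R ha) (hS_R hb) hb1
  · have h3 := ord_deriv_le_ordDiff hK0 hK pb hmint htPord hΦ' hP (fun z hz => by
      obtain ⟨a, ha, b, hb, hb1, hab⟩ := h z hz
      exact ⟨a, hR_S a ha, b, hR_S b hb, hb1, hab⟩)
    rw [hpbgen, ← hη, hDt] at h3
    omega

end


end Groth.Agent.FFWr
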