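import Groth.Agent.FFWr.Cotrace

/-! Euler's trace formula: the conductor of a monogenic order at a place, read by differentials. -/

set_option autoImplicit false
set_option linter.style.haveILetI false
set_option linter.unusedSectionVars false

open FunFld WithZero Groth.Agent.FF Polynomial

namespace Groth.Agent.FFWr

/-- elements that are quotients of elements of `R` with denominator a unit at `Q` -/
def locSubring {k K : Type*} [Field k] [Field K] [Algebra k K] (R : Subalgebra k K) (Q : Place k K) :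
    Subring K where
  carrier := {z | ∃ u ∈ R, ∃ w ∈ R, Q.1 w = 1 ∧ z * w = u}
  one_mem' := ⟨1, one_mem R, 1, one_mem R, map_one _, one_mul 1⟩
  zero_mem' := ⟨0, zero_mem R, 1, one_mem R, map_one _, zero_mul 1⟩
  mul_mem' := by
    rintro a b ⟨u, hu, w, hw, hv, he⟩ ⟨u', hu', w', hw', hv', he'⟩
    exact ⟨u * u', mul_mem hu hu', w * w', mul_mem hw hw', by rw [map_mul, hv, hv', one_mul],
      by rw [← he, ← he']; ring⟩
  add_mem' := by
    rintro a b ⟨u, hu, w, hw, hv, he⟩ ⟨u', hu', w', hw', hv', he'⟩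
    exact ⟨u * w' + u' * w, add_mem (mul_mem hu hw') (mul_mem hu' hw), w * w', mul_mem hw hw',
      by rw [map_mul, hv, hv', one_mul], by rw [← he, ← he']; ring⟩
  neg_mem' := by
    rintro a ⟨u, hu, w, hw, hv, he⟩
    exact ⟨-u, neg_mem hu, w, hw, hv, by rw [← he, neg_mul]⟩

lemma le_locSubring {k K : Type*} [Field k] [Field K] [Algebra k K] (R : Subalgebra k K) (Q : Place k K)
    {z : K} (hz : z ∈ R) : z ∈ locSubring R Q :=
  ⟨z, hz, 1, one_mem R, map_one _, mul_one z⟩

lemma div_mem_locSubring {k K : Type*} [Field k] [Field K] [Algebra k K] {R : Subalgebra k K} {Q : Place k K}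
    {a b : K} (ha : a ∈ locSubring R Q) (hb : b ∈ locSubring R Q) (hb1 : Q.1 b = 1) :
    a / b ∈ locSubring R Q := by
  obtain ⟨u, hu, w, hw, hv, he⟩ := ha
  obtain ⟨u', hu', w', hw', hv', he'⟩ := hb
  have hb0 : b ≠ 0 := fun h => by simp [h] at hb1
  refine ⟨u * w', mul_mem hu hw', w * u', mul_mem hw hu', ?_, ?_⟩
  · rw [map_mul, hv, ← he', map_mul, hb1, hv', one_mul, one_mul]
  · rw [← he, ← he']; field_simp

variable {k K0 K : Type*} [Field k] [IsAlgClosed k] [Field K0] [Field K] [Algebra k K0] [Algebra k K]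
  [Algebra K0 K] [IsScalarTower k K0 K] [FiniteDimensional K0 K] [Algebra.IsSeparable K0 K]

/-- the order `O_P[y]` -/
def ordRing (P : Place k K0) (y : K) : Subring K :=
  Subring.closure ((algebraMap K0 K '' {c | P.1 c ≤ 1}) ∪ {y})

section

variable (hK0 : IsFunctionField k K0) (hK : IsFunctionField k K) {P : Place k K0}
  (pb : PowerBasis K0 K) (hm : ∀ j, P.1 ((minpoly K0 pb.gen).coeff j) ≤ 1)

include hm

lemma gen_le_one {Q : Place k K} (hQ : IsOver Q P) : Q.1 pb.gen ≤ 1 := by
  by_contra h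
  rw [not_le] at h
  have hmon := minpoly.monic (Algebra.IsIntegral.isIntegral (R := K0) pb.gen)
  have h0 := minpoly.aeval K0 pb.gen
  rw [aeval_eq_sum_range] at h0
  have h1 := Valuation.map_sum_eq_of_lt (v := Q.1) (s := Finset.range ((minpoly K0 pb.gen).natDegree + 1))
    (j := (minpoly K0 pb.gen).natDegree) (f := fun i => (minpoly K0 pb.gen).coeff i • pb.gen ^ i) (by simp) ?_
  · rw [h0, map_zero, hmon.coeff_natDegree, one_smul, map_pow] at h1
    exact pow_ne_zero _ (fun e => by rw [e] at h; exact not_lt_zero' h) h1.symm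
  · intro i hi
    simp only [Finset.mem_sdiff, Finset.mem_range, Finset.mem_singleton] at hi
    rw [hmon.coeff_natDegree, one_smul, Algebra.smul_def, map_mul, map_pow, map_pow]
    exact (mul_le_of_le_one_left zero_le ((val_algebraMap_le_one_iff hQ _).2 (hm i))).trans_lt
      (pow_lt_pow_right₀ h (by omega))

lemma ordRing_le_one {Q : Place k K} (hQ : IsOver Q P) {z : K} (hz : z ∈ ordRing P pb.gen) : Q.1 z ≤ 1 := by
  have hle : ordRing P pb.gen ≤ Q.O.toSubring := by
    refine Subring.closure_le.2 ?_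
    rintro _ (⟨c, hc, rfl⟩ | rfl)
    · exact (mem_O Q).2 ((val_algebraMap_le_one_iff hQ c).2 hc)
    · exact (mem_O Q).2 (gen_le_one pb hm hQ)
  exact (mem_O Q).1 (hle hz)

/-- the coefficients of `m / (X - y)` lie in `O_P[y]` -/
lemma minpolyDiv_coeff_mem (i : ℕ) : (minpolyDiv K0 pb.gen).coeff i ∈ ordRing P pb.gen := by
  suffices h : ∀ d i, pb.dim ≤ i + d → (minpolyDiv K0 pb.gen).coeff i ∈ ordRing P pb.gen from
    h pb.dim i (by omega)
  intro d
  induction d with
  | zero =>
    intro i hi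
    rw [coeff_eq_zero_of_natDegree_lt ?_]
    · exact zero_mem _
    · rw [natDegree_minpolyDiv, pb.natDegree_minpoly]
      have := pb.dim_pos
      omega
  | succ d ih =>
    intro i hi
    rw [coeff_minpolyDiv]
    exact add_mem (Subring.subset_closure (Or.inl ⟨_, hm _, rfl⟩))
      (mul_mem (ih (i + 1) (by omega)) (Subring.subset_closure (Or.inr rfl)))

/-- elements of `O_P[y]` have integral coordinates -/
lemma repr_le_one_of_mem {z : K} (hz : z ∈ ordRing P pb.gen) : ∀ i, P.1 (pb.basis.repr z i) ≤ 1 := by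
  classical
  let C : Set K := {a | ∀ i, P.1 (pb.basis.repr a i) ≤ 1}
  have hadd : ∀ a ∈ C, ∀ b ∈ C, a + b ∈ C := fun a ha b hb i => by
    rw [map_add, Finsupp.add_apply]; exact Valuation.map_add_le _ (ha i) (hb i)
  have hsmul : ∀ c : K0, P.1 c ≤ 1 → ∀ a ∈ C, c • a ∈ C := fun c hc a ha i => by
    rw [map_smul, Finsupp.smul_apply, smul_eq_mul, map_mul]; exact mul_le_one' hc (ha i)
  have hzero : (0 : K) ∈ C := fun i => by simp
  have hbasis : ∀ j, pb.basis j ∈ C := fun j i => by
    rw [pb.basis.repr_self, Finsupp.single_apply]; split_ifs <;> simp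
  have hgen : ∀ j : Fin pb.dim, pb.gen * pb.basis j ∈ C := by
    intro j
    rw [pb.coe_basis, ← pow_succ']
    rcases Nat.lt_or_ge ((j : ℕ) + 1) pb.dim with h | h
    · have := hbasis ⟨(j : ℕ) + 1, h⟩
      rwa [pb.coe_basis] at this
    · have hj : (j : ℕ) + 1 = pb.dim := by have := j.2; omega
      have h' := minpoly.aeval K0 pb.gen
      rw [aeval_eq_sum_range, pb.natDegree_minpoly, Finset.sum_range_succ, ← pb.natDegree_minpoly,
        (minpoly.monic (Algebra.IsIntegral.isIntegral pb.gen)).coeff_natDegree, one_smul,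
        pb.natDegree_minpoly] at h'
      rw [hj, show pb.gen ^ pb.dim = ∑ i : Fin pb.dim, (-(minpoly K0 pb.gen).coeff i) • pb.basis i by
        simp only [pb.coe_basis, neg_smul, Finset.sum_neg_distrib,
          Fin.sum_univ_eq_sum_range (fun i => (minpoly K0 pb.gen).coeff i • pb.gen ^ i)]
        linear_combination h']
      intro i
      rw [pb.basis.repr_sum_self (fun i : Fin pb.dim => -(minpoly K0 pb.gen).coeff i), Valuation.map_neg]
      exact hm i
  have hmul : ∀ s ∈ ordRing P pb.gen, ∀ a ∈ C, s * a ∈ C := by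
    intro s hs
    induction hs using Subring.closure_induction with
    | mem s hs =>
      intro a ha
      rcases hs with ⟨c, hc, rfl⟩ | rfl
      · rw [← Algebra.smul_def]; exact hsmul c hc a ha
      · rw [← pb.basis.sum_repr a, Finset.mul_sum]
        refine Finset.sum_induction _ (· ∈ C) (fun x y hx hy => hadd x hx y hy) hzero fun j _ => ?_
        rw [mul_smul_comm]
        exact hsmul _ (ha j) _ (hgen j)
    | zero => intro a _; rw [zero_mul]; exact hzero
    | one => intro a ha; rwa [one_mul]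
    | add x y _ _ hx hy => intro a ha; rw [add_mul]; exact hadd _ (hx a ha) _ (hy a ha)
    | neg x _ hx =>
      intro a ha i
      rw [neg_mul, map_neg, Finsupp.neg_apply, Valuation.map_neg]
      exact hx a ha i
    | mul x y _ _ hx hy => intro a ha; rw [mul_assoc]; exact hx _ (hy a ha)
  have h1 : (1 : K) ∈ C := by
    have := hbasis ⟨0, pb.dim_pos⟩
    simpa [pb.coe_basis] using this
  intro i
  have := hmul z hz 1 h1 i
  rwa [mul_one] at this

/-- Euler: traces of `O_P[y] / m'(y)` are integral -/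
lemma trace_div_le_one {z : K} (hz : z ∈ ordRing P pb.gen) :
    P.1 (Algebra.trace K0 K (z / aeval pb.gen (derivative (minpoly K0 pb.gen)))) ≤ 1 := by
  set η := aeval pb.gen (derivative (minpoly K0 pb.gen)) with hη
  have hlast : pb.dim - 1 < pb.dim := Nat.sub_lt pb.dim_pos Nat.one_pos
  have hdual : ∀ i : Fin pb.dim,
      Algebra.trace K0 K (pb.basis i / η) = if (i : ℕ) = pb.dim - 1 then 1 else 0 := by
    intro i
    have h := pb.basis.trace_mul_traceDual i ⟨pb.dim - 1, hlast⟩
    rw [Module.Basis.traceDual_powerBasis_eq pb] at h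
    have h1' : (minpolyDiv K0 pb.gen).coeff (pb.dim - 1) = 1 := by
      have hm := minpolyDiv_monic (R := K0) (x := pb.gen) (Algebra.IsIntegral.isIntegral pb.gen)
      rwa [Monic, leadingCoeff, natDegree_minpolyDiv, pb.natDegree_minpoly] at hm
    simp only [h1', one_div, Fin.ext_iff] at h
    rw [div_eq_mul_inv]
    exact h
  have hrep := repr_le_one_of_mem pb hm hz
  rw [← pb.basis.sum_repr z, Finset.sum_div, map_sum]
  refine Valuation.map_sum_le _ fun i _ => ?_
  rw [smul_div_assoc, map_smul, hdual i, smul_eq_mul]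
  split_ifs
  · rw [mul_one]; exact hrep i
  · simp

omit hm in
lemma mul_deriv_eq (z : K) : z * aeval pb.gen (derivative (minpoly K0 pb.gen)) =
    ∑ i : Fin pb.dim, Algebra.trace K0 K (z * pb.gen ^ (i : ℕ)) • (minpolyDiv K0 pb.gen).coeff i := by
  have hη0 : aeval pb.gen (derivative (minpoly K0 pb.gen)) ≠ 0 :=
    (Algebra.IsSeparable.isSeparable K0 pb.gen).aeval_derivative_ne_zero (minpoly.aeval _ _)
  conv_lhs => rw [← pb.basis.traceDual.sum_repr z]
  rw [Finset.sum_mul]
  refine Finset.sum_congr rfl fun i _ => ?_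
  rw [smul_mul_assoc, Module.Basis.traceDual_powerBasis_eq pb, div_mul_cancel₀ _ hη0,
    Module.Basis.traceDual_repr_apply, Algebra.traceForm_apply, pb.coe_basis]

lemma mul_deriv_mem {z : K} (hz : ∀ w ∈ ordRing P pb.gen, P.1 (Algebra.trace K0 K (z * w)) ≤ 1) :
    z * aeval pb.gen (derivative (minpoly K0 pb.gen)) ∈ ordRing P pb.gen := by
  rw [mul_deriv_eq pb z]
  refine sum_mem fun i _ => ?_
  rw [Algebra.smul_def]
  exact mul_mem (Subring.subset_closure
    (Or.inl ⟨_, hz _ (pow_mem (show pb.gen ∈ ordRing P pb.gen from Subring.subset_closure (Or.inr rfl)) _), rfl⟩)) (minpolyDiv_coeff_mem pb hm i)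

variable {t : K0} (ht : P.1 t = exp (-1 : ℤ))
  {Φ : Place k K → (K →ₐ[k] LaurentSeries k)} (hΦ : ∀ Q : Place k K, LocRes.IsExpansionAt Q.1 (Φ Q))

include hK0 hK ht hΦ

/-- `ord m'(y) ≥ ord dt`, with equality only if the order is maximal -/
theorem ordDiff_le_ord_deriv {Q : Place k K} (hQ : IsOver Q P) :
    LocRes.ordDiff (Φ Q) 1 (algebraMap K0 K t) ≤ Q.ord (aeval pb.gen (derivative (minpoly K0 pb.gen))) ∧
    (LocRes.ordDiff (Φ Q) 1 (algebraMap K0 K t) = Q.ord (aeval pb.gen (derivative (minpoly K0 pb.gen))) →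
      ∀ z : K, Q.1 z ≤ 1 → ∃ a ∈ ordRing P pb.gen, ∃ b ∈ ordRing P pb.gen, Q.1 b = 1 ∧ z * b = a) := by
  classical
  set η := aeval pb.gen (derivative (minpoly K0 pb.gen)) with hη
  have hη0 : η ≠ 0 := (Algebra.IsSeparable.isSeparable K0 pb.gen).aeval_derivative_ne_zero (minpoly.aeval _ _)
  set D : Place k K → ℤ := fun R => LocRes.ordDiff (Φ R) 1 (algebraMap K0 K t) with hD
  have hfin := finite_over (K' := K) hK0.1 P
  set S := hfin.toFinset with hS
  have hmemS : ∀ R, R ∈ S ↔ IsOver R P := fun R => hfin.mem_toFinset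
  obtain ⟨θ, c, h1, h2⟩ := exists_local_gen hK0 hK P
  have hiff := trace_dual_iff hK0 hK h1 h2 ht hΦ (D := D) (fun R _ => rfl)
  obtain ⟨u0, hu0⟩ := exists_val Q (D Q)
  obtain ⟨z0, hz0⟩ := approx S (fun R => if R = Q then u0 else 0) (fun R => if R = Q then D Q - 1 else D R)
  have hz0Q : Q.1 z0 = exp (D Q) := by
    have h := hz0 Q ((hmemS Q).2 hQ)
    rw [if_pos rfl, if_pos rfl] at h
    rw [show z0 = (z0 - u0) + u0 by ring, Valuation.map_add_eq_of_lt_right _ (h.trans_lt
      (by rw [hu0, exp_lt_exp]; omega)), hu0]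
  have hz0all : ∀ R, IsOver R P → R.1 z0 ≤ exp (D R) := fun R hR => by
    by_cases e : R = Q
    · subst e; exact hz0Q.le
    · have h := hz0 R ((hmemS R).2 hR)
      rwa [if_neg e, if_neg e, sub_zero] at h
  have hmem : ∀ a : K, (∀ R, IsOver R P → R.1 a ≤ 1) → z0 * a * η ∈ ordRing P pb.gen := fun a ha => by
    refine mul_deriv_mem pb hm fun w hw => ?_
    rw [mul_assoc]
    exact (hiff z0).1 hz0all _ fun R hR => by
      rw [map_mul]; exact mul_le_one' (ha R hR) (ordRing_le_one pb hm hR hw)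
  have hηv := val_eq_exp_ord Q hη0
  have hone : z0 * η ∈ ordRing P pb.gen := by
    have := hmem 1 (fun R _ => le_of_eq (map_one _))
    rwa [mul_one] at this
  refine ⟨?_, fun heq z hz => ?_⟩
  · have h := ordRing_le_one pb hm hQ hone
    rw [map_mul, hz0Q, hηv, ← exp_add, ← exp_zero, exp_le_exp] at h
    simp only [hD] at h
    omega
  · obtain ⟨b, hb⟩ := approx S (fun R => if R = Q then (1 : K) else 0)
      (fun R => if R = Q then (-1 : ℤ) else min 0 (R.ord z))
    have hbQ : Q.1 b = 1 := by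
      have h := hb Q ((hmemS Q).2 hQ)
      rw [if_pos rfl, if_pos rfl] at h
      rw [show b = (b - 1) + 1 by ring, Valuation.map_add_eq_of_lt_right _ (h.trans_lt
        (by rw [map_one, ← exp_zero, exp_lt_exp]; norm_num)), map_one]
    have hbR : ∀ R, IsOver R P → R.1 b ≤ 1 ∧ R.1 (z * b) ≤ 1 := fun R hR => by
      by_cases e : R = Q
      · subst e; exact ⟨hbQ.le, by rw [map_mul, hbQ, mul_one]; exact hz⟩
      · have h := hb R ((hmemS R).2 hR)
        rw [if_neg e, if_neg e, sub_zero] at h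
        refine ⟨h.trans (by rw [← exp_zero, exp_le_exp]; exact min_le_left _ _), ?_⟩
        rcases eq_or_ne z 0 with rfl | hz'
        · simp
        · rw [map_mul, val_eq_exp_ord R hz']
          refine (mul_le_mul' le_rfl h).trans ?_
          rw [← exp_add, ← exp_zero, exp_le_exp]
          have := min_le_right (0 : ℤ) (R.ord z)
          omega
    refine ⟨z0 * (z * b) * η, hmem _ (fun R hR => (hbR R hR).2), z0 * b * η,
      hmem _ (fun R hR => (hbR R hR).1), ?_, by ring⟩
    rw [map_mul, map_mul, hbQ, mul_one, hz0Q, hηv, ← exp_add, ← exp_zero, exp_inj]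
    simp only [hD]
    omega

/-- if the local ring is maximal, `ord m'(y) ≤ ord dt` -/
theorem ord_deriv_le_ordDiff {Q : Place k K} (hQ : IsOver Q P)
    (hloc : ∀ z : K, Q.1 z ≤ 1 → ∃ a ∈ ordRing P pb.gen, ∃ b ∈ ordRing P pb.gen, Q.1 b = 1 ∧ z * b = a) :
    Q.ord (aeval pb.gen (derivative (minpoly K0 pb.gen))) ≤ LocRes.ordDiff (Φ Q) 1 (algebraMap K0 K t) := by
  classical
  set η := aeval pb.gen (derivative (minpoly K0 pb.gen)) with hη
  have hη0 : η ≠ 0 := (Algebra.IsSeparable.isSeparable K0 pb.gen).aeval_derivative_ne_zero (minpoly.aeval _ _)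
  obtain ⟨θ, c, h1, h2⟩ := exists_local_gen hK0 hK P
  have hiff := trace_dual_iff hK0 hK h1 h2 ht hΦ (D := fun R => LocRes.ordDiff (Φ R) 1 (algebraMap K0 K t))
    (fun R _ => rfl)
  obtain ⟨pb', hgen', hdim'⟩ := exists_powerBasis hK0 hK (linearIndependent_pow hK0 hK h1 h2)
  choose a ha b hb hbQ hab using fun i : Fin pb'.dim => hloc (pb'.basis i) (by
    rw [pb'.coe_basis, hgen', map_pow]
    exact pow_le_one₀ zero_le (gen_val_le hK0 hK h1 Q hQ))
  set W := ∏ i, b i with hW
  have hWQ : Q.1 W = 1 := by rw [hW, map_prod]; exact Finset.prod_eq_one fun i _ => hbQ i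
  have key : ∀ w, (∀ R, IsOver R P → R.1 w ≤ 1) → W * w ∈ ordRing P pb.gen := by
    intro w hw
    have hrep := repr_le_one hK0 hK h1 h2 pb' hgen' hdim' hw
    rw [← pb'.basis.sum_repr w, Finset.mul_sum]
    refine sum_mem fun i _ => ?_
    rw [mul_smul_comm, Algebra.smul_def, hW, ← Finset.prod_erase_mul _ b (Finset.mem_univ i),
      mul_assoc (∏ j ∈ Finset.univ.erase i, b j), mul_comm (b i), hab]
    exact mul_mem (Subring.subset_closure (Or.inl ⟨_, hrep i, rfl⟩))
      (mul_mem (prod_mem fun j _ => hb j) (ha i))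
  have h := (hiff (W / η)).2 (fun w hw => by rw [div_mul_eq_mul_div]; exact trace_div_le_one pb hm (key w hw)) Q hQ
  rw [map_div₀, hWQ, val_eq_exp_ord Q hη0, one_div, ← exp_neg, neg_neg, exp_le_exp] at h
  exact h

end

end Groth.Agent.FFWr
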