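import Groth.Agent.FF.Norm
import Groth.Agent.FFWr.DegDiff
import Mathlib.RingTheory.PowerBasis

/-! The coordinate ring of an affine plane model as an intersection of local orders. -/

set_option autoImplicit false
set_option linter.style.haveILetI false
set_option linter.unusedSectionVars false

open FunFld WithZero Polynomial IntermediateField Groth.Agent.FF

namespace Groth.Agent.FFWr

/-- elements of `O_P[y]` have integral coordinates -/
lemma coord_le_one {k K0 K : Type*} [Field k] [Field K0] [Field K] [Algebra k K0] [Algebra K0 K]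
    [FiniteDimensional K0 K] {P : Place k K0} (pb : PowerBasis K0 K)
    (hm : ∀ j, P.1 ((minpoly K0 pb.gen).coeff j) ≤ 1)
    {z : K} (hz : z ∈ Subring.closure ((algebraMap K0 K '' (P.O : Set K0)) ∪ {pb.gen})) :
    ∀ i, P.1 (pb.basis.repr z i) ≤ 1 := by
  classical
  let C : Set K := {a | ∀ i, P.1 (pb.basis.repr a i) ≤ 1}
  have hadd : ∀ a ∈ C, ∀ b ∈ C, a + b ∈ C := fun a ha b hb i => by
    rw [map_add, Finsupp.add_apply]; exact Valuation.map_add_le _ (ha i) (hb i)
  have hsmul : ∀ c : K0, P.1 c ≤ 1 → ∀ a ∈ C, c • a ∈ C := fun c hc a ha i => by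
    rw [map_smul, Finsupp.smul_apply, smul_eq_mul, map_mul]; exact mul_le_one' hc (ha i)
  have hzero : (0 : K) ∈ C := fun i => by simp
  have hbasis : ∀ j, pb.basis j ∈ C := fun j i => by
    rw [pb.basis.repr_self, Finsupp.single_apply]; split_ifs <;> simp
  have hgen : ∀ j : Fin pb.dim, pb.gen * pb.basis j ∈ C := by
    intro j
    rw [pb.coe_basis, ← pow_succ']
    rcases Nat.lt_or_ge ((j : ℕ) + 1) pb.dim with h | h
    · have := hbasis ⟨(j : ℕ) + 1, h⟩
      rwa [pb.coe_basis] at this
    · have hj : (j : ℕ) + 1 = pb.dim := by have := j.2; omega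
      have h' := minpoly.aeval K0 pb.gen
      rw [aeval_eq_sum_range, pb.natDegree_minpoly, Finset.sum_range_succ, ← pb.natDegree_minpoly,
        (minpoly.monic (Algebra.IsIntegral.isIntegral pb.gen)).coeff_natDegree, one_smul,
        pb.natDegree_minpoly] at h'
      rw [hj, show pb.gen ^ pb.dim = ∑ i : Fin pb.dim, (-(minpoly K0 pb.gen).coeff i) • pb.basis i by
        simp only [pb.coe_basis, neg_smul, Finset.sum_neg_distrib,
          Fin.sum_univ_eq_sum_range (fun i => (minpoly K0 pb.gen).coeff i • pb.gen ^ i)]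
        linear_combination h']
      intro i
      rw [pb.basis.repr_sum_self (fun i : Fin pb.dim => -(minpoly K0 pb.gen).coeff i), Valuation.map_neg]
      exact hm i
  have hmul : ∀ s ∈ Subring.closure ((algebraMap K0 K '' (P.O : Set K0)) ∪ {pb.gen}), ∀ a ∈ C, s * a ∈ C := by
    intro s hs
    induction hs using Subring.closure_induction with
    | mem s hs =>
      intro a ha
      rcases hs with ⟨c, hc, rfl⟩ | rfl
      · rw [← Algebra.smul_def]; exact hsmul c ((mem_O P).1 hc) a ha
      · rw [← pb.basis.sum_repr a, Finset.mul_sum]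
        refine Finset.sum_induction _ (· ∈ C) (fun x y hx hy => hadd x hx y hy) hzero fun j _ => ?_
        rw [mul_smul_comm]
        exact hsmul _ (ha j) _ (hgen j)
    | zero => intro a _; rw [zero_mul]; exact hzero
    | one => intro a ha; rwa [one_mul]
    | add x y _ _ hx hy => intro a ha; rw [add_mul]; exact hadd _ (hx a ha) _ (hy a ha)
    | neg x _ hx =>
      intro a ha i
      rw [neg_mul, map_neg, Finsupp.neg_apply, Valuation.map_neg]
      exact hx a ha i
    | mul x y _ _ hx hy => intro a ha; rw [mul_assoc]; exact hx _ (hy a ha)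
  have h1 : (1 : K) ∈ C := by
    have := hbasis ⟨0, pb.dim_pos⟩
    simpa [pb.coe_basis] using this
  intro i
  have := hmul z hz 1 h1 i
  rwa [mul_one] at this


theorem adjoin_pair_eq_iInter {k K : Type*} [Field k] [IsAlgClosed k] [Field K] [Algebra k K]
    (hK : IsFunctionField k K) (x y : K) (hx : Transcendental k x)
    (hxy : IntermediateField.adjoin k ({x, y} : Set K) = ⊤)
    (hy : IsIntegral (Algebra.adjoin k ({x} : Set K)) y) :
    (Algebra.adjoin k ({x, y} : Set K) : Set K) =
      ⋂ (P : Place k (IntermediateField.adjoin k ({x} : Set K)))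
        (_ : P.1 ⟨x, IntermediateField.mem_adjoin_simple_self k x⟩ ≤ 1),
        (Subring.closure
          ((algebraMap (IntermediateField.adjoin k ({x} : Set K)) K '' (P.O : Set _)) ∪ {y}) :
          Set K) := by
  classical
  have hK0 := isFunctionField_adjoin hK hx
  haveI : FiniteDimensional k⟮x⟯ K := finite_adjoin hK.1 hx
  set gx : k⟮x⟯ := ⟨x, IntermediateField.mem_adjoin_simple_self k x⟩ with hgx
  have hgxv : algebraMap k⟮x⟯ K gx = x := rfl
  have haev : ∀ r : k[X], algebraMap k⟮x⟯ K (Polynomial.aeval gx r) = Polynomial.aeval x r := fun r => by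
    rw [← Polynomial.aeval_algebraMap_apply, hgxv]
  have hgtr : Transcendental k gx := fun h => hx (by rw [← hgxv]; exact h.algHom k⟮x⟯.val)
  have hgen : IntermediateField.adjoin k⟮x⟯ ({y} : Set K) = ⊤ := by
    set G := IntermediateField.adjoin k⟮x⟯ ({y} : Set K)
    have htop : IntermediateField.adjoin k ({x, y} : Set K) ≤ G.restrictScalars k := by
      rw [IntermediateField.adjoin_le_iff, Set.insert_subset_iff, Set.singleton_subset_iff]
      exact ⟨G.algebraMap_mem gx, mem_adjoin_simple_self _ y⟩
    rw [hxy] at htop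
    exact eq_top_iff.2 fun z _ => htop (trivial : z ∈ (⊤ : IntermediateField k K))
  have hint : IsIntegral k⟮x⟯ y := Algebra.IsIntegral.isIntegral y
  let pb : PowerBasis k⟮x⟯ K := (IntermediateField.adjoin.powerBasis hint).map
    ((IntermediateField.equivOfEq hgen).trans IntermediateField.topEquiv)
  have hpbgen : pb.gen = y := rfl
  have hmint : ∀ P : Place k k⟮x⟯, P.1 gx ≤ 1 → ∀ j, P.1 ((minpoly k⟮x⟯ y).coeff j) ≤ 1 := by
    intro P hP j
    letI : Algebra P.O K := ((algebraMap k⟮x⟯ K).comp P.O.subtype).toAlgebra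
    haveI : IsScalarTower P.O k⟮x⟯ K := IsScalarTower.of_algebraMap_eq fun _ => rfl
    have hR : ∀ R : Place k K, IsOver R P → R.1 y ≤ 1 := by
      intro R hR
      obtain ⟨p, hpm, hp0⟩ := hy
      have hxR : R.1 x ≤ 1 := by rw [← hgxv]; exact (val_algebraMap_le_one_iff hR gx).2 hP
      have hc : ∀ a ∈ Algebra.adjoin k ({x} : Set K), R.1 a ≤ 1 := fun a ha => by
        induction ha using Algebra.adjoin_induction with
        | mem a ha => rw [Set.mem_singleton_iff] at ha; exact ha ▸ hxR
        | algebraMap c => exact R.2.1 c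
        | add a b _ _ ha hb => exact Valuation.map_add_le _ ha hb
        | mul a b _ _ ha hb => rw [map_mul]; exact mul_le_one' ha hb
      by_contra hlt
      rw [not_le] at hlt
      rw [Polynomial.eval₂_eq_sum_range] at hp0
      have h1 := Valuation.map_sum_eq_of_lt (v := R.1) (s := Finset.range (p.natDegree + 1))
        (j := p.natDegree) (f := fun i => algebraMap _ K (p.coeff i) * y ^ i) (by simp) ?_
      · rw [hp0, map_zero, hpm.coeff_natDegree, map_one, one_mul, map_pow] at h1
        exact pow_ne_zero _ (fun e => by rw [e] at hlt; exact not_lt_zero hlt) h1.symm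
      · intro i hi
        simp only [Finset.mem_sdiff, Finset.mem_range, Finset.mem_singleton] at hi
        rw [hpm.coeff_natDegree, map_one, one_mul, map_mul, map_pow, map_pow]
        exact (mul_le_of_le_one_left zero_le (hc _ (p.coeff i).2)).trans_lt (pow_lt_pow_right₀ hlt (by omega))
    have hi : IsIntegral P.O y := (isIntegral_iff_mem_IntP hK0.1 y).2 (mem_IntP.2 hR)
    rw [minpoly.isIntegrallyClosed_eq_field_fractions' k⟮x⟯ hi, coeff_map]
    exact (mem_O P).1 ((minpoly P.O y).coeff j).2
  have hpoly : ∀ (q p : k[X]), q ≠ 0 → ∀ c : k⟮x⟯, c * Polynomial.aeval gx q = Polynomial.aeval gx p →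
      (∀ P : Place k k⟮x⟯, P.1 gx ≤ 1 → P.1 c ≤ 1) → ∃ r : k[X], c = Polynomial.aeval gx r := by
    intro q
    induction h : q.natDegree using Nat.strong_induction_on generalizing q with
    | _ n ih =>
      intro p hq c hc hcP
      by_cases hdeg : q.natDegree = 0
      · obtain ⟨s, hs⟩ := Polynomial.natDegree_eq_zero.1 hdeg
        have hs0 : s ≠ 0 := fun e => hq (by rw [← hs, e, map_zero])
        refine ⟨Polynomial.C s⁻¹ * p, ?_⟩
        rw [map_mul, ← hc, ← hs, aeval_C, aeval_C, mul_left_comm, ← map_mul, inv_mul_cancel₀ hs0, map_one,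
          mul_one]
      · obtain ⟨a, ha⟩ := IsAlgClosed.exists_root q (fun e => hdeg (natDegree_eq_of_degree_eq_some e))
        obtain ⟨q', hq'⟩ := dvd_iff_isRoot.2 ha
        have htr : Transcendental k (gx - algebraMap k k⟮x⟯ a) := fun h => hgtr (by
          have h' := h.add (isAlgebraic_algebraMap (A := k⟮x⟯) a)
          rwa [sub_add_cancel] at h')
        have hne : gx - algebraMap k k⟮x⟯ a ≠ 0 := fun e => htr (by rw [e]; exact isAlgebraic_zero)
        have hp : p.IsRoot a := by
          by_contra hp
          obtain ⟨P, hP⟩ := exists_zero hK0.1 htr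
          have hPg : P.1 gx ≤ 1 := by
            rw [show gx = (gx - algebraMap k k⟮x⟯ a) + algebraMap k k⟮x⟯ a by ring]
            exact Valuation.map_add_le _ hP.le (P.2.1 a)
          have hp0 : p ≠ 0 := fun e => hp (by simp [e, IsRoot])
          have hqa : Polynomial.aeval gx q ≠ 0 := fun e => hgtr ⟨q, hq, e⟩
          have hpa : Polynomial.aeval gx p ≠ 0 := fun e => hgtr ⟨p, hp0, e⟩
          have hc0 : c ≠ 0 := fun e => hpa (by rw [← hc, e, zero_mul])
          have h1 := congrArg P.ord hc
          rw [ord_mul P hc0 hqa, ord_aeval hP hPg hne hq, ord_aeval hP hPg hne hp0,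
            rootMultiplicity_eq_zero hp] at h1
          have h2 : 0 < q.rootMultiplicity a := (rootMultiplicity_pos hq).2 ha
          have h3 := (val_lt_one_iff P hne).1 hP
          have h4 := (val_le_one_iff P c).1 (hcP P hPg)
          push_cast at h1
          nlinarith
        obtain ⟨p', hp'⟩ := dvd_iff_isRoot.2 hp
        have hq'0 : q' ≠ 0 := fun e => hq (by rw [hq', e, mul_zero])
        refine ih q'.natDegree ?_ q' rfl p' hq'0 c ?_ hcP
        · rw [← h, hq', natDegree_mul (X_sub_C_ne_zero a) hq'0, natDegree_X_sub_C]; omega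
        · refine mul_left_cancel₀ hne ?_
          rw [hp', hq', map_mul, map_mul, map_sub, aeval_X, aeval_C] at hc
          linear_combination hc
  apply Set.Subset.antisymm
  · refine Set.subset_iInter₂ fun P hP z hz => ?_
    show z ∈ Subring.closure _
    rw [SetLike.mem_coe] at hz
    induction hz using Algebra.adjoin_induction with
    | mem z hz =>
      rcases hz with rfl | rfl
      · exact Subring.subset_closure (Or.inl ⟨gx, (mem_O P).2 hP, rfl⟩)
      · exact Subring.subset_closure (Or.inr rfl)
    | algebraMap c =>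
      rw [IsScalarTower.algebraMap_apply k k⟮x⟯ K]
      exact Subring.subset_closure (Or.inl ⟨_, (mem_O P).2 (P.2.1 c), rfl⟩)
    | add a b _ _ ha hb => exact add_mem ha hb
    | mul a b _ _ ha hb => exact mul_mem ha hb
  · intro z hz
    rw [Set.mem_iInter₂] at hz
    rw [SetLike.mem_coe, ← pb.basis.sum_repr z]
    refine sum_mem fun i _ => ?_
    obtain ⟨p, q, hpq⟩ := (IntermediateField.mem_adjoin_simple_iff k _).1 (pb.basis.repr z i).2
    have e : ∀ r : k[X], ((Polynomial.aeval gx r : k⟮x⟯) : K) = Polynomial.aeval x r := fun r => haev r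
    have hb : pb.basis i = y ^ (i : ℕ) := by rw [pb.coe_basis, hpbgen]
    rw [Algebra.smul_def, hb]
    refine mul_mem ?_ (pow_mem (Algebra.subset_adjoin (by simp)) _)
    have hmem : ∀ r : k[X], Polynomial.aeval x r ∈ Algebra.adjoin k ({x, y} : Set K) := fun r =>
      Algebra.adjoin_mono (by simp : ({x} : Set K) ⊆ {x, y}) (Polynomial.aeval_mem_adjoin_singleton k x)
    rcases eq_or_ne q 0 with rfl | hq
    · rw [map_zero, div_zero] at hpq
      show ((pb.basis.repr z i : k⟮x⟯) : K) ∈ _
      rw [hpq]; exact zero_mem _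
    have hqa : Polynomial.aeval gx q ≠ 0 := fun e => hgtr ⟨q, hq, e⟩
    obtain ⟨r, hr⟩ := hpoly q p hq (pb.basis.repr z i) (by
      refine Subtype.ext ?_
      rw [IntermediateField.coe_mul, e, e, hpq, div_mul_cancel₀]
      rw [← haev]; exact (_root_.map_ne_zero _).2 hqa) (fun P hP => by
        refine coord_le_one pb (fun j => ?_) (hz P hP) i
        rw [hpbgen]; exact hmint P hP j)
    rw [hr, haev]
    exact hmem r

end Groth.Agent.FFWr
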