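import Groth.Agent.FFWr.Jumps

/-! Minors of matrices of binomial coefficients. -/

set_option autoImplicit false
set_option linter.style.haveILetI false
set_option linter.unusedSectionVars false

open FunFld Polynomial

namespace Groth.Agent.FFWr

variable {k : Type*} [Field k]

/-- rows of binomial coefficients with exponents in a window of width `N` are independent
on the columns `0, …, N` -/
lemma binom_rows_indep {m : ℕ} (v : Fin m → ℕ) (hv : Function.Injective v) (b N : ℕ)
    (hb : ∀ r, b ≤ v r) (hN : ∀ r, v r ≤ b + N) (a : Fin m → k)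
    (h : ∀ j ≤ N, ∑ r, a r * ((v r).choose j : k) = 0) : a = 0 := by
  let g : k[X] := ∑ r, C (a r) * (1 + X) ^ (v r - b)
  have hP : X ^ (N + 1) ∣ (1 + X : k[X]) ^ b * g := by
    rw [Polynomial.X_pow_dvd_iff]
    intro j hj
    rw [Finset.mul_sum, finsetSum_coeff]
    rw [← h j (Nat.lt_succ_iff.1 hj)]
    refine Finset.sum_congr rfl fun r _ => ?_
    rw [mul_left_comm, coeff_C_mul, ← pow_add, Nat.add_sub_cancel' (hb r), coeff_one_add_X_pow]
  have hcop : IsCoprime ((X : k[X]) ^ (N + 1)) ((1 + X) ^ b) :=
    IsCoprime.pow ⟨-1, 1, by ring⟩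
  have hg : g = 0 := by
    refine Polynomial.eq_zero_of_dvd_of_degree_lt (hcop.dvd_of_dvd_mul_left hP) ?_
    rw [degree_X_pow]
    refine (degree_sum_le _ _).trans_lt ((Finset.sup_lt_iff (WithBot.bot_lt_coe _)).2 fun r _ => ?_)
    refine lt_of_le_of_lt (degree_le_natDegree) (WithBot.coe_lt_coe.2 (Nat.lt_succ_of_le ?_))
    refine natDegree_mul_le.trans ?_
    rw [natDegree_C, zero_add]
    refine natDegree_pow_le.trans ((Nat.mul_le_mul_left _ (natDegree_add_le_of_degree_le (n := 1)
      (by simp) natDegree_X_le)).trans ?_)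
    have := hN r
    omega
  funext r
  have h2 := congrArg (fun p : k[X] => (p.comp (X - 1)).coeff (v r - b)) hg
  simp only [g, zero_comp, coeff_zero] at h2
  rw [show (∑ r, C (a r) * (1 + X) ^ (v r - b) : k[X]).comp (X - 1) = ∑ r, C (a r) * X ^ (v r - b) by
    rw [sum_comp]; refine Finset.sum_congr rfl fun r _ => ?_; simp [mul_comp, pow_comp, add_comp],
    finsetSum_coeff, Finset.sum_eq_single r] at h2
  · simpa [coeff_X_pow] using h2
  · intro r' _ hr'
    rw [coeff_C_mul_X_pow, if_neg]
    intro e
    have := hb r; have := hb r'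
    exact hr' (hv (by omega))
  · exact fun h => absurd (Finset.mem_univ r) h

lemma span_range_eq_top_of_rows {m : ℕ} (c : ℕ → Fin m → k)
    (h : ∀ a : Fin m → k, (∀ j, ∑ r, a r * c j r = 0) → a = 0) :
    Submodule.span k (Set.range c) = ⊤ := by
  classical
  by_contra hne
  obtain ⟨x, hx⟩ : ∃ x, x ∉ Submodule.span k (Set.range c) := by
    by_contra! hc
    exact hne (eq_top_iff.2 fun z _ => hc z)
  obtain ⟨f, hf1, hf2⟩ := Submodule.exists_dual_map_eq_bot_of_notMem hx inferInstance
  have hfx : ∀ y : Fin m → k, f y = ∑ r, f (Pi.single r 1) * y r := fun y => by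
    conv_lhs => rw [← Finset.univ_sum_single y]
    rw [map_sum]
    refine Finset.sum_congr rfl fun r _ => ?_
    rw [show Pi.single r (y r) = y r • (Pi.single r (1 : k) : Fin m → k) by
      rw [← Pi.single_smul]; simp, map_smul, smul_eq_mul, mul_comm]
  have ha := h (fun r => f (Pi.single r 1)) fun j => by
    rw [← hfx]
    have : f (c j) ∈ (Submodule.span k (Set.range c)).map f :=
      Submodule.mem_map_of_mem (Submodule.subset_span ⟨j, rfl⟩)
    rwa [hf2, Submodule.mem_bot] at this
  refine hf1 ?_
  rw [hfx]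
  exact Finset.sum_eq_zero fun r _ => by
    rw [show f (Pi.single r 1) = 0 from congrFun ha r, zero_mul]

/-- a nonzero minor with small column indices -/
lemma exists_minor {n : ℕ} (c : ℕ → Fin (n + 1) → k) (h0 : c 0 ≠ 0) (B : Fin n → ℕ)
    (hall : ∀ a : Fin (n + 1) → k, (∀ j, ∑ r, a r * c j r = 0) → a = 0)
    (hrows : ∀ (l : Fin n) (a : Fin ((l : ℕ) + 2) → k),
      (∀ j ≤ B l + 1, ∑ r, a r * c j ⟨r, by omega⟩ = 0) → a = 0) :
    ∃ I : Fin n → ℕ, IsOrders k c I ∧ (selMat c I).det ≠ 0 ∧ ∀ l, I l ≤ B l := by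
  classical
  obtain ⟨I, hI⟩ := exists_isOrders (K := k) (c := c) (n := n) (Module.finrank_fin_fun k)
    (span_range_eq_top_of_rows c hall) h0
  refine ⟨I, hI, (det_selMat_ne_zero_iff c I).2 (linearIndependent_sel h0 hI), fun l => ?_⟩
  by_contra! hlt
  have hl := l.isLt
  have h1 := finrank_W_le h0 hI l (B l + 2) (by simp; omega)
  let π : (Fin (n + 1) → k) →ₗ[k] (Fin ((l : ℕ) + 2) → k) :=
    LinearMap.funLeft k k fun r : Fin ((l : ℕ) + 2) => (⟨r, by omega⟩ : Fin (n + 1))
  haveI : FiniteDimensional k (W k c (B l + 2)) :=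
    Module.Finite.span_of_finite k ((Set.finite_Iio _).image c)
  have htop : (W k c (B l + 2)).map π = ⊤ := by
    rw [eq_top_iff, ← span_range_eq_top_of_rows (fun j => if j ≤ B l + 1 then π (c j) else 0)
      (fun a ha => hrows l a fun j hj => by
        have := ha j
        rw [if_pos hj] at this
        simpa [π, LinearMap.funLeft_apply] using this), Submodule.span_le]
    rintro _ ⟨j, rfl⟩
    dsimp only
    split_ifs with hj
    · exact Submodule.mem_map_of_mem (mem_W (by omega))
    · exact zero_mem _
  have h2 := Submodule.finrank_map_le π (W k c (B l + 2))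
  rw [htop, finrank_top, Module.finrank_fin_fun] at h2
  omega

/-- the block shape: first row `e₀` -/
lemma det_eq_det_submatrix_of_row_zero {R : Type*} [CommRing R] {n : ℕ}
    (M : Matrix (Fin (n + 1)) (Fin (n + 1)) R) (h : ∀ j : Fin n, M 0 j.succ = 0) :
    M.det = M 0 0 * (M.submatrix Fin.succ Fin.succ).det := by
  rw [Matrix.det_succ_row_zero, Fin.sum_univ_succ, Finset.sum_eq_zero fun j _ => by rw [h j]; ring]
  simp [Fin.succAbove_zero]

lemma det_eq_det_submatrix_of_col_zero {R : Type*} [CommRing R] {n : ℕ}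
    (M : Matrix (Fin (n + 1)) (Fin (n + 1)) R) (h : ∀ i : Fin n, M i.succ 0 = 0) :
    M.det = M 0 0 * (M.submatrix Fin.succ Fin.succ).det := by
  rw [← Matrix.det_transpose, det_eq_det_submatrix_of_row_zero M.transpose h, ← Matrix.transpose_submatrix,
    Matrix.det_transpose]
  rfl

/-- small column indices making the binomial minor nonzero (orders shifted down) -/
lemma exists_binom_minor_sub {n : ℕ} (hn : 0 < n) (J : Fin n → ℕ) (hJ : StrictMono J) :
    ∃ I : Fin n → ℕ, StrictMono I ∧ (binomMat k J I).det ≠ 0 ∧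
      ∀ l, I l + J ⟨0, hn⟩ ≤ J l := by
  classical
  let c : ℕ → Fin (n + 1) → k := fun j =>
    if j = 0 then Pi.single 0 1 else Fin.cases 0 (fun r => ((J r).choose (j - 1) : k))
  have hc0 : ∀ j, c (j + 1) 0 = 0 := fun j => by simp [c]
  have hcs : ∀ j (r : Fin n), c (j + 1) r.succ = ((J r).choose j : k) := fun j r => by simp [c]
  have hbase : ∀ r, J ⟨0, hn⟩ ≤ J r := fun r => hJ.monotone (Nat.zero_le r.1)
  have h00 : c 0 ≠ 0 := fun h => by simpa [c] using congrFun h 0
  obtain ⟨I, hI, hdet, hle⟩ := exists_minor c h00 (fun l => J l - J ⟨0, hn⟩) (fun a ha => by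
      have ha0 : a 0 = 0 := by simpa [c, Pi.single_apply] using ha 0
      have := binom_rows_indep (k := k) J hJ.injective 0 (∑ r, J r) (fun r => Nat.zero_le _)
        (fun r => by simpa using Finset.single_le_sum (fun i _ => Nat.zero_le (J i)) (Finset.mem_univ r))
        (fun r => a r.succ) (fun j _ => by simpa [Fin.sum_univ_succ, hc0, hcs] using ha (j + 1))
      funext r
      cases r using Fin.cases with
      | zero => exact ha0
      | succ r => exact congrFun this r)
    (fun l a ha => by
      have hl := l.isLt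
      have ha0 : a 0 = 0 := by
        have h := ha 0 (Nat.zero_le _)
        have e : ∀ r : Fin ((l : ℕ) + 1), c 0 ⟨(r.succ : ℕ), by omega⟩ = 0 := fun r =>
          Pi.single_eq_of_ne (fun h => by simpa using congrArg Fin.val h) 1
        have e' : c 0 ⟨((0 : Fin ((l : ℕ) + 2)) : ℕ), by omega⟩ = 1 := Pi.single_eq_same _ _
        rw [Fin.sum_univ_succ, e', mul_one, Finset.sum_eq_zero fun r _ => by rw [e r, mul_zero], add_zero] at h
        exact h
      have := binom_rows_indep (k := k) (fun r : Fin ((l : ℕ) + 1) => J ⟨r, by omega⟩)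
        (fun r r' h => Fin.ext (by simpa [Fin.ext_iff] using hJ.injective h)) (J ⟨0, hn⟩)
        (J l - J ⟨0, hn⟩) (fun r => hbase _)
        (fun r => by
          have := hbase l
          have : J ⟨r, by omega⟩ ≤ J l := hJ.monotone (Nat.lt_succ_iff.1 r.isLt)
          omega)
        (fun r => a r.succ) (fun j hj => by
          have h := ha (j + 1) (by omega)
          rw [Fin.sum_univ_succ] at h
          have e0 : c (j + 1) ⟨((0 : Fin ((l : ℕ) + 2)) : ℕ), by omega⟩ = 0 := hc0 j
          rw [e0, mul_zero, zero_add] at h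
          refine Eq.trans (Finset.sum_congr rfl fun r _ => ?_) h
          congr 1)
      funext r
      cases r using Fin.cases with
      | zero => exact ha0
      | succ r => exact congrFun this r)
  refine ⟨I, hI.1, ?_, fun l => ?_⟩
  · rw [det_eq_det_submatrix_of_row_zero (selMat c I) (fun j => by simp [selMat_apply, hc0])] at hdet
    have e : (selMat c I).submatrix Fin.succ Fin.succ = binomMat k J I := by
      ext r s; simp [selMat_apply, hcs, binomMat]
    rw [e] at hdet
    exact right_ne_zero_of_mul hdet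
  · have h1 := hle l
    have h2 : J ⟨0, hn⟩ ≤ J l := hbase l
    omega

/-- small positive column indices making the binomial minor nonzero -/
lemma exists_binom_minor_pos {n : ℕ} (J : Fin n → ℕ) (hJ : StrictMono J) (hpos : ∀ l, 0 < J l) :
    ∃ I : Fin n → ℕ, StrictMono I ∧ (∀ l, 0 < I l) ∧ (binomMat k J I).det ≠ 0 ∧ ∀ l, I l ≤ J l := by
  classical
  let v : Fin (n + 1) → ℕ := Fin.cases 0 J
  have hv : StrictMono v := by
    intro a b hab
    cases a using Fin.cases with
    | zero =>
      cases b using Fin.cases with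
      | zero => exact absurd hab (lt_irrefl _)
      | succ b => simpa [v] using hpos b
    | succ a =>
      cases b using Fin.cases with
      | zero => exact absurd hab (Fin.not_lt_zero _)
      | succ b => simpa [v] using hJ (Fin.succ_lt_succ_iff.1 hab)
  let c : ℕ → Fin (n + 1) → k := fun j r => ((v r).choose j : k)
  have h00 : c 0 ≠ 0 := fun h => by simpa [c] using congrFun h 0
  obtain ⟨I, hI, hdet, hle⟩ := exists_minor c h00 (fun l => J l - 1) (fun a ha =>
      binom_rows_indep v hv.injective 0 (∑ r, v r) (fun r => Nat.zero_le _)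
        (fun r => by simpa using Finset.single_le_sum (fun i _ => Nat.zero_le (v i)) (Finset.mem_univ r))
        a (fun j _ => ha j))
    (fun l a ha => by
      have hl := l.isLt
      exact binom_rows_indep (fun r : Fin ((l : ℕ) + 2) => v ⟨r, by omega⟩)
        (fun r r' h => Fin.ext (by simpa [Fin.ext_iff] using hv.injective h)) 0 (J l)
        (fun r => Nat.zero_le _)
        (fun r => by
          have : v ⟨r, by omega⟩ ≤ v l.succ := hv.monotone (show (r : ℕ) ≤ _ by simp; omega)
          simpa [v] using this)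
        a (fun j hj => ha j (by have := hpos l; omega)))
  refine ⟨fun l => I l + 1, fun a b h => Nat.succ_lt_succ (hI.1 h), fun l => Nat.succ_pos _, ?_, fun l => ?_⟩
  · rw [det_eq_det_submatrix_of_row_zero (selMat c I) (fun j => by
      simp [selMat_apply, c, v])] at hdet
    have e : (selMat c I).submatrix Fin.succ Fin.succ = binomMat k J (fun l => I l + 1) := by
      ext r s; simp [selMat_apply, c, v, binomMat]
    rw [e] at hdet
    exact right_ne_zero_of_mul hdet
  · show I l + 1 ≤ J l
    have := hle l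
    have := hpos l
    omega

/-- binomial minor against `0, 1, …, m - 1` times factorials is a Vandermonde determinant -/
lemma det_choose_mul {m : ℕ} (v : Fin m → ℕ) :
    (Matrix.of fun i j : Fin m => ((v i).choose (j : ℕ) : k)).det * ∏ j : Fin m, ((j : ℕ).factorial : k) =
      (Matrix.vandermonde fun i => (v i : k)).det := by
  rw [Matrix.det_eval_matrixOfPolynomials_eq_det_vandermonde (fun i => (v i : k))
    (fun j => descPochhammer k (j : ℕ)) (fun i => descPochhammer_natDegree _ _) (fun i => monic_descPochhammer k _),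
    mul_comm, ← Matrix.det_mul_row]
  congr 1
  ext i j
  simp only [Matrix.of_apply]
  rw [descPochhammer_eval_eq_descFactorial, Nat.descFactorial_eq_factorial_mul_choose]
  push_cast
  ring

lemma natCast_ne_zero_of_lt {d : ℕ} (hchar : ringChar k = 0 ∨ d < ringChar k) {x : ℕ} (hx : x ≤ d) (hx0 : x ≠ 0) :
    (x : k) ≠ 0 := by
  intro h
  rw [ringChar.spec] at h
  rcases hchar with h' | h'
  · rw [h'] at h; exact hx0 (Nat.eq_zero_of_zero_dvd h)
  · have := Nat.le_of_dvd (Nat.pos_of_ne_zero hx0) h; omega

lemma factorial_ne_zero_of_lt {d : ℕ} (hchar : ringChar k = 0 ∨ d < ringChar k) {x : ℕ} (hx : x ≤ d) :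
    (x.factorial : k) ≠ 0 := by
  induction x with
  | zero => simp
  | succ x ih =>
    rw [Nat.factorial_succ, Nat.cast_mul]
    exact mul_ne_zero (natCast_ne_zero_of_lt hchar hx (Nat.succ_ne_zero x)) (ih (by omega))

lemma det_choose_ne_zero {m d : ℕ} (hchar : ringChar k = 0 ∨ d < ringChar k) (v : Fin m → ℕ)
    (hv : StrictMono v) (hd : ∀ i, v i ≤ d) :
    (Matrix.of fun i j : Fin m => ((v i).choose (j : ℕ) : k)).det ≠ 0 := by
  intro h
  have h1 := det_choose_mul (k := k) v
  rw [h, zero_mul] at h1
  refine Matrix.det_vandermonde_ne_zero_iff.2 (fun i j hij => ?_) h1.symm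
  by_contra hne
  rcases lt_or_gt_of_ne hne with hlt | hlt
  · refine natCast_ne_zero_of_lt hchar (x := v j - v i) (by have := hd j; omega) (by have := hv hlt; omega) ?_
    rw [Nat.cast_sub (hv hlt).le]; rw [hij, sub_self]
  · refine natCast_ne_zero_of_lt hchar (x := v i - v j) (by have := hd i; omega) (by have := hv hlt; omega) ?_
    rw [Nat.cast_sub (hv hlt).le]; rw [hij, sub_self]

end Groth.Agent.FFWr
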