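import Groth.Agent.FFWr.Count

/-! Orders of complete linear systems; strong fixed places and the bound with `n > g`. -/

set_option autoImplicit false
set_option linter.style.haveILetI false
set_option linter.unusedSectionVars false

open FunFld WithZero LaurentSeries
open Groth.Agent.FF

namespace Groth.Agent.FFWr

variable {k K : Type*} [Field k] [IsAlgClosed k] [Field K] [Algebra k K] (hK : IsFunctionField k K)
include hK

lemma span_smul_eq {ι : Type*} {φ : ι → K} {D : Divisor k K} (hspan : Submodule.span k (Set.range φ) = L D)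
    {y : K} (hy : y ≠ 0) : Submodule.span k (Set.range (y • φ)) = L (D - div k y) := by
  have hC'y : D - div k y + div k y = D := sub_add_cancel D _
  ext w
  rw [show Set.range (y • φ) = (LinearMap.mulLeft k y) '' Set.range φ from by rw [← Set.range_comp]; rfl,
    Submodule.span_image, hspan, Submodule.mem_map]
  constructor
  · rintro ⟨x, hx, rfl⟩
    show y * x ∈ _
    rw [mul_mem_L_iff hK hy, hC'y]
    exact hx
  · intro hw
    refine ⟨y⁻¹ * w, ?_, mul_inv_cancel_left₀ hy w⟩
    rw [← hC'y, ← mul_mem_L_iff hK hy, mul_inv_cancel_left₀ hy]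
    exact hw

/-- orders of a complete linear system without base point at `P` -/
lemma isJump_complete_iff {D : Divisor k K} {P : Place k K} (hfree : ell (D - Finsupp.single P 1) < ell D)
    {n : ℕ} {φ : Fin (n + 1) → K} (hspan : Submodule.span k (Set.range φ) = L D)
    {y : K} (hy : y ≠ 0) (hnorm : ∀ i, P.1 ((y • φ) i) ≤ 1)
    (heff : (1 : K) ∈ Submodule.span k (Set.range (y • φ)))
    {t : K} {e : K →ₐ[k] LaurentSeries k} (he : IsCoord P t e) {j : ℕ} (hj : 1 ≤ j) :
    IsJump k (ccol e (y • φ)) (j + 1) ↔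
      ell (D - Finsupp.single P ((j : ℤ) + 1)) < ell (D - Finsupp.single P (j : ℤ)) := by
  rw [he.isJump_ccol_iff hnorm hj]
  set C' := D - div k y with hC'
  have hell : ∀ i : ℤ, ell (C' - Finsupp.single P i) = ell (D - Finsupp.single P i) := fun i => by
    rw [← ell_add_div hK (D := C' - Finsupp.single P i) hy, sub_add_eq_add_sub, hC', sub_add_cancel]
  have hspan' := span_smul_eq hK hspan hy
  rw [← hC'] at hspan'
  have hC'P : C' P = 0 := by
    apply le_antisymm
    · have hlt : ell (C' - Finsupp.single P 1) < ell C' := by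
        have h0 : ell C' = ell D := by simpa using hell 0
        rw [hell, h0]; exact hfree
      obtain ⟨x, hx, hxv⟩ := (ell_lt_iff_exists hK C' P).1 hlt
      have := val_le_one_of_mem_span hnorm (hspan' ▸ hx)
      rw [hxv, ← exp_zero, exp_le_exp] at this
      exact this
    · have := (hspan' ▸ heff : (1 : K) ∈ L C') P
      rw [map_one, ← exp_zero, exp_le_exp] at this
      exact this
  have key := ell_lt_iff_exists hK (C' - Finsupp.single P (j : ℤ)) P
  simp only [mem_L_sub_single (Int.natCast_nonneg j), Finsupp.sub_apply, Finsupp.single_eq_same, hC'P,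
    zero_sub] at key
  have step : (∃ f ∈ Submodule.span k (Set.range (y • φ)), P.1 f = exp (-(j : ℤ))) ↔
      ell (C' - Finsupp.single P (j : ℤ) - Finsupp.single P 1) < ell (C' - Finsupp.single P (j : ℤ)) := by
    rw [key, hspan']
    exact ⟨fun ⟨f, hf, hv⟩ => ⟨f, ⟨hf, hv.le⟩, hv⟩, fun ⟨f, ⟨hf, _⟩, hv⟩ => ⟨f, hf, hv⟩⟩
  rw [step, sub_sub, ← Finsupp.single_add, hell, hell]

lemma exists_basis (D : Divisor k K) {n : ℕ} (h : ell D = n + 1) :
    ∃ φ : Fin (n + 1) → K, LinearIndependent k φ ∧ Submodule.span k (Set.range φ) = L D := by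
  haveI := finiteDimensional_L hK D
  let b := Module.finBasisOfFinrankEq k (L D) h
  refine ⟨fun i => (b i : K), b.linearIndependent.map' (L D).subtype (Submodule.ker_subtype _), ?_⟩
  rw [show (Set.range fun i => (b i : K)) = (L D).subtype '' Set.range b from Set.range_comp (L D).subtype b,
    Submodule.span_image, b.span_eq, Submodule.map_top, Submodule.range_subtype]

omit [IsAlgClosed k] hK in
lemma strictMono_fin_gap {n : ℕ} {J : Fin n → ℕ} (hJ : StrictMono J) {a b : Fin n} (h : a ≤ b) :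
    J a + ((b : ℕ) - a) ≤ J b := by
  obtain ⟨b, hb⟩ := b
  induction b with
  | zero =>
    have : a = ⟨0, hb⟩ := le_antisymm h (Nat.zero_le a.1)
    subst this; simp
  | succ b ih =>
    rcases (show (a : ℕ) ≤ b + 1 from h).lt_or_eq with h1 | h1
    · have h2 := ih (Nat.lt_of_succ_lt hb) (Nat.lt_succ_iff.1 h1)
      have h3 := hJ (show (⟨b, Nat.lt_of_succ_lt hb⟩ : Fin n) < ⟨b + 1, hb⟩ from Nat.lt_succ_self b)
      simp only at h2 h3 ⊢
      omega
    · have : a = ⟨b + 1, hb⟩ := Fin.ext h1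
      subst this; simp

omit [IsAlgClosed k] hK in
/-- an initial segment in the range -/
lemma eq_succ_of_initial {n : ℕ} {J : Fin n → ℕ} (hJ : StrictMono J) (hpos : ∀ l, 0 < J l) {m : ℕ}
    (hr : ∀ i, 1 ≤ i → i ≤ m → i ∈ Set.range J) : ∀ l : Fin n, (l : ℕ) < m → J l = l + 1 := by
  intro l hl
  obtain ⟨i, hi⟩ := l
  induction i using Nat.strong_induction_on with
  | _ i ih =>
    obtain ⟨q, hq⟩ := hr (i + 1) (by omega) (by simp only at hl; omega)
    have hge : ∀ q : Fin n, (q : ℕ) + 1 ≤ J q := fun q => le_of_strictMono_fin hJ 1 hpos q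
    have hqi : (q : ℕ) ≤ i := by have := hge q; omega
    rcases hqi.lt_or_eq with h | h
    · have : J q = (q : ℕ) + 1 := by simpa using ih q h q.2 (by simp only at hl ⊢; omega)
      omega
    · have : q = ⟨i, hi⟩ := Fin.ext h
      subst this
      simpa using hq

theorem strong_bound (τ : K →ₐ[k] K) {n : ℕ} (hn : genus k K < n) :
    {P : Place k K | IsStrongFixedPt τ P}.Finite ∧
    (Set.ncard {P : Place k K | IsStrongFixedPt τ P} : ℝ) ≤
      1 + Module.finrank τ.fieldRange K +
        (n + (Module.finrank τ.fieldRange K : ℝ) / n) * genus k K +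
        2 * (genus k K : ℝ) ^ 2 * (genus k K - 1) / n := by
  classical
  set g := genus k K with hg
  set N := Module.finrank τ.fieldRange K with hN
  by_cases hex : ∃ P : Place k K, IsStrongFixedPt τ P
  swap
  · push Not at hex
    have he : {P : Place k K | IsStrongFixedPt τ P} = ∅ := Set.eq_empty_iff_forall_notMem.2 hex
    rw [he]
    refine ⟨Set.finite_empty, ?_⟩
    rw [Set.ncard_empty, Nat.cast_zero]
    rcases Nat.eq_zero_or_pos g with h0 | h0
    · simp [h0]; positivity
    · have : (1 : ℝ) ≤ g := by exact_mod_cast h0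
      have : (0 : ℝ) ≤ 2 * (g : ℝ) ^ 2 * (g - 1) / n :=
        div_nonneg (mul_nonneg (by positivity) (by linarith)) (by positivity)
      positivity
  obtain ⟨P, hP⟩ := hex
  have hn0 : 0 < n := by omega
  have hP1 := deg_eq_one hK P
  -- the divisor `(n + g) P`
  set D : Divisor k K := Finsupp.single P ((n + g : ℕ) : ℤ) with hD
  have hell : ∀ i : ℕ, 2 * g ≤ i + 1 → (ell (Finsupp.single P (i : ℤ)) : ℤ) = i + 1 - g := fun i hi => by
    have := ell_eq_of_deg_ge hK (D := Finsupp.single P (i : ℤ)) (by rw [deg_single, hP1]; push_cast; omega)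
    rw [this, deg_single, hP1]; push_cast; ring
  have hellD : ell D = n + 1 := by
    have := hell (n + g) (by omega)
    rw [← hD] at this
    push_cast at this
    omega
  obtain ⟨φ, hφ, hspan⟩ := exists_basis hK D hellD
  have hfree : ell (D - Finsupp.single P 1) < ell D := by
    have h1 := hell (n + g - 1) (by omega)
    rw [hellD, hD, ← Finsupp.single_sub, show ((n + g : ℕ) : ℤ) - 1 = ((n + g - 1 : ℕ) : ℤ) by omega]
    omega
  obtain ⟨t, ht⟩ := exists_uniformizer P
  obtain ⟨Ht, hHt⟩ := exists_hasse (isSepVar_uniformizer hK ht)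
  obtain ⟨e, he⟩ := exists_isCoord hK P ht
  obtain ⟨y, hy, hnorm, heff⟩ := exists_normalized hK hφ P
  have hli := li_smul hφ hy
  obtain ⟨J, hJ⟩ := exists_orders hK hHt τ hφ
  obtain ⟨J', hJ'⟩ := exists_orders_at hK he hli hnorm heff
  have hJy : IsOrders K (hcol τ Ht (y • φ)) J := ((tri_smul hHt τ φ hy).isOrders_iff J).2 hJ
  have hJJ := orders_add_le_of_strong hK hP he hHt hn0 hli hnorm heff hJy hJ'
  -- `1, …, n - g` are orders at `P`
  have hinit : ∀ i, 1 ≤ i → i ≤ n - g → i ∈ Set.range J' := by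
    intro i h1 h2
    rw [hJ'.2, isJump_complete_iff hK hfree hspan hy hnorm heff he h1]
    have a := hell (n + g - i) (by omega)
    rw [hD, ← Finsupp.single_sub, ← Finsupp.single_sub,
      show ((n + g : ℕ) : ℤ) - (i : ℤ) = ((n + g - i : ℕ) : ℤ) by omega]
    rcases le_or_gt (i + 1) (n + g) with h3 | h3
    · have b := hell (n + g - (i + 1)) (by omega)
      rw [show ((n + g : ℕ) : ℤ) - ((i : ℤ) + 1) = ((n + g - (i + 1) : ℕ) : ℤ) by omega]
      omega
    · rw [ell_eq_zero_of_deg_neg hK (D := Finsupp.single P (((n + g : ℕ) : ℤ) - ((i : ℤ) + 1)))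
        (by rw [deg_single, hP1]; push_cast; omega)]
      omega
  have hpos := he.pos_of_isOrders hJ'
  have hlow := eq_succ_of_initial hJ'.1 hpos hinit
  have hfirst : J' ⟨0, hn0⟩ = 1 := hlow ⟨0, hn0⟩ (by simp only; omega)
  have hdegφ : (mapDiv k φ).deg ≤ ((n + g : ℕ) : ℤ) := by
    have hle : mapDiv k φ ≤ D := fun Q => by
      rw [mapDiv_apply hK.1, neg_le]
      obtain ⟨i, hi⟩ := exists_minOrd φ Q
      rw [← hi]
      have hmem : φ i ∈ L D := hspan ▸ Submodule.subset_span ⟨i, rfl⟩
      exact (val_le_exp_iff Q (hφ.ne_zero i) _).1 (hmem Q)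
    have := deg_mono hle
    rwa [hD, deg_single, hP1, Nat.cast_one, mul_one] at this
  have hup : ∀ l : Fin n, J' l ≤ l + 1 + g := fun l => by
    have h1 := orders_at_le_deg hK he hli hnorm heff hJ' ⟨n - 1, by omega⟩
    rw [deg_mapDiv_smul hK hφ hy] at h1
    have h2 := strictMono_fin_gap hJ'.1 (show l ≤ ⟨n - 1, by omega⟩ from Nat.le_sub_one_of_lt l.2)
    have := l.2
    simp only at h2
    omega
  -- the sums
  have hlo : ∀ l : Fin n, (l : ℕ) ≤ J l := fun l => by
    simpa using le_of_strictMono_fin hJ.1 0 (fun _ => Nat.zero_le _) l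
  have hhi : ∑ l, J l ≤ (∑ l : Fin n, (l : ℕ)) + g * g := by
    have hpoint : ∀ l : Fin n, J l ≤ (l : ℕ) + if (l : ℕ) < n - g then 0 else g := fun l => by
      have h := hJJ l
      rw [hfirst] at h
      split_ifs with hl
      · have := hlow l hl; omega
      · have := hup l; omega
    refine (Finset.sum_le_sum fun l _ => hpoint l).trans_eq ?_
    rw [Finset.sum_add_distrib]
    congr 1
    rw [Fin.sum_univ_eq_sum_range (fun i => if i < n - g then 0 else g), Finset.sum_ite, Finset.sum_const_zero,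
      zero_add, Finset.sum_const, smul_eq_mul]
    congr 1
    have : (Finset.range n).filter (fun i => ¬ i < n - g) = Finset.Ico (n - g) n := by
      ext i; simp; omega
    rw [this, Nat.card_Ico]
    omega
  obtain ⟨hfin, hcount⟩ := strong_count hK hφ hn0 hHt hJ
  refine ⟨hfin, ?_⟩
  set c := Set.ncard {P : Place k K | IsStrongFixedPt τ P}
  have htri : (∑ l : Fin n, (l : ℕ)) * 2 = n * (n - 1) := by
    rw [Fin.sum_univ_eq_sum_range (fun i => i), Finset.sum_range_id_mul_two]
  have htriR : ((∑ l : Fin n, (l : ℕ) : ℕ) : ℝ) * 2 = n * ((n : ℝ) - 1) := by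
    have := congrArg (fun x : ℕ => (x : ℝ)) htri
    push_cast [Nat.cast_sub (show 1 ≤ n by omega)] at this ⊢
    exact this
  have hc' : (n : ℝ) * c ≤ ((n : ℝ) + N) * ((mapDiv k φ).deg : ℝ) +
      (2 * (g : ℝ) - 2) * ((∑ l, J l : ℕ) : ℝ) := by
    have := (Int.cast_le (R := ℝ)).2 hcount
    push_cast at this ⊢
    exact this
  have hd : ((mapDiv k φ).deg : ℝ) ≤ (n : ℝ) + g := by
    have := (Int.cast_le (R := ℝ)).2 hdegφ
    push_cast at this
    exact this
  have hlo' : ((∑ l : Fin n, (l : ℕ) : ℕ) : ℝ) ≤ ((∑ l, J l : ℕ) : ℝ) := by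
    exact_mod_cast Finset.sum_le_sum fun l _ => hlo l
  have hhi' : ((∑ l, J l : ℕ) : ℝ) ≤ ((∑ l : Fin n, (l : ℕ) : ℕ) : ℝ) + (g : ℝ) * g := by
    exact_mod_cast hhi
  set A := ((∑ l : Fin n, (l : ℕ) : ℕ) : ℝ)
  set B := ((∑ l, J l : ℕ) : ℝ)
  have hsum : (2 * (g : ℝ) - 2) * B ≤ ((g : ℝ) - 1) * (A * 2) + (2 * (g : ℝ) - 2) * ((g : ℝ) * g) := by
    rcases Nat.eq_zero_or_pos g with h0 | h0
    · rw [h0]; push_cast; nlinarith
    · have h1 : (1 : ℝ) ≤ g := by exact_mod_cast h0
      nlinarith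
  have hnR : (0 : ℝ) < n := by exact_mod_cast hn0
  have hmul : ((n : ℝ) + N) * ((mapDiv k φ).deg : ℝ) ≤ ((n : ℝ) + N) * ((n : ℝ) + g) :=
    mul_le_mul_of_nonneg_left hd (by positivity)
  rw [htriR] at hsum
  have key : (n : ℝ) * c ≤ n * (1 + N + n * g) + N * g + 2 * (g : ℝ) ^ 2 * (g - 1) := by nlinarith
  have e : (1 : ℝ) + N + (n + N / n) * g + 2 * (g : ℝ) ^ 2 * (g - 1) / n =
      (n * (1 + N + n * g) + N * g + 2 * (g : ℝ) ^ 2 * (g - 1)) / n := by
    field_simp
    ring
  rw [e, le_div_iff₀ hnR]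
  linarith

end Groth.Agent.FFWr
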