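import Mathlib.RingTheory.MvPolynomial.EulerIdentity
import Mathlib.RingTheory.Kaehler.Basic
import Mathlib.LinearAlgebra.Matrix.NonsingularInverse
import Mathlib.LinearAlgebra.Matrix.Determinant.Basic
import Mathlib.Tactic

/-! The differential `dx / f_y` under a projective change of coordinates. -/

set_option autoImplicit false

open MvPolynomial

namespace Groth.Agent.FFWr

lemma derivation_aeval {σ k K M : Type*} [Fintype σ] [DecidableEq σ] [CommRing k] [CommRing K] [Algebra k K]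
    [AddCommGroup M] [Module K M] [Module k M] [IsScalarTower k K M]
    (δ : Derivation k K M) (φ : σ → K) (p : MvPolynomial σ k) :
    δ (aeval φ p) = ∑ i, aeval φ (pderiv i p) • δ (φ i) := by
  induction p using MvPolynomial.induction_on with
  | C c => simp
  | add p q hp hq => simp [hp, hq, add_smul, Finset.sum_add_distrib]
  | mul_X p i hp =>
    have h0 : ∀ x, aeval φ (pderiv x (X i : MvPolynomial σ k)) = if x = i then (1 : K) else 0 := fun x => by
      rw [pderiv_X]
      rcases eq_or_ne x i with rfl | h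
      · simp
      · simp [Pi.single_eq_of_ne' h, h]
    simp only [map_mul, aeval_X, Derivation.leibniz, hp, smul_eq_mul, map_add, h0, mul_ite, mul_one, mul_zero,
      add_smul, ite_smul, zero_smul, Finset.sum_add_distrib, Finset.sum_ite_eq', Finset.mem_univ, if_true,
      Finset.smul_sum, smul_smul]

variable {k K : Type*} [Field k] [Field K] [Algebra k K]

/-- chain rule for a linear substitution -/
lemma pderiv_subst {n : ℕ} (A : Matrix (Fin n) (Fin n) k) (f : MvPolynomial (Fin n) k) (l : Fin n)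
    (v : Fin n → K) :
    aeval v (pderiv l (aeval (fun i => ∑ j, C (A i j) * X j) f)) =
      ∑ i, algebraMap k K (A i l) * aeval (fun i => ∑ j, algebraMap k K (A i j) * v j) (pderiv i f) := by
  have h1 := derivation_aeval (pderiv l : Derivation k (MvPolynomial (Fin n) k) (MvPolynomial (Fin n) k))
    (fun i => ∑ j, C (A i j) * X j) f
  have h2 : ∀ i, pderiv l (∑ j, C (A i j) * X j : MvPolynomial (Fin n) k) = C (A i l) := fun i => by
    simp [pderiv_X, Pi.single_apply]
  have h3 : ∀ q : MvPolynomial (Fin n) k, aeval v (aeval (fun i => ∑ j, C (A i j) * X j) q) =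
      aeval (fun i => ∑ j, algebraMap k K (A i j) * v j) q := fun q => by
    rw [comp_aeval_apply]
    congr 2
    ext i
    simp
  rw [h1, map_sum]
  refine Finset.sum_congr rfl fun i _ => ?_
  rw [h2, smul_eq_mul, map_mul, aeval_C, h3, mul_comm]

/-- `dx / f_y` in new projective coordinates -/
theorem coord_change (f : MvPolynomial (Fin 3) k) (e : ℕ) (hf : f.IsHomogeneous e) (x y : K)
    (hfxy : aeval ![(1 : K), x, y] f = 0) (A : Matrix (Fin 3) (Fin 3) k) (hA : A.det ≠ 0)
    (u : Fin 3 → K) (hu : ∀ i, ∑ j, algebraMap k K (A i j) * u j = ![(1 : K), x, y] i) (hu0 : u 0 ≠ 0)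
    (hfy : aeval ![(1 : K), x, y] (pderiv 2 f) ≠ 0)
    (hfy' : aeval ![(1 : K), u 1 / u 0, u 2 / u 0]
      (pderiv 2 (aeval (fun i : Fin 3 => ∑ j, C (A i j) * X j) f)) ≠ 0)
    {M : Type*} [AddCommGroup M] [Module K M] [Module k M] [IsScalarTower k K M] (δ : Derivation k K M) :
    (aeval ![(1 : K), x, y] (pderiv 2 f))⁻¹ • δ x =
      (algebraMap k K A.det * (u 0)⁻¹ ^ ((e : ℤ) - 3) *
        (aeval ![(1 : K), u 1 / u 0, u 2 / u 0]
          (pderiv 2 (aeval (fun i : Fin 3 => ∑ j, C (A i j) * X j) f)))⁻¹) • δ (u 1 / u 0) := by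
  classical
  have he : 1 ≤ e := by
    by_contra h
    push Not at h
    obtain rfl : e = 0 := by omega
    apply hfy
    rw [totalDegree_eq_zero_iff_eq_C.1 ((totalDegree_zero_iff_isHomogeneous _).2 hf)]
    simp
  set φ := ![(1 : K), x, y] with hφ
  set v := u 1 / u 0 with hv
  set w := u 2 / u 0 with hw
  set L : Fin 3 → K := fun i => algebraMap k K (A i 0) + algebraMap k K (A i 1) * v + algebraMap k K (A i 2) * w
    with hL
  have hφL : ∀ i, φ i = u 0 * L i := fun i => by
    rw [← hu i, Fin.sum_univ_three]; simp only [hL, hv, hw]; field_simp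
  have h0L : u 0 * L 0 = 1 := (hφL 0).symm
  have hxL : u 0 * L 1 = x := (hφL 1).symm
  have hyL : u 0 * L 2 = y := (hφL 2).symm
  have hx' : L 1 = L 0 * x := by rw [← hxL, mul_left_comm, ← mul_assoc, h0L, one_mul]
  have hy' : L 2 = L 0 * y := by rw [← hyL, mul_left_comm, ← mul_assoc, h0L, one_mul]
  set fd : Fin 3 → K := fun i => aeval φ (pderiv i f) with hfd
  have hsum : aeval ![(1 : K), v, w] (pderiv 2 (aeval (fun i : Fin 3 => ∑ j, C (A i j) * X j) f)) =
      L 0 ^ (e - 1) * ∑ i, algebraMap k K (A i 2) * fd i := by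
    rw [pderiv_subst, Finset.mul_sum]
    refine Finset.sum_congr rfl fun i _ => ?_
    have hLv : (fun i => ∑ j, algebraMap k K (A i j) * ![(1 : K), v, w] j) = fun i => L 0 * φ i := by
      funext i
      rw [hφL i, ← mul_assoc, mul_comm (L 0), h0L, one_mul, Fin.sum_univ_three]
      simp [hL]
    rw [hLv]
    have hhom := hf.pderiv (i := i)
    have hscal : aeval (fun i => L 0 * φ i) (pderiv i f) = L 0 ^ (e - 1) * fd i := by
      simp only [hfd, aeval_def, eval₂_eq, Finset.mul_sum]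
      refine Finset.sum_congr rfl fun m hm => ?_
      have hm' : ∑ i ∈ m.support, m i = e - 1 := by
        have h := hhom (mem_support_iff.1 hm)
        simpa [Finsupp.weight_apply, Finsupp.sum] using h
      simp only [mul_pow, Finset.prod_mul_distrib, Finset.prod_pow_eq_pow_sum, hm']
      ring
    rw [hscal]; ring
  have heuler : fd 0 + x * fd 1 + y * fd 2 = 0 := by
    have h := congrArg (aeval φ) hf.sum_X_mul_pderiv
    simp only [map_sum, map_mul, aeval_X, map_nsmul, hfxy, smul_zero, Fin.sum_univ_three] at h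
    simpa [hφ, hfd] using h
  have hdf : fd 1 • δ x + fd 2 • δ y = 0 := by
    have h := derivation_aeval δ φ f
    rw [hfxy, map_zero, Fin.sum_univ_three] at h
    simpa [hφ, hfd] using h.symm
  obtain ⟨α1, hα1⟩ : ∃ a : K, a = algebraMap k K (A 1 2) - x * algebraMap k K (A 0 2) := ⟨_, rfl⟩
  obtain ⟨α2, hα2⟩ : ∃ a : K, a = algebraMap k K (A 2 2) - y * algebraMap k K (A 0 2) := ⟨_, rfl⟩
  obtain ⟨β1, hβ1⟩ : ∃ a : K, a = algebraMap k K (A 1 1) - x * algebraMap k K (A 0 1) := ⟨_, rfl⟩
  obtain ⟨β2, hβ2⟩ : ∃ a : K, a = algebraMap k K (A 2 1) - y * algebraMap k K (A 0 1) := ⟨_, rfl⟩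
  have hS : ∑ i, algebraMap k K (A i 2) * fd i = fd 1 * α1 + fd 2 * α2 := by
    rw [Fin.sum_univ_three]
    rw [hα1, hα2]
    linear_combination (algebraMap k K (A 0 2)) * heuler
  have hdL : ∀ i, δ (L i) = algebraMap k K (A i 1) • δ v + algebraMap k K (A i 2) • δ w := fun i => by
    simp [hL, Derivation.leibniz]
  have hdx : L 0 • δ x = β1 • δ v + α1 • δ w := by
    have h : L 0 • δ x + x • δ (L 0) = δ (L 1) := by rw [hx', Derivation.leibniz]
    rw [hdL, hdL] at h
    rw [eq_sub_of_add_eq h]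
    rw [hβ1, hα1]; simp only [sub_smul, mul_smul, smul_add]
    abel
  have hdy : L 0 • δ y = β2 • δ v + α2 • δ w := by
    have h : L 0 • δ y + y • δ (L 0) = δ (L 2) := by rw [hy', Derivation.leibniz]
    rw [hdL, hdL] at h
    rw [eq_sub_of_add_eq h]
    rw [hβ2, hα2]; simp only [sub_smul, mul_smul, smul_add]
    abel
  have hdet : α2 * β1 - α1 * β2 = u 0 * algebraMap k K A.det := by
    rw [Matrix.det_fin_three]
    simp only [map_sub, map_add, map_mul, hL, hα1, hα2, hβ1, hβ2] at h0L hxL hyL ⊢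
    linear_combination
      -(algebraMap k K (A 1 1) * algebraMap k K (A 2 2) - algebraMap k K (A 1 2) * algebraMap k K (A 2 1)) * h0L
      + (algebraMap k K (A 0 1) * algebraMap k K (A 2 2) - algebraMap k K (A 0 2) * algebraMap k K (A 2 1)) * hxL
      - (algebraMap k K (A 0 1) * algebraMap k K (A 1 2) - algebraMap k K (A 0 2) * algebraMap k K (A 1 1)) * hyL
  have hkey : (fd 1 * α1 + fd 2 * α2) • δ x = (fd 2 * (algebraMap k K A.det * u 0 ^ 2)) • δ v := by
    have h1 : fd 1 • δ x = -(fd 2 • δ y) := eq_neg_of_add_eq_zero_left hdf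
    have h2 : L 0 • ((fd 1 * α1 + fd 2 * α2) • δ x) = (fd 2 * (u 0 * algebraMap k K A.det)) • δ v := by
      calc L 0 • ((fd 1 * α1 + fd 2 * α2) • δ x)
          = (L 0 * α1) • (fd 1 • δ x) + (fd 2 * α2) • (L 0 • δ x) := by
            simp only [smul_smul, ← add_smul]; congr 1; ring
        _ = (fd 2 * α2) • (L 0 • δ x) - (fd 2 * α1) • (L 0 • δ y) := by
            rw [h1]
            simp only [smul_neg, smul_smul]
            rw [sub_eq_add_neg, add_comm, show L 0 * α1 * fd 2 = fd 2 * α1 * L 0 by ring]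
        _ = _ := by
            rw [hdx, hdy, ← hdet, smul_add, smul_add, smul_smul, smul_smul, smul_smul, smul_smul, mul_sub,
              sub_smul, show fd 2 * α1 * α2 = fd 2 * α2 * α1 by ring]
            rw [show fd 2 * (α2 * β1) = fd 2 * α2 * β1 by ring, show fd 2 * (α1 * β2) = fd 2 * α1 * β2 by ring]
            abel
    have h3 := congrArg (u 0 • ·) h2
    simp only [smul_smul] at h3
    rw [← mul_assoc (u 0) (L 0), h0L, one_mul] at h3
    rw [h3]; congr 1; ring
  rw [hsum, hS] at hfy' ⊢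
  obtain ⟨hLp, hS0⟩ := mul_ne_zero_iff.1 hfy'
  have hL0 : L 0 = (u 0)⁻¹ := eq_inv_of_mul_eq_one_right h0L
  have hpow : (u 0)⁻¹ ^ ((e : ℤ) - 3) = L 0 ^ (e - 1) * u 0 ^ 2 := by
    rw [hL0, show ((e : ℤ) - 3) = ((e - 1 : ℕ) : ℤ) + (-(2 : ℕ) : ℤ) by push_cast [Nat.cast_sub he]; ring,
      zpow_add₀ (inv_ne_zero hu0), zpow_natCast, zpow_neg, zpow_natCast, inv_pow, inv_pow, inv_inv]
  rw [hpow, show algebraMap k K A.det * (L 0 ^ (e - 1) * u 0 ^ 2) * (L 0 ^ (e - 1) * (fd 1 * α1 + fd 2 * α2))⁻¹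
    = algebraMap k K A.det * u 0 ^ 2 * (fd 1 * α1 + fd 2 * α2)⁻¹ by field_simp]
  have hfd2 : fd 2 ≠ 0 := hfy
  show (fd 2)⁻¹ • δ x = _
  calc (fd 2)⁻¹ • δ x = ((fd 2)⁻¹ * (fd 1 * α1 + fd 2 * α2)⁻¹) • ((fd 1 * α1 + fd 2 * α2) • δ x) := by
        rw [smul_smul, mul_assoc, inv_mul_cancel₀ hS0, mul_one]
    _ = _ := by rw [hkey, smul_smul]; congr 1; field_simp

end Groth.Agent.FFWr
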