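import Groth.Agent.FFWr.Different

/-! The cotrace of a Weil differential: `conorm C₀ + different` is canonical. -/

set_option autoImplicit false
set_option linter.style.haveILetI false
set_option linter.unusedSectionVars false

open FunFld WithZero
open Groth.Agent.FF

namespace Groth.Agent.FFWr

variable {k K0 K : Type*} [Field k] [IsAlgClosed k] [Field K0] [Field K] [Algebra k K0] [Algebra k K]
  [Algebra K0 K] [IsScalarTower k K0 K] [FiniteDimensional K0 K] [Algebra.IsSeparable K0 K]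

section

variable (hK0 : IsFunctionField k K0) (hK : IsFunctionField k K)
  {Φ : Place k K → (K →ₐ[k] LaurentSeries k)} (hΦ : ∀ Q : Place k K, LocRes.IsExpansionAt Q.1 (Φ Q))
  {D : Divisor k K}
  (hD : ∀ P : Place k K0, ∃ t : K0, P.1 t = exp (-1 : ℤ) ∧
    ∀ Q, IsOver Q P → D Q = LocRes.ordDiff (Φ Q) 1 (algebraMap K0 K t))

include hK0 hK hΦ hD

lemma dual_iff (P : Place k K0) (z : K) :
    (∀ Q, IsOver Q P → Q.1 z ≤ exp (D Q)) ↔
      ∀ w, (∀ Q, IsOver Q P → Q.1 w ≤ 1) → P.1 (Algebra.trace K0 K (z * w)) ≤ 1 := by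
  obtain ⟨t, ht, hDt⟩ := hD P
  obtain ⟨θ, c, h1, h2⟩ := exists_local_gen hK0 hK P
  exact trace_dual_iff hK0 hK h1 h2 ht hΦ hDt z

/-- traces of elements bounded by `conorm C₀ + D` over `P` are bounded by `C₀` -/
lemma trace_le {C₀ : Divisor k K0} (P : Place k K0) {z : K}
    (hz : ∀ Q, IsOver Q P → Q.1 z ≤ exp ((conorm K C₀ + D) Q)) :
    P.1 (Algebra.trace K0 K z) ≤ exp (C₀ P) := by
  obtain ⟨c, hc⟩ := exists_val P (C₀ P)
  have hc0 : c ≠ 0 := ne_zero_of_val_eq_exp P hc
  have h := (dual_iff hK0 hK hΦ hD P ((algebraMap K0 K c)⁻¹ * z)).1 (fun Q hQ => by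
    rw [map_mul, map_inv₀, (isOverWith_ramIdx hQ) c, hc]
    refine (mul_le_mul' le_rfl (hz Q hQ)).trans_eq ?_
    rw [Finsupp.add_apply, conorm_apply hK0.1 C₀ hQ, exp_add, ← exp_nsmul, ← mul_assoc, ← exp_neg, ← exp_add]
    simp) 1 (fun Q _ => by simp)
  rw [mul_one, ← map_inv₀, ← Algebra.smul_def, map_smul, smul_eq_mul, map_mul, map_inv₀, hc,
    inv_mul_le_one₀ exp_pos] at h
  exact h

theorem isCanonical_conorm_add {C₀ : Divisor k K0} (hC₀ : IsCanonical k K0 C₀) :
    IsCanonical k K (conorm K C₀ + D) := by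
  classical
  obtain ⟨ω₀, hω₀0, hω₀⟩ := hC₀
  set E := conorm K C₀ + D with hE
  -- approximants
  have hex : ∀ (a : Place k K → K) (P : Place k K0), ∃ z : K, ∀ Q, IsOver Q P → Q.1 (z - a Q) ≤ exp (E Q) := by
    intro a P
    obtain ⟨z, hz⟩ := approx (finite_over (K' := K) hK0.1 P).toFinset a (fun Q => E Q)
    exact ⟨z, fun Q hQ => hz Q ((finite_over (K' := K) hK0.1 P).mem_toFinset.2 hQ)⟩
  choose app happ using hex
  choose below hbelow using fun Q : Place k K => exists_below (K := K0) hK0.1 Q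
  let b : (Place k K → K) → (Place k K0 → K0) := fun a P => Algebra.trace K0 K (app a P)
  have hb : ∀ a ∈ adele k K, b a ∈ adele k K0 := by
    intro a ha
    refine mem_adele.2 ((((mem_adele.1 ha).union E.support.finite_toSet).image below).subset ?_)
    intro P hP
    by_contra hno
    simp only [Set.mem_image, Set.mem_union, not_exists, not_and] at hno
    have hgood : ∀ Q, IsOver Q P → Q.1 (a Q) ≤ 1 ∧ E Q = 0 := by
      intro Q hQ
      have hbq : below Q = P := isOver_unique (hbelow Q) hQ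
      constructor
      · by_contra h; exact hno Q (Or.inl h) hbq
      · by_contra h; exact hno Q (Or.inr (Finsupp.mem_support_iff.2 h)) hbq
    refine hP (trace_val_le hK0.1 (mem_IntP.2 fun Q hQ => ?_))
    obtain ⟨h1, h2⟩ := hgood Q hQ
    have h3 := happ a P Q hQ
    rw [h2, exp_zero] at h3
    rw [show app a P = (app a P - a Q) + a Q by ring]
    exact Valuation.map_add_le _ h3 h1
  have key : ∀ (a : Place k K → K) (c : adele k K0) (c' : adele k K0), (c' : Place k K0 → K0) = b a →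
      (∀ P, ∃ z : K, (∀ Q, IsOver Q P → Q.1 (z - a Q) ≤ exp (E Q)) ∧
        (c : Place k K0 → K0) P = Algebra.trace K0 K z) →
      ω₀ c = ω₀ c' := by
    intro a c c' hc' hz
    rw [← sub_eq_zero, ← map_sub]
    refine (mem_WD_iff hK0).1 ((hω₀ C₀).2 le_rfl) (c - c') (Submodule.mem_sup_left fun P => ?_)
    obtain ⟨z, hz1, hz2⟩ := hz P
    show P.1 ((c : Place k K0 → K0) P - (c' : Place k K0 → K0) P) ≤ _
    rw [hz2, hc', ← map_sub]
    refine trace_le hK0 hK hΦ hD P fun Q hQ => ?_
    rw [show z - app a P = (z - a Q) - (app a P - a Q) by ring]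
    exact Valuation.map_sub_le _ (hz1 Q hQ) (happ a P Q hQ)
  let ω : Module.Dual k (adele k K) :=
    { toFun := fun a => ω₀ ⟨b a, hb a a.2⟩
      map_add' := fun a a' => by
        rw [← map_add]
        refine (key _ (⟨b a, hb a a.2⟩ + ⟨b a', hb a' a'.2⟩) ⟨b _, hb _ (a + a').2⟩ rfl fun P =>
          ⟨app a P + app a' P, fun Q hQ => ?_, by simp [b]⟩).symm
        show Q.1 (app a P + app a' P - ((a : Place k K → K) Q + (a' : Place k K → K) Q)) ≤ _
        rw [add_sub_add_comm]
        exact Valuation.map_add_le _ (happ a P Q hQ) (happ a' P Q hQ)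
      map_smul' := fun r a => by
        rw [RingHom.id_apply, ← map_smul]
        refine (key _ (r • ⟨b a, hb a a.2⟩) ⟨b _, hb _ (r • a).2⟩ rfl fun P =>
          ⟨r • app a P, fun Q hQ => ?_, by simp [b, LinearMap.map_smul_of_tower]⟩).symm
        show Q.1 (r • app a P - r • (a : Place k K → K) Q) ≤ _
        rw [← smul_sub]
        exact (val_smul_le Q r _).trans (happ a P Q hQ) }
  have hωdef : ∀ a : adele k K, ω a = ω₀ ⟨b a, hb a a.2⟩ := fun a => rfl
  have hWD : ω ∈ WD E := by
    refine (mem_WD_iff hK).2 fun a ha => ?_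
    obtain ⟨y, hy, r, ⟨f, rfl⟩, hyr⟩ := Submodule.mem_sup.1 ha
    have hfad : diag k K0 (Algebra.trace K0 K f) ∈ adele k K0 := diag_mem_adele hK0.1 _
    rw [hωdef, ← key a ⟨_, hfad⟩ ⟨b a, hb a a.2⟩ rfl fun P => ⟨f, fun Q hQ => ?_, rfl⟩]
    · exact (mem_WD_iff hK0).1 ((hω₀ C₀).2 le_rfl) _ (Submodule.mem_sup_right ⟨_, rfl⟩)
    · rw [← hyr]
      show Q.1 (f - (y Q + f)) ≤ _
      rw [show f - (y Q + f) = -y Q by ring, Valuation.map_neg]
      exact hy Q
  have hmax : ∀ E', ω ∈ WD E' → E' ≤ E := by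
    intro E' hω Q₁
    by_contra! hlt
    obtain ⟨P, hP⟩ := exists_below (K := K0) hK0.1 Q₁
    -- a value of `ω₀` at `P`
    have hnot : ω₀ ∉ WD (C₀ + Finsupp.single P 1) := fun h => by
      have := (hω₀ _).1 h P
      simp at this
    rw [mem_WD_iff hK0] at hnot
    push Not at hnot
    obtain ⟨a0, ha0, hne⟩ := hnot
    obtain ⟨y, hy, r, ⟨f, rfl⟩, hyr⟩ := Submodule.mem_sup.1 ha0
    let yP : Place k K0 → K0 := fun R => if R = P then y P else 0
    have hyPad : yP ∈ adele k K0 := mem_adele.2 ((Set.finite_singleton P).subset fun R hR => by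
      by_contra h
      exact hR (by simp [yP, show R ≠ P from h]))
    have hωy : ω₀ ⟨yP, hyPad⟩ ≠ 0 := by
      intro h0
      apply hne
      have hfad : diag k K0 f ∈ adele k K0 := diag_mem_adele hK0.1 _
      have hz : ω₀ (a0 - ⟨_, hfad⟩ - ⟨yP, hyPad⟩) = 0 := by
        refine (mem_WD_iff hK0).1 ((hω₀ C₀).2 le_rfl) _ (Submodule.mem_sup_left fun R => ?_)
        show R.1 ((a0 : Place k K0 → K0) R - f - yP R) ≤ _
        rw [← hyr]
        show R.1 (y R + f - f - yP R) ≤ _
        by_cases hR : R = P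
        · subst hR; simp [yP]
        · simp only [yP, if_neg hR, sub_zero, add_sub_cancel_right]
          simpa [Finsupp.single_eq_of_ne hR] using hy R
      rw [map_sub, map_sub, h0, sub_zero, (mem_WD_iff hK0).1 ((hω₀ C₀).2 le_rfl) ⟨_, hfad⟩
        (Submodule.mem_sup_right ⟨f, rfl⟩), sub_zero] at hz
      exact hz
    -- an element just outside the bound
    obtain ⟨z, hz⟩ := approx_eq (k := k) (finite_over (K' := K) hK0.1 P).toFinset 0
      (fun Q => if Q = Q₁ then E Q + 1 else E Q)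
    replace hz : ∀ Q, IsOver Q P → Q.1 z = exp (if Q = Q₁ then E Q + 1 else E Q) := fun Q hQ => by
      simpa using hz Q ((finite_over (K' := K) hK0.1 P).mem_toFinset.2 hQ)
    obtain ⟨c, hc⟩ := exists_val P (C₀ P)
    have hc0 : c ≠ 0 := ne_zero_of_val_eq_exp P hc
    have hnd : ¬ ∀ Q, IsOver Q P → Q.1 ((algebraMap K0 K c)⁻¹ * z) ≤ exp (D Q) := by
      intro h
      have := h Q₁ hP
      rw [map_mul, map_inv₀, (isOverWith_ramIdx hP) c, hc, hz Q₁ hP, if_pos rfl, ← exp_nsmul, ← exp_neg,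
        ← exp_add, exp_le_exp, hE, Finsupp.add_apply, conorm_apply hK0.1 C₀ hP, nsmul_eq_mul] at this
      omega
    rw [dual_iff hK0 hK hΦ hD P] at hnd
    push Not at hnd
    obtain ⟨w, hw, hwt⟩ := hnd
    set ρ := Algebra.trace K0 K (z * w) with hρ
    have hρv : exp (C₀ P + 1) ≤ P.1 ρ := by
      rw [mul_assoc, ← map_inv₀, ← Algebra.smul_def, map_smul, smul_eq_mul, ← hρ, map_mul, map_inv₀, hc,
        one_lt_inv_mul₀ exp_pos] at hwt
      by_contra! h
      have h' := (lt_exp_iff _ _).1 h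
      rw [add_sub_cancel_right] at h'
      exact absurd h' (not_le.2 hwt)
    have hρ0 : ρ ≠ 0 := fun h => by rw [h, map_zero] at hρv; exact absurd hρv (not_le.2 exp_pos)
    let lam := y P / ρ
    have hlam : P.1 lam ≤ 1 := by
      simp only [lam, map_div₀]
      refine (div_le_one₀ (exp_pos.trans_le hρv)).2 ((le_trans ?_ hρv))
      simpa using hy P
    let z' := algebraMap K0 K lam * (z * w)
    have hz' : ∀ Q, IsOver Q P → Q.1 z' ≤ exp (if Q = Q₁ then E Q + 1 else E Q) := fun Q hQ => by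
      simp only [z', map_mul, ← mul_assoc]
      refine (mul_le_mul' (mul_le_mul' ((val_algebraMap_le_one_iff hQ _).2 hlam) (hz Q hQ).le) (hw Q hQ)).trans_eq ?_
      rw [one_mul, mul_one]
    let a : Place k K → K := fun R => if R = Q₁ then z' else 0
    have haad : a ∈ adele k K := mem_adele.2 ((Set.finite_singleton Q₁).subset fun R hR => by
      by_contra h
      exact hR (by simp [a, show R ≠ Q₁ from h]))
    have haE' : a ∈ AD E' := fun R => by
      by_cases hR : R = Q₁
      · subst hR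
        simp only [a, if_pos rfl]
        have h5 := hz' R hP
        rw [if_pos rfl] at h5
        exact h5.trans (exp_le_exp.2 (by omega))
      · simp [a, hR]
    have h0 : ω ⟨a, haad⟩ = 0 := (mem_WD_iff hK).1 hω _ (Submodule.mem_sup_left haE')
    rw [hωdef, ← key a ⟨yP, hyPad⟩ ⟨b a, hb a haad⟩ rfl fun R => ?_] at h0
    · exact hωy h0
    · by_cases hR : R = P
      · subst hR
        refine ⟨z', fun Q hQ => ?_, ?_⟩
        · by_cases hQ1 : Q = Q₁
          · subst hQ1; simp [a]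
          · have h5 := hz' Q hQ
            rw [if_neg hQ1] at h5
            simpa [a, hQ1] using h5
        · simp only [yP, if_pos rfl, z', ← Algebra.smul_def, map_smul, smul_eq_mul, ← hρ, lam, div_mul_cancel₀ _ hρ0]
      · refine ⟨0, fun Q hQ => ?_, by simp [yP, hR]⟩
        have hQ1 : Q ≠ Q₁ := fun e => hR (isOver_unique hQ (e ▸ hP))
        simp [a, hQ1]
  obtain ⟨Q⟩ := nonempty_place hK.1
  refine ⟨ω, fun h => ?_, fun E' => ⟨hmax E', fun h => WD_anti h hWD⟩⟩
  have := hmax (E + Finsupp.single Q 1) (h ▸ Submodule.zero_mem _) Q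
  simp at this

end

end Groth.Agent.FFWr
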