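import Groth.Agent.FFWr.WDiv
import Mathlib.RingTheory.Derivation.MapCoeffs

/-! The different of a finite separable extension at a place, read by orders of differentials. -/

set_option autoImplicit false
set_option linter.style.haveILetI false
set_option linter.unusedSectionVars false

open FunFld WithZero Polynomial
open Groth.Agent.FF

namespace Groth.Agent.FFWr

variable {k K0 K : Type*} [Field k] [IsAlgClosed k] [Field K0] [Field K] [Algebra k K0] [Algebra k K]
  [Algebra K0 K] [IsScalarTower k K0 K] [FiniteDimensional K0 K]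
  (hK0 : IsFunctionField k K0) (hK : IsFunctionField k K) (P : Place k K0)

include hK0 hK

/-- a generator with pairwise different values and order `1` at every place over `P` -/
lemma exists_local_gen :
    ∃ (θ : K) (c : Place k K → k), (∀ Q, IsOver Q P → Q.1 (θ - algebraMap k K (c Q)) = exp (-1 : ℤ)) ∧
      (∀ Q Q', IsOver Q P → IsOver Q' P → c Q = c Q' → Q = Q') := by
  classical
  have hfin := finite_over (K' := K) hK0.1 P
  haveI := hfin.fintype
  choose u hu using fun Q : Place k K => exists_uniformizer Q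
  let emb : {Q : Place k K | IsOver Q P} → k := fun Q => Infinite.natEmbedding k (Fintype.equivFin _ Q)
  have hemb : Function.Injective emb := fun a b h => by
    have := (Infinite.natEmbedding k).injective h
    exact (Fintype.equivFin _).injective (Fin.ext this)
  let c : Place k K → k := fun Q => if h : IsOver Q P then emb ⟨Q, h⟩ else 0
  obtain ⟨θ, hθ⟩ := approx hfin.toFinset (fun Q => algebraMap k K (c Q) + u Q) (fun _ => (-2 : ℤ))
  refine ⟨θ, c, fun Q hQ => ?_, fun Q Q' hQ hQ' h => ?_⟩
  · rw [show θ - algebraMap k K (c Q) = (θ - (algebraMap k K (c Q) + u Q)) + u Q by ring,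
      Valuation.map_add_eq_of_lt_right _ ((hθ Q (hfin.mem_toFinset.2 hQ)).trans_lt
        (by rw [hu, exp_lt_exp]; norm_num)), hu]
  · simp only [c, dif_pos hQ, dif_pos hQ'] at h
    exact congrArg Subtype.val (hemb h)

variable {P} {θ : K} {c : Place k K → k}
  (h1 : ∀ Q, IsOver Q P → Q.1 (θ - algebraMap k K (c Q)) = exp (-1 : ℤ))
  (h2 : ∀ Q Q', IsOver Q P → IsOver Q' P → c Q = c Q' → Q = Q')

include h1

lemma gen_val_le (Q : Place k K) (hQ : IsOver Q P) : Q.1 θ ≤ 1 := by
  rw [show θ = (θ - algebraMap k K (c Q)) + algebraMap k K (c Q) by ring]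
  exact Valuation.map_add_le _ ((h1 Q hQ).trans_le (by rw [← exp_zero, exp_le_exp]; norm_num)) (Q.2.1 _)

lemma ord_gen (Q : Place k K) (hQ : IsOver Q P) {p : k[X]} (hp : p ≠ 0) :
    Q.ord (aeval θ p) = p.rootMultiplicity (c Q) := by
  have hne : θ - algebraMap k K (c Q) ≠ 0 := ne_zero_of_val_eq_exp Q (h1 Q hQ)
  rw [ord_aeval (a := c Q) ((h1 Q hQ).trans_lt (by rw [← exp_zero, exp_lt_exp]; norm_num))
    (gen_val_le hK0 hK h1 Q hQ) hne hp, ord_of_val_eq Q (h1 Q hQ)]
  simp

lemma val_aeval_le_one (Q : Place k K) (hQ : IsOver Q P) (p : k[X]) : Q.1 (aeval θ p) ≤ 1 := by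
  rw [aeval_eq_sum_range]
  refine Valuation.map_sum_le _ fun i _ => (val_smul_le Q _ _).trans ?_
  rw [map_pow]
  exact pow_le_one₀ zero_le (gen_val_le hK0 hK h1 Q hQ)

omit h1 in
lemma sum_ram : ∀ Qs : Finset (Place k K), (∀ Q, Q ∈ Qs ↔ IsOver Q P) →
    ∑ Q ∈ Qs, ramIdx Q P = Module.finrank K0 K := by
  intro Qs hQs
  have := (fundamental (K' := K) hK0.1 P).2 Qs hQs
  simpa [deg_eq_one hK, deg_eq_one hK0] using this

include h2

/-- a polynomial of degree `≤ n` vanishing to order `e` at all places over `P` -/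
lemma ram_le_natDegree {p : k[X]} (hp : p ≠ 0)
    (hv : ∀ Q, IsOver Q P → Q.1 (aeval θ p) ≤ exp (-(ramIdx Q P : ℤ))) :
    Module.finrank K0 K ≤ p.natDegree ∧
      (p.natDegree = Module.finrank K0 K → ∀ Q, IsOver Q P → p.rootMultiplicity (c Q) = ramIdx Q P) := by
  classical
  have hfin := finite_over (K' := K) hK0.1 P
  have hge : ∀ Q, IsOver Q P → ramIdx Q P ≤ p.rootMultiplicity (c Q) := by
    intro Q hQ
    have h := hv Q hQ
    rcases eq_or_ne (aeval θ p) 0 with h0 | h0
    · exfalso
      have hm := ord_gen hK0 hK h1 Q hQ hp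
      rw [h0, ord_zero] at hm
      -- a nonzero polynomial vanishing at θ makes θ algebraic over k
      have halg : IsAlgebraic k θ := ⟨p, hp, h0⟩
      obtain ⟨a, ha⟩ := hK.2 θ halg
      have h3 := h1 Q hQ
      rw [← ha, ← map_sub] at h3
      rcases eq_or_ne (a - c Q) 0 with h4 | h4
      · rw [h4, map_zero, map_zero] at h3; exact exp_ne_zero h3.symm
      · rw [val_const Q h4, ← exp_zero, exp_inj] at h3; omega
    · rw [val_le_exp_iff Q h0, neg_neg, ord_gen hK0 hK h1 Q hQ hp] at h
      exact_mod_cast h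
  have hsum : ∑ Q ∈ hfin.toFinset, p.rootMultiplicity (c Q) ≤ p.natDegree := by
    refine le_trans ?_ (card_roots' p)
    have himg : ∑ Q ∈ hfin.toFinset, p.rootMultiplicity (c Q) =
        ∑ a ∈ hfin.toFinset.image c, p.roots.count a := by
      rw [Finset.sum_image (fun Q hQ Q' hQ' h => h2 Q Q' (hfin.mem_toFinset.1 hQ) (hfin.mem_toFinset.1 hQ') h)]
      simp [count_roots]
    rw [himg, ← Multiset.toFinset_sum_count_eq]
    refine Finset.sum_le_sum_of_ne_zero ?_
    intro a _ ha
    exact Multiset.mem_toFinset.2 (Multiset.count_ne_zero.1 ha)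
  have hn := sum_ram hK0 hK (P := P) hfin.toFinset (fun Q => hfin.mem_toFinset)
  have hle : ∀ Q ∈ hfin.toFinset, ramIdx Q P ≤ p.rootMultiplicity (c Q) :=
    fun Q hQ => hge Q (hfin.mem_toFinset.1 hQ)
  have hS := Finset.sum_le_sum hle
  refine ⟨by omega, fun hd Q hQ => ?_⟩
  exact ((Finset.sum_eq_sum_iff_of_le hle).1 (by omega) Q (hfin.mem_toFinset.2 hQ)).symm

/-- elements integral over `P` have integral coordinates in the powers of `θ` -/
lemma coeff_le_one {a : Fin (Module.finrank K0 K) → K0}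
    (h : ∀ Q, IsOver Q P → Q.1 (∑ i, algebraMap K0 K (a i) * θ ^ (i : ℕ)) ≤ 1) : ∀ i, P.1 (a i) ≤ 1 := by
  classical
  by_contra! hbad
  obtain ⟨j, hj⟩ := hbad
  obtain ⟨m, -, hmax⟩ := Finset.univ.exists_max_image (fun i => P.1 (a i)) ⟨j, Finset.mem_univ _⟩
  have hm : 1 < P.1 (a m) := hj.trans_le (hmax j (Finset.mem_univ _))
  have hm0 : a m ≠ 0 := fun e => by simp [e] at hm
  let b : Fin (Module.finrank K0 K) → K0 := fun i => a i / a m
  have hb : ∀ i, P.1 (b i) ≤ 1 := fun i => by
    simp only [b, map_div₀]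
    exact (div_le_one₀ (zero_lt_one.trans hm)).2 (hmax i (Finset.mem_univ _))
  choose r hr using fun i => exists_residue hK0 P (hb i)
  let p : k[X] := ∑ i, C (r i) * X ^ (i : ℕ)
  have hpm : p.coeff m = r m := by
    simp [p, Fin.val_inj]
  have hrm : r m = 1 := by
    by_contra hne
    have := hr m
    simp only [b, div_self hm0] at this
    rw [← map_one (algebraMap k K0), ← map_sub, val_const P (sub_ne_zero.2 (Ne.symm hne))] at this
    exact lt_irrefl _ this
  have hp : p ≠ 0 := fun e => by rw [e, coeff_zero, hrm] at hpm; exact one_ne_zero hpm.symm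
  have hdeg : p.natDegree < Module.finrank K0 K := by
    have hpos : 0 < Module.finrank K0 K := Module.finrank_pos
    refine Nat.lt_of_le_of_lt (natDegree_sum_le_of_forall_le _ _ (n := Module.finrank K0 K - 1) fun i _ => ?_)
      (by omega)
    refine (natDegree_C_mul_X_pow_le _ _).trans ?_
    have := i.2
    omega
  have hv : ∀ Q, IsOver Q P → Q.1 (aeval θ p) ≤ exp (-(ramIdx Q P : ℤ)) := by
    intro Q hQ
    have e : aeval θ p = (algebraMap K0 K (a m))⁻¹ * (∑ i, algebraMap K0 K (a i) * θ ^ (i : ℕ)) -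
        ∑ i, algebraMap K0 K (b i - algebraMap k K0 (r i)) * θ ^ (i : ℕ) := by
      rw [Finset.mul_sum, ← Finset.sum_sub_distrib, map_sum]
      refine Finset.sum_congr rfl fun i _ => ?_
      rw [map_mul, aeval_C, map_pow, aeval_X, map_sub, ← IsScalarTower.algebraMap_apply]
      simp only [b]
      rw [map_div₀]
      ring
    rw [e]
    refine Valuation.map_sub_le _ ?_ (Valuation.map_sum_le _ fun i _ => ?_)
    · rw [map_mul, map_inv₀, (isOverWith_ramIdx hQ) (a m)]
      have h5 : P.1 (a m)⁻¹ ≤ exp (-1 : ℤ) := by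
        have : P.1 (a m)⁻¹ < exp (0 : ℤ) := by rw [exp_zero, map_inv₀]; exact inv_lt_one_of_one_lt₀ hm
        simpa using (lt_exp_iff _ _).1 this
      refine (mul_le_mul' ?_ (h Q hQ)).trans_eq (mul_one _)
      rw [← inv_pow, ← map_inv₀]
      refine (pow_le_pow_left' h5 _).trans_eq ?_
      rw [← exp_nsmul]; simp
    · rw [map_mul, (isOverWith_ramIdx hQ) _, map_pow]
      refine (mul_le_mul' (pow_le_pow_left' (?_ : _ ≤ exp (-1 : ℤ)) _)
        (pow_le_one₀ zero_le (gen_val_le hK0 hK h1 Q hQ))).trans_eq ?_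
      · simpa using (lt_exp_iff _ 0).1 ((hr i).trans_eq exp_zero.symm)
      · rw [mul_one, ← exp_nsmul]; simp
  exact absurd (ram_le_natDegree hK0 hK h1 h2 hp hv).1 (not_le.2 hdeg)

lemma linearIndependent_pow :
    LinearIndependent K0 (fun i : Fin (Module.finrank K0 K) => θ ^ (i : ℕ)) := by
  rw [Fintype.linearIndependent_iff]
  intro a ha i
  by_contra hi
  obtain ⟨t, ht⟩ := exists_val P 1
  have h := coeff_le_one hK0 hK h1 h2 (a := fun j => t / a i * a j) (fun Q _ => by
    have : ∑ j, algebraMap K0 K (t / a i * a j) * θ ^ (j : ℕ) = 0 := by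
      simp only [map_mul, mul_assoc, ← Finset.mul_sum]
      rw [show ∑ j, algebraMap K0 K (a j) * θ ^ (j : ℕ) = 0 by simpa [Algebra.smul_def] using ha, mul_zero]
    rw [this, map_zero]; exact zero_le) i
  simp only [div_mul_cancel₀ _ hi] at h
  rw [ht, ← exp_zero, exp_le_exp] at h
  omega

omit h1 h2 in
lemma exists_powerBasis {θ : K} (hli : LinearIndependent K0 (fun i : Fin (Module.finrank K0 K) => θ ^ (i : ℕ))) :
    ∃ pb : PowerBasis K0 K, pb.gen = θ ∧ pb.dim = Module.finrank K0 K := by
  haveI : Nonempty (Fin (Module.finrank K0 K)) := ⟨⟨0, Module.finrank_pos⟩⟩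
  refine ⟨⟨θ, Module.finrank K0 K, basisOfLinearIndependentOfCardEqFinrank hli (by simp), fun i => ?_⟩, rfl, rfl⟩
  simp

omit h2 in
lemma basis_sum_le_one (pb : PowerBasis K0 K) (hgen : pb.gen = θ) {w : K}
    (hw : ∀ i, P.1 (pb.basis.repr w i) ≤ 1) (Q : Place k K) (hQ : IsOver Q P) : Q.1 w ≤ 1 := by
  rw [← pb.basis.sum_repr w]
  refine Valuation.map_sum_le _ fun i _ => ?_
  rw [Algebra.smul_def, map_mul, pb.coe_basis, hgen, map_pow]
  exact mul_le_one' ((val_algebraMap_le_one_iff hQ _).2 (hw i)) (pow_le_one₀ zero_le (gen_val_le hK0 hK h1 Q hQ))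

lemma repr_le_one (pb : PowerBasis K0 K) (hgen : pb.gen = θ) (hdim : pb.dim = Module.finrank K0 K) {w : K}
    (hw : ∀ Q, IsOver Q P → Q.1 w ≤ 1) (i : Fin pb.dim) : P.1 (pb.basis.repr w i) ≤ 1 := by
  have h := coeff_le_one hK0 hK h1 h2 (a := fun j => pb.basis.repr w (Fin.cast hdim.symm j)) (fun Q hQ => by
    have e : ∑ j, algebraMap K0 K (pb.basis.repr w (Fin.cast hdim.symm j)) * θ ^ (j : ℕ) = w := by
      conv_rhs => rw [← pb.basis.sum_repr w]
      rw [← (finCongr hdim.symm).sum_comp (fun j : Fin pb.dim => pb.basis.repr w j • pb.basis j)]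
      refine Finset.sum_congr rfl fun j _ => ?_
      simp [Algebra.smul_def, pb.coe_basis, hgen]
    rw [e]; exact hw Q hQ) (Fin.cast hdim i)
  simpa using h

variable [Algebra.IsSeparable K0 K]

/-- the order of the different is the order of the differential of a uniformizer below -/
lemma ord_derivative_gen (pb : PowerBasis K0 K) (hgen : pb.gen = θ) (hdim : pb.dim = Module.finrank K0 K)
    {t : K0} (ht : P.1 t = exp (-1 : ℤ)) {Q : Place k K} (hQ : IsOver Q P)
    {φ : K →ₐ[k] LaurentSeries k} (hφ : LocRes.IsExpansionAt Q.1 φ) :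
    Q.1 (aeval θ (derivative (minpoly K0 θ))) = exp (-(LocRes.ordDiff φ 1 (algebraMap K0 K t))) := by
  classical
  set n := Module.finrank K0 K with hn
  set m := minpoly K0 θ with hm
  have hint : IsIntegral K0 θ := Algebra.IsIntegral.isIntegral θ
  have hmd : m.natDegree = n := by rw [hm, ← hgen, pb.natDegree_minpoly, hdim]
  have hmon : m.Monic := minpoly.monic hint
  have haev : aeval θ m = 0 := minpoly.aeval _ _
  -- coefficients of `m` are integral at `P`
  have hcoef : ∀ i : ℕ, i < n → P.1 (m.coeff i) ≤ 1 := by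
    intro i hi
    have hpow : -(θ ^ n) = ∑ j : Fin n, algebraMap K0 K (m.coeff j) * θ ^ (j : ℕ) := by
      have h := haev
      rw [aeval_eq_sum_range, hmd, Finset.sum_range_succ, ← hmd, hmon.coeff_natDegree, one_smul, hmd] at h
      rw [Fin.sum_univ_eq_sum_range (fun j => algebraMap K0 K (m.coeff j) * θ ^ j)]
      simp only [← Algebra.smul_def]
      linear_combination -h
    exact coeff_le_one hK0 hK h1 h2 (a := fun j => m.coeff j) (fun R hR => by
      rw [← hpow, Valuation.map_neg, map_pow]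
      exact pow_le_one₀ zero_le (gen_val_le hK0 hK h1 R hR)) ⟨i, hi⟩
  have hres : ∀ i : ℕ, ∃ r : k, i < n → P.1 (m.coeff i - algebraMap k K0 r) < 1 := fun i => by
    by_cases hi : i < n
    · obtain ⟨r, hr⟩ := exists_residue hK0 P (hcoef i hi)
      exact ⟨r, fun _ => hr⟩
    · exact ⟨0, fun h => absurd h hi⟩
  choose r hr using hres
  have ht0 : t ≠ 0 := ne_zero_of_val_eq_exp P ht
  let a : ℕ → K0 := fun i => (m.coeff i - algebraMap k K0 (r i)) / t
  have ha : ∀ i < n, P.1 (a i) ≤ 1 := fun i hi => by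
    simp only [a, map_div₀, ht]
    refine (div_le_one₀ exp_pos).2 ?_
    simpa using (lt_exp_iff _ 0).1 ((hr i hi).trans_eq exp_zero.symm)
  have hma : ∀ i, m.coeff i = algebraMap k K0 (r i) + t * a i := fun i => by
    simp only [a]; rw [mul_div_cancel₀ _ ht0]; ring
  -- the reduction
  let T := algebraMap K0 K t
  let M1 := ∑ i : Fin n, algebraMap K0 K (a i) * θ ^ (i : ℕ)
  let p0 : k[X] := X ^ n + ∑ i : Fin n, C (r i) * X ^ (i : ℕ)
  have hrel : aeval θ p0 = -(T * M1) := by
    have h := haev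
    rw [aeval_eq_sum_range, hmd, Finset.sum_range_succ, ← hmd, hmon.coeff_natDegree, one_smul, hmd] at h
    simp only [p0, map_add, map_pow, aeval_X, map_sum, map_mul, aeval_C, M1, T, Finset.mul_sum]
    rw [Fin.sum_univ_eq_sum_range (fun i => algebraMap k K (r i) * θ ^ i),
      Fin.sum_univ_eq_sum_range (fun i => algebraMap K0 K t * (algebraMap K0 K (a i) * θ ^ i)),
      ← add_right_inj (∑ i ∈ Finset.range n, algebraMap K0 K t * (algebraMap K0 K (a i) * θ ^ i)),
      add_neg_cancel, ← add_assoc, add_comm _ (θ ^ n), add_assoc, ← Finset.sum_add_distrib]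
    rw [← h, add_comm]
    congr 1
    refine Finset.sum_congr rfl fun i _ => ?_
    rw [Algebra.smul_def, hma, map_add, map_mul, ← IsScalarTower.algebraMap_apply]
    ring
  have hp0deg : p0.natDegree = n := by
    have : p0 = X ^ n + ∑ i : Fin n, C (r i) * X ^ (i : ℕ) := rfl
    rw [this, natDegree_eq_of_degree_eq_some]
    rw [degree_add_eq_left_of_degree_lt, degree_X_pow]
    rw [degree_X_pow]
    refine (degree_sum_le _ _).trans_lt ((Finset.sup_lt_iff (WithBot.bot_lt_coe _)).2 fun i _ => ?_)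
    exact (degree_C_mul_X_pow_le _ _).trans_lt (WithBot.coe_lt_coe.2 i.2)
  have hp0 : p0 ≠ 0 := fun e => by
    rw [e, natDegree_zero] at hp0deg
    have : 0 < n := Module.finrank_pos
    omega
  have hM1 : ∀ R, IsOver R P → R.1 M1 ≤ 1 := fun R hR => Valuation.map_sum_le _ fun i _ => by
    rw [map_mul, map_pow]
    exact mul_le_one' ((val_algebraMap_le_one_iff hR _).2 (ha i i.2))
      (pow_le_one₀ zero_le (gen_val_le hK0 hK h1 R hR))
  have hTv : ∀ R, IsOver R P → R.1 T = exp (-(ramIdx R P : ℤ)) := fun R hR => by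
    rw [(isOverWith_ramIdx hR) t, ht, ← exp_nsmul]; simp
  have hM1u : Q.1 M1 = 1 := by
    have h := (ram_le_natDegree hK0 hK h1 h2 hp0 fun R hR => by
      rw [hrel, Valuation.map_neg, map_mul, hTv R hR]
      exact (mul_le_mul' le_rfl (hM1 R hR)).trans_eq (mul_one _)).2 hp0deg Q hQ
    have hord := ord_gen hK0 hK h1 Q hQ hp0
    rw [h] at hord
    have hT0 : T ≠ 0 := (map_ne_zero_iff _ (algebraMap K0 K).injective).2 ht0
    have hM10 : M1 ≠ 0 := fun e => by
      rw [hrel, e, mul_zero, neg_zero, ord_zero] at hord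
      have := ramIdx_pos hQ
      omega
    rw [hrel, show (-(T * M1)) = (-1 : k) • (T * M1) by simp, ord_smul Q (by norm_num),
      ord_mul Q hT0 hM10, ord_of_val_eq Q (hTv Q hQ)] at hord
    exact (val_eq_one_iff Q hM10).2 (by omega)
  -- the derivation `d/du`
  obtain ⟨u, hu⟩ := exists_uniformizer Q
  have hus := isSepVar_uniformizer hK hu
  obtain ⟨Hu, hHu⟩ := exists_hasse hus
  obtain ⟨e, he⟩ := exists_isCoord hK Q hu
  let δ : Derivation k K K := dD hHu
  have hδint : ∀ z : K, Q.1 z ≤ 1 → Q.1 (δ z) ≤ 1 := fun z hz => he.val_hasseD_le_one hK hHu hz 1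
  have hstep : ∀ (N : ℕ) (x : K0), P.1 x ≤ 1 →
      Q.1 (δ (algebraMap K0 K x)) ≤ max (Q.1 (δ T)) (exp (-(N : ℤ))) := by
    intro N
    induction N with
    | zero => exact fun x hx => (hδint _ ((val_algebraMap_le_one_iff hQ _).2 hx)).trans (by simp)
    | succ N ih =>
      intro x hx
      obtain ⟨r, hr⟩ := exists_residue hK0 P hx
      let y := (x - algebraMap k K0 r) / t
      have hy : P.1 y ≤ 1 := by
        simp only [y, map_div₀, ht]
        refine (div_le_one₀ exp_pos).2 ?_
        simpa using (lt_exp_iff _ 0).1 (hr.trans_eq exp_zero.symm)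
      have e : algebraMap K0 K x = algebraMap k K r + T * algebraMap K0 K y := by
        rw [IsScalarTower.algebraMap_apply k K0 K, ← map_mul, ← map_add]
        simp only [y]; rw [mul_div_cancel₀ _ ht0]; ring_nf
      rw [e, map_add, δ.map_algebraMap, zero_add, δ.leibniz, smul_eq_mul, smul_eq_mul]
      refine (Valuation.map_add _ _ _).trans (max_le ?_ ?_)
      · rw [map_mul, hTv Q hQ]
        refine (mul_le_mul' le_rfl (ih y hy)).trans ?_
        have he1 := ramIdx_pos hQ
        rcases max_cases (Q.1 (δ T)) (exp (-(N : ℤ))) with ⟨h, -⟩ | ⟨h, -⟩ <;> rw [h]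
        · refine le_max_of_le_left ((mul_le_mul' ?_ le_rfl).trans_eq (one_mul _))
          rw [← exp_zero, exp_le_exp]; omega
        · refine le_max_of_le_right ?_
          rw [← exp_add, exp_le_exp]; push_cast; omega
      · rw [map_mul]
        exact le_max_of_le_left ((mul_le_mul' ((val_algebraMap_le_one_iff hQ _).2 hy) le_rfl).trans_eq (one_mul _))
  have hδK0 : ∀ x : K0, P.1 x ≤ 1 → Q.1 (δ (algebraMap K0 K x)) ≤ Q.1 (δ T) := by
    intro x hx
    by_contra! hlt
    have hne : δ (algebraMap K0 K x) ≠ 0 := fun h0 => by rw [h0, map_zero] at hlt; exact not_lt_zero hlt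
    have h := hstep ((Q.ord (δ (algebraMap K0 K x))).toNat + 1) x hx
    rcases le_max_iff.1 h with h' | h'
    · exact absurd h' (not_le.2 hlt)
    · rw [val_eq_exp_ord Q hne, exp_le_exp] at h'
      omega
  have hθ : Q.1 (δ θ) = 1 := by
    have h := h1 Q hQ
    have e2 : δ (θ - algebraMap k K (c Q)) = δ θ := by rw [map_sub, δ.map_algebraMap, sub_zero]
    rw [← e2]
    have hle : Q.1 (δ (θ - algebraMap k K (c Q))) ≤ exp (-(0 : ℤ)) := by
      rw [neg_zero, exp_zero]
      exact hδint _ (h.trans_le (by rw [← exp_zero, exp_le_exp]; norm_num))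
    have h3 := he.val_eq_iff _ hle
    rw [neg_zero, exp_zero] at h3
    refine h3.2 ?_
    show (e (LocRes.hasseD Hu 1 _)).coeff 0 ≠ 0
    rw [he.coeff_zero_hasseD hK hHu (h.trans_le (by rw [← exp_zero, exp_le_exp]; norm_num))]
    exact (he.val_eq_iff (θ - algebraMap k K (c Q)) (D := 1) h.le).1 h
  have hder : Q.1 (aeval θ (derivative m)) = Q.1 (δ T) := by
    have h := Derivation.apply_aeval_eq (A := K0) δ θ m
    rw [haev, map_zero] at h
    set S := (((δ.compAlgebraMap K0).mapCoeffs m).map K .id).eval θ with hS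
    have hSe : S = δ T * M1 + T * ∑ i : Fin n, δ (algebraMap K0 K (a i)) * θ ^ (i : ℕ) := by
      have hexp : S = ∑ i ∈ Finset.range (n + 1), δ (algebraMap K0 K (m.coeff i)) * θ ^ i := by
        have h4 := Derivation.apply_aeval_eq (A := K0) δ θ m
        have h5 : δ (aeval θ m) = (∑ i ∈ Finset.range (n + 1), δ (algebraMap K0 K (m.coeff i)) * θ ^ i) +
            aeval θ (derivative m) * δ θ := by
          have hd : ∀ i ∈ Finset.range (n + 1), δ (algebraMap K0 K (m.coeff i) * θ ^ i) =
              δ (algebraMap K0 K (m.coeff i)) * θ ^ i +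
                aeval θ (derivative (monomial i (m.coeff i))) * δ θ := by
            intro i _
            rw [δ.leibniz, δ.leibniz_pow, derivative_monomial, aeval_monomial]
            simp only [smul_eq_mul, nsmul_eq_mul, map_mul, map_natCast]
            ring
          conv_lhs => rw [aeval_eq_sum_range, hmd]
          simp only [Algebra.smul_def]
          rw [map_sum, Finset.sum_congr rfl hd, Finset.sum_add_distrib, ← Finset.sum_mul, ← map_sum, ← map_sum]
          congr 2
          conv_rhs => rw [m.as_sum_range, hmd]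
        rw [haev, map_zero] at h5 h4
        have := h4.symm.trans h5
        simpa using this
      rw [hexp, Finset.sum_range_succ, ← hmd, hmon.coeff_natDegree, map_one, δ.map_one_eq_zero, zero_mul,
        add_zero, hmd, ← Fin.sum_univ_eq_sum_range, Finset.mul_sum, Finset.mul_sum, ← Finset.sum_add_distrib]
      refine Finset.sum_congr rfl fun i _ => ?_
      rw [hma, map_add, map_mul, ← IsScalarTower.algebraMap_apply, map_add, δ.map_algebraMap, δ.leibniz,
        smul_eq_mul, smul_eq_mul]
      ring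
    have hrest : Q.1 (T * ∑ i : Fin n, δ (algebraMap K0 K (a i)) * θ ^ (i : ℕ)) ≤
        exp (-(ramIdx Q P : ℤ)) * Q.1 (δ T) := by
      rw [map_mul, hTv Q hQ]
      refine mul_le_mul' le_rfl (Valuation.map_sum_le _ fun i _ => ?_)
      rw [map_mul, map_pow]
      exact (mul_le_mul' (hδK0 _ (ha i i.2)) (pow_le_one₀ zero_le (gen_val_le hK0 hK h1 Q hQ))).trans_eq (mul_one _)
    have hval : Q.1 S = Q.1 (δ T) := by
      rcases eq_or_ne (δ T) 0 with h0 | h0
      · rw [h0, map_zero, mul_zero, le_zero_iff, Valuation.zero_iff] at hrest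
        rw [hSe, h0, hrest, zero_mul, add_zero]
      · rw [hSe, Valuation.map_add_eq_of_lt_left, map_mul, hM1u, mul_one]
        rw [map_mul (Q.1) (δ T) M1, hM1u, mul_one]
        refine hrest.trans_lt ?_
        rw [val_eq_exp_ord Q h0, ← exp_add, exp_lt_exp]
        have := ramIdx_pos hQ
        omega
    rw [← hval, show S = -(aeval θ (derivative m) • δ θ) from eq_neg_of_add_eq_zero_left h.symm,
      Valuation.map_neg, smul_eq_mul, map_mul, hθ, mul_one]
  have hne : aeval θ (derivative m) ≠ 0 :=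
    (Algebra.IsSeparable.isSeparable K0 θ).aeval_derivative_ne_zero haev
  have hne' : δ T ≠ 0 := fun h => hne (by rw [h, map_zero, Valuation.zero_iff] at hder; exact hder)
  rw [hder, ordDiff_eq hφ hu hus hHu, one_mul, val_eq_exp_ord Q hne']
  rfl

/-- the trace dual of the integral elements is given by the orders of differentials -/
lemma trace_dual_iff {t : K0} (ht : P.1 t = exp (-1 : ℤ)) {D : Place k K → ℤ}
    {Φ : Place k K → (K →ₐ[k] LaurentSeries k)} (hΦ : ∀ Q : Place k K, LocRes.IsExpansionAt Q.1 (Φ Q))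
    (hD : ∀ Q, IsOver Q P → D Q = LocRes.ordDiff (Φ Q) 1 (algebraMap K0 K t)) (z : K) :
    (∀ Q, IsOver Q P → Q.1 z ≤ exp (D Q)) ↔
      ∀ w, (∀ Q, IsOver Q P → Q.1 w ≤ 1) → P.1 (Algebra.trace K0 K (z * w)) ≤ 1 := by
  classical
  obtain ⟨pb, hgen, hdim⟩ := exists_powerBasis hK0 hK (linearIndependent_pow hK0 hK h1 h2)
  set η := aeval θ (derivative (minpoly K0 θ)) with hη
  have hηv : ∀ Q, IsOver Q P → Q.1 η = exp (-(D Q)) := fun Q hQ => by
    rw [hD Q hQ, hη]; exact ord_derivative_gen hK0 hK h1 h2 pb hgen hdim ht hQ (hΦ Q)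
  have hη0 : η ≠ 0 := (Algebra.IsSeparable.isSeparable K0 θ).aeval_derivative_ne_zero (minpoly.aeval _ _)
  -- the coefficients of `m / (X - θ)` are integral
  have hq : ∀ (d i : ℕ), pb.dim ≤ i + d → ∀ Q, IsOver Q P → Q.1 ((minpolyDiv K0 θ).coeff i) ≤ 1 := by
    have hmc : ∀ j, P.1 ((minpoly K0 θ).coeff j) ≤ 1 := by
      intro j
      have hmd : (minpoly K0 θ).natDegree = pb.dim := by rw [← hgen, pb.natDegree_minpoly]
      rcases lt_trichotomy j pb.dim with hj | rfl | hj
      · have h := repr_le_one hK0 hK h1 h2 pb hgen hdim (w := -(θ ^ pb.dim)) (fun Q hQ => by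
          rw [Valuation.map_neg, map_pow]; exact pow_le_one₀ zero_le (gen_val_le hK0 hK h1 Q hQ)) ⟨j, hj⟩
        have he : -(θ ^ pb.dim) = ∑ i : Fin pb.dim, (minpoly K0 θ).coeff i • pb.basis i := by
          have h' := minpoly.aeval K0 θ
          rw [aeval_eq_sum_range, hmd, Finset.sum_range_succ, ← hmd,
            (minpoly.monic (Algebra.IsIntegral.isIntegral θ)).coeff_natDegree, one_smul, hmd] at h'
          simp only [pb.coe_basis, hgen]
          rw [Fin.sum_univ_eq_sum_range (fun i => (minpoly K0 θ).coeff i • θ ^ i)]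
          linear_combination -h'
        rw [he, pb.basis.repr_sum_self (fun i : Fin pb.dim => (minpoly K0 θ).coeff i)] at h
        exact h
      · rw [← hmd, (minpoly.monic (Algebra.IsIntegral.isIntegral θ)).coeff_natDegree, map_one]
      · rw [coeff_eq_zero_of_natDegree_lt (hmd ▸ hj), map_zero]; exact zero_le
    intro d
    induction d with
    | zero =>
      intro i hi Q _
      rw [coeff_eq_zero_of_natDegree_lt ?_, map_zero]
      · exact zero_le
      · rw [natDegree_minpolyDiv, ← hgen, pb.natDegree_minpoly]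
        have := pb.dim_pos
        omega
    | succ d ih =>
      intro i hi Q hQ
      rw [coeff_minpolyDiv]
      refine Valuation.map_add_le _ ((val_algebraMap_le_one_iff hQ _).2 (hmc _)) ?_
      rw [map_mul]
      exact mul_le_one' (ih (i + 1) (by omega) Q hQ) (gen_val_le hK0 hK h1 Q hQ)
  constructor
  · intro hz w hw
    have hzw : ∀ Q, IsOver Q P → Q.1 (z * w * η) ≤ 1 := fun Q hQ => by
      rw [map_mul, map_mul, hηv Q hQ]
      refine (mul_le_mul' (mul_le_mul' (hz Q hQ) (hw Q hQ)) le_rfl).trans_eq ?_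
      rw [mul_one, ← exp_add, add_neg_cancel, exp_zero]
    have hrep := repr_le_one hK0 hK h1 h2 pb hgen hdim hzw
    have hlast : pb.dim - 1 < pb.dim := Nat.sub_lt pb.dim_pos Nat.one_pos
    have hdual : ∀ i : Fin pb.dim, Algebra.trace K0 K (pb.basis i / η) = if (i : ℕ) = pb.dim - 1 then 1 else 0 := by
      intro i
      have h := pb.basis.trace_mul_traceDual i ⟨pb.dim - 1, hlast⟩
      rw [Module.Basis.traceDual_powerBasis_eq pb, hgen] at h
      have h1' : (minpolyDiv K0 θ).coeff (pb.dim - 1) = 1 := by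
        have hm := minpolyDiv_monic (R := K0) (x := θ) (Algebra.IsIntegral.isIntegral θ)
        rw [Monic, leadingCoeff, natDegree_minpolyDiv, ← hgen, pb.natDegree_minpoly] at hm
        rw [← hgen]; exact hm
      simp only [h1', one_div, Fin.ext_iff] at h
      rw [div_eq_mul_inv]
      exact h
    have e : z * w = ∑ i, pb.basis.repr (z * w * η) i • (pb.basis i / η) := by
      rw [Finset.sum_congr rfl fun i _ => (smul_div_assoc _ _ _).symm, ← Finset.sum_div, pb.basis.sum_repr,
        mul_div_cancel_right₀ _ hη0]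
    rw [e, map_sum]
    refine Valuation.map_sum_le _ fun i _ => ?_
    rw [map_smul, hdual i, smul_eq_mul]
    split_ifs
    · rw [mul_one]; exact hrep i
    · simp
  · intro h Q hQ
    have e : z * η = ∑ i : Fin pb.dim, Algebra.trace K0 K (z * pb.basis i) • (minpolyDiv K0 θ).coeff i := by
      conv_lhs => rw [← pb.basis.traceDual.sum_repr z]
      rw [Finset.sum_mul]
      refine Finset.sum_congr rfl fun i _ => ?_
      rw [smul_mul_assoc, Module.Basis.traceDual_powerBasis_eq pb, hgen, div_mul_cancel₀ _ hη0,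
        Module.Basis.traceDual_repr_apply, Algebra.traceForm_apply]
    have hle : Q.1 (z * η) ≤ 1 := by
      rw [e]
      refine Valuation.map_sum_le _ fun i _ => ?_
      rw [Algebra.smul_def, map_mul]
      refine mul_le_one' ((val_algebraMap_le_one_iff hQ _).2 (h _ fun R hR => ?_)) (hq pb.dim i (by omega) Q hQ)
      rw [pb.coe_basis, hgen, map_pow]
      exact pow_le_one₀ zero_le (gen_val_le hK0 hK h1 R hR)
    rw [map_mul, hηv Q hQ] at hle
    calc Q.1 z = Q.1 z * exp (-(D Q)) * exp (D Q) := by rw [mul_assoc, ← exp_add, neg_add_cancel, exp_zero, mul_one]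
      _ ≤ 1 * exp (D Q) := mul_le_mul' hle le_rfl
      _ = exp (D Q) := one_mul _

end Groth.Agent.FFWr
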