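import Groth.Agent.FFEmb.MapStatements
import Groth.Agent.FFEmb.Plane
import Groth.Agent.FFWr.AdjLocal

/-! Fibres of projective maps and the conductor along a fibre. -/

set_option autoImplicit false
set_option linter.style.haveILetI false
set_option linter.unusedSectionVars false

open FunFld WithZero Groth.Agent.FF Groth.Agent.FFEmb Groth.Agent.FFEmb.Map

namespace Groth.Agent.FFWr

variable {k K : Type*} [Field k] [IsAlgClosed k] [Field K] [Algebra k K] (hK : IsFunctionField k K)
include hK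

theorem finite_sameImage {n : ℕ} (hn : 1 ≤ n) {φ : Fin (n + 1) → K} (hφ : LinearIndependent k φ)
    (P : Place k K) : {Q : Place k K | SameImage φ P Q}.Finite := by
  classical
  have : {Q : Place k K | SameImage φ P Q} ⊆ ⋃ j : Fin (n + 1),
      {Q : Place k K | ∀ i, ∃ c : k, P.1 (φ i / φ j - algebraMap k K c) < 1 ∧
        Q.1 (φ i / φ j - algebraMap k K c) < 1} := fun Q ⟨j, _, _, _, hc⟩ => Set.mem_iUnion.2 ⟨j, hc⟩
  refine (Set.finite_iUnion fun j => ?_).subset this
  haveI : Nontrivial (Fin (n + 1)) := Fin.nontrivial_iff_two_le.2 (by omega)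
  obtain ⟨i, hij⟩ := exists_ne j
  have hj0 := hφ.ne_zero j
  by_cases hex : ∃ c : k, P.1 (φ i / φ j - algebraMap k K c) < 1
  · obtain ⟨c, hc⟩ := hex
    have hne : φ i / φ j - algebraMap k K c ≠ 0 := fun h => by
      have h' : φ i = c • φ j := by
        rw [sub_eq_zero, div_eq_iff hj0] at h; rw [h, Algebra.smul_def]
      have h2 := Fintype.linearIndependent_iff.1 hφ (Pi.single i 1 - Pi.single j c) (by
          simp [sub_smul, Pi.single_apply, ite_smul, Finset.sum_sub_distrib, h']) i
      simp [hij] at h2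
    refine ((finite_support_ord hK.1 (φ i / φ j - algebraMap k K c))).subset fun Q hQ => ?_
    obtain ⟨c', hc'P, hc'Q⟩ := hQ i
    obtain rfl : c' = c := by
      by_contra hcc
      have h : P.1 (algebraMap k K (c - c')) < 1 := by
        rw [show algebraMap k K (c - c') =
          (φ i / φ j - algebraMap k K c') - (φ i / φ j - algebraMap k K c) by rw [map_sub]; ring]
        exact lt_of_le_of_lt (P.1.map_sub _ _) (max_lt hc'P hc)
      rw [val_const P (sub_ne_zero.2 (Ne.symm hcc))] at h
      exact lt_irrefl _ h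
    exact ((val_lt_one_iff Q hne).1 hc'Q).ne'
  · exact Set.finite_empty.subset fun Q hQ => hex ⟨_, (hQ i).choose_spec.1⟩

theorem finite_zeroPlaces {n : ℕ} {φ : Fin (n + 1) → K} (hφ : LinearIndependent k φ)
    (g : MvPolynomial (Fin (n + 1)) k) {e : ℕ} (hg : g.IsHomogeneous e) (hne : MvPolynomial.aeval φ g ≠ 0) :
    {P : Place k K | ∃ j, φ j ≠ 0 ∧ (∀ i, P.1 (φ i) ≤ P.1 (φ j)) ∧
      P.1 (MvPolynomial.aeval (fun i => φ i / φ j) g) < 1}.Finite := by
  classical
  have hF : Fits φ (mapDiv k φ) := fits_mapDiv hK φ (Or.inl fun i => hφ.ne_zero i)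
  refine ((mapDiv k φ).support.finite_toSet.union (finite_support_ord hK.1 (MvPolynomial.aeval φ g))).subset ?_
  rintro P ⟨j, hj0, hj, hlt⟩
  by_contra hno
  simp only [Set.mem_union, Finset.mem_coe, Finsupp.mem_support_iff, Function.mem_support, not_or, not_not] at hno
  have hscal : MvPolynomial.aeval (fun i => φ i / φ j) g = (φ j)⁻¹ ^ e * MvPolynomial.aeval φ g := by
    simp only [div_eq_mul_inv, MvPolynomial.aeval_def, MvPolynomial.eval₂_eq, Finset.mul_sum]
    refine Finset.sum_congr rfl fun m hm => ?_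
    have hm' : ∑ i ∈ m.support, m i = e := by
      have h := hg (MvPolynomial.mem_support_iff.1 hm)
      simpa [Finsupp.weight_apply, Finsupp.sum] using h
    simp only [mul_pow, Finset.prod_mul_distrib, Finset.prod_pow_eq_pow_sum, hm']
    ring
  rw [hscal, map_mul, map_pow, map_inv₀, hF.val_least hj, hno.1, exp_zero, inv_one, one_pow, one_mul,
    val_eq_exp_ord P hne, hno.2, neg_zero, exp_zero] at hlt
  exact lt_irrefl _ hlt

theorem exists_global_conductor {n : ℕ} {φ : Fin (n + 1) → K} {D : Divisor k K} (hF : Fits φ D)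
    (hbir : IntermediateField.adjoin k (Set.range fun i => φ i / φ 0) = ⊤) (M : ℕ) :
    ∃ e : ℕ, ∃ a ∈ Submodule.span k (Set.range φ) ^ e, a ≠ 0 ∧
      ∀ b ∈ L (M • D), a * b ∈ Submodule.span k (Set.range φ) ^ (M + e) := by
  classical
  have hj0 : φ 0 ≠ 0 := by
    intro h
    have hbot : IntermediateField.adjoin k (Set.range fun i => φ i / φ 0) ≤ ⊥ := by
      rw [IntermediateField.adjoin_le_iff]; rintro _ ⟨i, rfl⟩; simp [h]
    rw [hbir] at hbot
    obtain ⟨x, hx⟩ := exists_transcendental hK.1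
    obtain ⟨c, hc⟩ := IntermediateField.mem_bot.1 (hbot (x := x) (IntermediateField.mem_top))
    exact hx (hc ▸ isAlgebraic_algebraMap (A := K) c)
  set W := Submodule.span k (Set.range φ) with hW
  have hjW : φ 0 ∈ W := Submodule.subset_span ⟨0, rfl⟩
  have hadj : ∀ x ∈ Algebra.adjoin k (Set.range fun i => φ i / φ 0), ∃ n : ℕ, x * φ 0 ^ n ∈ W ^ n := by
    intro x hx
    induction hx using Algebra.adjoin_induction with
    | mem x hx =>
      obtain ⟨i, rfl⟩ := hx
      exact ⟨1, by rw [pow_one, pow_one, div_mul_cancel₀ _ hj0]; exact Submodule.subset_span ⟨i, rfl⟩⟩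
    | algebraMap r => exact ⟨0, by rw [pow_zero, pow_zero, mul_one]; exact Submodule.algebraMap_mem r⟩
    | add x y _ _ hx hy =>
      obtain ⟨n, hn⟩ := hx; obtain ⟨m, hm⟩ := hy
      refine ⟨n + m, ?_⟩
      rw [add_mul]
      refine add_mem ?_ ?_
      · rw [pow_add, pow_add, ← mul_assoc]
        exact Submodule.mul_mem_mul hn (Submodule.pow_mem_pow _ hjW m)
      · rw [pow_add, pow_add, mul_comm (φ 0 ^ n), ← mul_assoc, mul_comm (W ^ n)]
        exact Submodule.mul_mem_mul hm (Submodule.pow_mem_pow _ hjW n)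
    | mul x y _ _ hx hy =>
      obtain ⟨n, hn⟩ := hx; obtain ⟨m, hm⟩ := hy
      refine ⟨n + m, ?_⟩
      rw [pow_add, pow_add, show x * y * (φ 0 ^ n * φ 0 ^ m) = (x * φ 0 ^ n) * (y * φ 0 ^ m) by ring]
      exact Submodule.mul_mem_mul hn hm
  have hone : ∀ b : K, ∃ e : ℕ, ∃ a ∈ W ^ e, a ≠ 0 ∧ a * b ∈ W ^ (M + e) := by
    intro b
    have hb : b / φ 0 ^ M ∈ IntermediateField.adjoin k (Set.range fun i => φ i / φ 0) := by
      rw [hbir]; trivial
    obtain ⟨r, hr, s, hs, hrs⟩ := IntermediateField.mem_adjoin_iff_div.1 hb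
    rcases eq_or_ne s 0 with hs0 | hs0
    · rw [hs0, div_zero, div_eq_zero_iff] at hrs
      refine ⟨0, 1, by rw [pow_zero]; exact Submodule.one_le.1 le_rfl, one_ne_zero, ?_⟩
      rw [hrs.resolve_right (pow_ne_zero _ hj0), mul_zero]
      exact zero_mem _
    obtain ⟨n, hn⟩ := hadj r hr
    obtain ⟨m, hm⟩ := hadj s hs
    refine ⟨m + n, s * φ 0 ^ (m + n), ?_, mul_ne_zero hs0 (pow_ne_zero _ hj0), ?_⟩
    · rw [pow_add, pow_add, ← mul_assoc]
      exact Submodule.mul_mem_mul hm (Submodule.pow_mem_pow _ hjW n)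
    · have e : s * φ 0 ^ (m + n) * b = φ 0 ^ M * φ 0 ^ m * (r * φ 0 ^ n) := by
        rw [eq_div_iff hs0] at hrs
        rw [← hrs, pow_add]
        field_simp
      rw [e, show M + (m + n) = (M + m) + n by ring, pow_add W (M + m) n, ← pow_add (φ 0) M m]
      exact Submodule.mul_mem_mul (Submodule.pow_mem_pow _ hjW _) hn
  haveI := finiteDimensional_L hK (M • D)
  obtain ⟨B, hB⟩ : (L (M • D)).FG := (Submodule.fg_top _).1 (IsNoetherian.noetherian ⊤)
  have hall : ∀ B : Finset K, ∃ e : ℕ, ∃ a ∈ W ^ e, a ≠ 0 ∧ ∀ b ∈ B, a * b ∈ W ^ (M + e) := by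
    intro B
    induction B using Finset.induction_on with
    | empty => exact ⟨0, 1, by rw [pow_zero]; exact Submodule.one_le.1 le_rfl, one_ne_zero, by simp⟩
    | @insert b B _ ih =>
      obtain ⟨e, a, ha, ha0, hab⟩ := ih
      obtain ⟨e', a', ha', ha'0, hab'⟩ := hone b
      refine ⟨e + e', a * a', by rw [pow_add]; exact Submodule.mul_mem_mul ha ha', mul_ne_zero ha0 ha'0,
        fun x hx => ?_⟩
      rcases Finset.mem_insert.1 hx with rfl | hx
      · rw [mul_assoc, show M + (e + e') = e + (M + e') by ring, pow_add W e]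
        exact Submodule.mul_mem_mul ha hab'
      · rw [show a * a' * x = a * x * a' by ring, ← add_assoc, pow_add W (M + e)]
        exact Submodule.mul_mem_mul (hab x hx) ha'
  obtain ⟨e, a, ha, ha0, hab⟩ := hall B
  refine ⟨e, a, ha, ha0, fun b hb => ?_⟩
  rw [← hB] at hb
  induction hb using Submodule.span_induction with
  | mem x hx => exact hab x hx
  | zero => rw [mul_zero]; exact zero_mem _
  | add x y _ _ hx hy => rw [mul_add]; exact add_mem hx hy
  | smul c x _ hx => rw [mul_smul_comm]; exact Submodule.smul_mem _ c hx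

theorem exists_bound_inLocRing {n : ℕ} (hn : 1 ≤ n) {φ : Fin (n + 1) → K} (hφ : LinearIndependent k φ)
    (hbir : IntermediateField.adjoin k (Set.range fun i => φ i / φ 0) = ⊤) (P : Place k K) :
    ∃ N : ℕ, ∀ z : K, (∀ Q : Place k K, SameImage φ P Q → Q.1 z ≤ exp (-(N : ℤ))) → InLocRing φ P z := by
  classical
  set D := mapDiv k φ with hD
  set W := Submodule.span k (Set.range φ) with hW
  have hF : Fits φ D := fits_mapDiv hK φ (Or.inl fun i => hφ.ne_zero i)
  -- the fibre and a hyperplane missing it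
  have hfin := finite_sameImage hK hn hφ P
  obtain ⟨h, hh, hhF⟩ := Plane.exists_exact_combination hF.span_le hF.span_exact (insert P hfin.toFinset)
  have hhP : P.1 h = exp (D P) := hhF P (Finset.mem_insert_self _ _)
  have hh0 : h ≠ 0 := ne_zero_of_val_eq_exp P hhP
  obtain ⟨jP, hjP0, hjP, hjPv⟩ := hF.exists_least P
  obtain ⟨a, ha⟩ := (Submodule.mem_span_range_iff_exists_fun k).1 hh
  set R := Algebra.adjoin k (Set.range fun i => φ i / h) with hR
  set Rj := Algebra.adjoin k (Set.range fun i => φ i / φ jP) with hRj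
  -- degree and a universal denominator
  have hd : 1 ≤ D.deg := by
    haveI : Nontrivial (Fin (n + 1)) := Fin.nontrivial_iff_two_le.2 (by omega)
    obtain ⟨i, hi⟩ := exists_ne (0 : Fin (n + 1))
    have hge : 0 ≤ D.deg := hF.deg_nonneg hK
    rcases hge.lt_or_eq with h' | h'
    · omega
    exfalso
    have h1 := finrank_span_eq_card hφ
    haveI := finiteDimensional_L hK D
    have h2 : Module.finrank k ↥(Submodule.span k (Set.range φ)) ≤ ell D := Submodule.finrank_mono hF.span_le
    rw [h1, Fintype.card_fin] at h2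
    obtain ⟨z, hz, hz'⟩ := exists_nonneg_equiv hK (D := D) (by omega)
    have h3 := ell_le_of_nonneg hK hz'
    rw [ell_add_div hK hz, deg_add, deg_div hK, ← h'] at h3
    omega
  let M := 2 * genus k K + 1
  have hM : 2 * (genus k K : ℤ) - 1 ≤ ((M : ℤ) - 1) * D.deg := by simp only [M]; push_cast; nlinarith
  obtain ⟨e, a1, ha1, ha10, ha1b⟩ := exists_global_conductor hK hF hbir M
  set r1 := a1 / h ^ e with hr1
  have hr10 : r1 ≠ 0 := div_ne_zero ha10 (pow_ne_zero _ hh0)
  refine ⟨(insert P hfin.toFinset).sup fun Q => (Q.ord r1).toNat, fun z hz => ?_⟩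
  rcases eq_or_ne z 0 with rfl | hz0
  · exact ⟨jP, hjP0, hjP, 0, zero_mem _, 1, one_mem _, map_one _, zero_mul 1⟩
  set f0 := z / r1 with hf0
  have hf00 : f0 ≠ 0 := div_ne_zero hz0 hr10
  -- a unit at `P` killing the finite poles
  set S := (FunFld.div k f0).support.filter fun Q => Q.1 h = exp (D Q) ∧ 1 < Q.1 f0 with hS
  obtain ⟨w0, hw0, hw0P, hw0S⟩ : ∃ w0 ∈ R, P.1 w0 = 1 ∧ ∀ Q ∈ S, Q.1 (f0 * w0) ≤ 1 := by
    have hint : ∀ (Q : Place k K), Q.1 h = exp (D Q) → ∀ x ∈ R, Q.1 x ≤ 1 := by
      intro Q hQ x hx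
      induction hx using Algebra.adjoin_induction with
      | mem x hx =>
        obtain ⟨i, rfl⟩ := hx
        rw [map_div₀, hQ, div_le_one₀ exp_pos]; exact hF.mem i Q
      | algebraMap c => exact Q.2.1 c
      | add x y _ _ hx hy => exact Valuation.map_add_le _ hx hy
      | mul x y _ _ hx hy => rw [map_mul]; exact mul_le_one' hx hy
    have hone : ∀ Q ∈ S, ∃ q ∈ R, P.1 q = 1 ∧ Q.1 q < 1 := by
      intro Q hQ
      simp only [hS, Finset.mem_filter] at hQ
      obtain ⟨-, hQh, hQf⟩ := hQ
      by_contra hc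
      push Not at hc
      have hsame : SameImage φ P Q := by
        have hPQ : ∀ i, ∃ c : k, P.1 (φ i / h - algebraMap k K c) < 1 ∧ Q.1 (φ i / h - algebraMap k K c) < 1 := by
          intro i
          obtain ⟨c, hcQ⟩ := exists_residue hK Q (hint Q hQh _ (Algebra.subset_adjoin ⟨i, rfl⟩))
          refine ⟨c, ?_, hcQ⟩
          by_contra hP
          have hP1 : P.1 (φ i / h - algebraMap k K c) = 1 := le_antisymm
            (hint P hhP _ (sub_mem (Algebra.subset_adjoin ⟨i, rfl⟩) (R.algebraMap_mem c))) (not_lt.1 hP)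
          exact (hc _ (sub_mem (Algebra.subset_adjoin ⟨i, rfl⟩) (R.algebraMap_mem c)) hP1).not_gt hcQ
        obtain ⟨c0, hcP, hcQ⟩ := hPQ jP
        have hc0 : c0 ≠ 0 := fun e0 => by
          rw [e0, map_zero, sub_zero, map_div₀, hjPv, hhP, div_self exp_ne_zero] at hcP
          exact lt_irrefl _ hcP
        have hQj : Q.1 (φ jP) = exp (D Q) := by
          have : Q.1 (φ jP / h) = 1 := by
            rw [show φ jP / h = (φ jP / h - algebraMap k K c0) + algebraMap k K c0 by ring,
              Valuation.map_add_eq_of_lt_right _ (by rwa [val_const Q hc0]), val_const Q hc0]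
          rw [map_div₀, hQh] at this
          exact (div_eq_one_iff_eq exp_ne_zero).1 this
        refine ⟨jP, hjP0, hjP, fun i => hQj ▸ hF.mem i Q, fun i => ?_⟩
        obtain ⟨c, hP', hQ'⟩ := hPQ i
        refine ⟨c / c0, ?_⟩
        have key : ∀ X : Place k K, X.1 (φ jP / h) = 1 → X.1 (φ i / h - algebraMap k K c) < 1 →
            X.1 (φ jP / h - algebraMap k K c0) < 1 → X.1 (φ i / φ jP - algebraMap k K (c / c0)) < 1 := by
          intro X h1 h2 h3
          have e : φ i / φ jP - algebraMap k K (c / c0) = ((φ i / h - algebraMap k K c) -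
              algebraMap k K (c / c0) * (φ jP / h - algebraMap k K c0)) * (φ jP / h)⁻¹ := by
            rw [map_div₀]
            have : algebraMap k K c0 ≠ 0 := by simpa using hc0
            field_simp
            ring
          rw [e, map_mul, map_inv₀, h1, inv_one, mul_one]
          refine lt_of_le_of_lt (X.1.map_sub _ _) (max_lt h2 ?_)
          rw [map_mul]
          exact lt_of_le_of_lt (mul_le_of_le_one_left zero_le (X.2.1 _)) h3
        refine ⟨key P ?_ hP' hcP, key Q ?_ hQ' hcQ⟩
        · rw [map_div₀, hjPv, hhP, div_self exp_ne_zero]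
        · rw [map_div₀, hQj, hQh, div_self exp_ne_zero]
      have h1 := hz Q hsame
      have h2 : (Q.ord r1).toNat ≤ (insert P hfin.toFinset).sup fun Q => (Q.ord r1).toNat :=
        Finset.le_sup (f := fun Q : Place k K => (Q.ord r1).toNat)
          (Finset.mem_insert_of_mem (hfin.mem_toFinset.2 hsame))
      rw [hf0, map_div₀, val_eq_exp_ord Q hr10, one_lt_div₀ exp_pos] at hQf
      have h4 := hQf.trans_le h1
      rw [exp_lt_exp] at h4
      omega
    choose! q hqR hqP hqQ using hone
    set N := fun Q : Place k K => (-(Q.ord f0)).toNat with hN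
    refine ⟨∏ Q ∈ S, q Q ^ N Q, prod_mem fun Q hQ => pow_mem (hqR Q hQ) _, ?_, fun Q hQ => ?_⟩
    · rw [map_prod]; exact Finset.prod_eq_one fun Q hQ => by rw [map_pow, hqP Q hQ, one_pow]
    · have hQh : Q.1 h = exp (D Q) := (Finset.mem_filter.1 hQ).2.1
      rw [map_mul, map_prod, ← Finset.mul_prod_erase _ _ hQ, map_pow]
      have hrest : ∏ x ∈ S.erase Q, Q.1 (q x ^ N x) ≤ 1 := Finset.prod_le_one' fun x hx =>
        hint Q hQh _ (pow_mem (hqR x (Finset.mem_of_mem_erase hx)) _)
      have hq : Q.1 (q Q) ≤ exp (-1 : ℤ) := by simpa using (lt_exp_iff _ 0).1 ((hqQ Q hQ).trans_eq exp_zero.symm)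
      refine (mul_le_mul' le_rfl (mul_le_mul' (pow_le_pow_left' hq _) hrest)).trans ?_
      rw [mul_one, val_eq_exp_ord Q hf00, ← exp_nsmul, ← exp_add, ← exp_zero, exp_le_exp]
      have := Int.self_le_toNat (-(Q.ord f0))
      simp only [hN, nsmul_eq_mul]
      omega
  -- clear denominators
  set f := f0 * w0 with hf
  have hw00 : w0 ≠ 0 := fun e => by simp [e] at hw0P
  have hf_0 : f ≠ 0 := mul_ne_zero hf00 hw00
  have hreg : ∀ Q : Place k K, Q.1 h = exp (D Q) → Q.1 f ≤ 1 := by
    intro Q hQ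
    by_cases hQS : Q ∈ S
    · exact hw0S Q hQS
    · have hf0Q : Q.1 f0 ≤ 1 := by
        by_contra hlt
        rw [not_le] at hlt
        refine hQS (Finset.mem_filter.2 ⟨Finsupp.mem_support_iff.2 ?_, hQ, hlt⟩)
        rw [div_apply hK.1]; exact ((one_lt_val_iff Q f0).1 hlt).ne
      rw [hf, map_mul]
      refine mul_le_one' hf0Q ?_
      clear hw0S hw0P hw00 hf_0 hf f
      induction hw0 using Algebra.adjoin_induction with
      | mem x hx =>
        obtain ⟨i, rfl⟩ := hx
        rw [map_div₀, hQ, div_le_one₀ exp_pos]; exact hF.mem i Q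
      | algebraMap c => exact Q.2.1 c
      | add x y _ _ hx hy => exact Valuation.map_add_le _ hx hy
      | mul x y _ _ hx hy => rw [map_mul]; exact mul_le_one' hx hy
  obtain ⟨m, hm⟩ : ∃ m : ℕ, f * h ^ (M + m) ∈ L ((M + m) • D) := by
    set T := (FunFld.div k f).support with hT
    refine ⟨∑ Q ∈ T, (-(Q.ord f)).toNat, fun Q => ?_⟩
    set m := ∑ Q ∈ T, (-(Q.ord f)).toNat with hm
    have hgh : Q.1 h ≤ exp (D Q) := hF.span_le hh Q
    rw [map_mul, map_pow, Finsupp.smul_apply, nsmul_eq_mul]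
    by_cases hQ : Q.1 h = exp (D Q)
    · rw [hQ, ← exp_nsmul, nsmul_eq_mul]; exact mul_le_of_le_one_left zero_le (hreg Q hQ)
    · have hlt : D Q + Q.ord h > 0 := by
        have h1 : -(D Q) ≤ Q.ord h := (val_le_exp_iff Q hh0 (D Q)).1 hgh
        rcases lt_or_eq_of_le h1 with h2 | h2
        · omega
        · exact absurd (by rw [val_eq_exp_ord Q hh0]; congr 1; omega) hQ
      rw [val_eq_exp_ord Q hf_0, val_eq_exp_ord Q hh0, ← exp_nsmul, ← exp_add, exp_le_exp, nsmul_eq_mul]
      have hmle : -(Q.ord f) ≤ (m : ℤ) := by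
        by_cases hQT : Q ∈ T
        · have := Finset.single_le_sum (f := fun Q : Place k K => (-(Q.ord f)).toNat) (fun _ _ => Nat.zero_le _) hQT
          have := Int.self_le_toNat (-(Q.ord f))
          omega
        · rw [hT, Finsupp.notMem_support_iff, div_apply hK.1] at hQT
          omega
      push_cast
      nlinarith
  have hnum : a1 * (f * h ^ (M + m)) ∈ W ^ (m + (M + e)) := by
    refine Submodule.mul_induction_on (L_nsmul_le hK hF.span_le hF.span_exact (by omega) hM m hm)
      (fun u hu b hb => ?_) (fun x y hx hy => by rw [mul_add]; exact add_mem hx hy)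
    rw [pow_add, show a1 * (u * b) = u * (a1 * b) by ring]
    exact Submodule.mul_mem_mul hu (ha1b b hb)
  have hzw : z * w0 ∈ R := by
    have h1 := div_pow_mem_adjoin (c := h) hnum
    rwa [show a1 * (f * h ^ (M + m)) / h ^ (m + (M + e)) = z * w0 by
      rw [show m + (M + e) = M + m + e by ring, hf, hf0, hr1, pow_add _ (M + m)]; field_simp] at h1
  -- back to the standard chart
  have hle : ∀ x ∈ R, x ∈ locSubring Rj P := by
    intro x hx
    induction hx using Algebra.adjoin_induction with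
    | mem x hx =>
      obtain ⟨i, rfl⟩ := hx
      show φ i / h ∈ locSubring Rj P
      rw [show φ i / h = (φ i / φ jP) / (h / φ jP) by rw [div_div_div_cancel_right₀ hjP0]]
      refine div_mem_locSubring (le_locSubring _ _ (Algebra.subset_adjoin ⟨i, rfl⟩)) (le_locSubring _ _ ?_)
        (by rw [map_div₀, hhP, hjPv, div_self exp_ne_zero])
      rw [← ha, Finset.sum_div]
      exact sum_mem fun l _ => by rw [smul_div_assoc]; exact Subalgebra.smul_mem _ (Algebra.subset_adjoin (Set.mem_range_self (f := fun i => φ i / φ jP) l)) _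
    | algebraMap c => exact le_locSubring _ _ (Rj.algebraMap_mem c)
    | add x y _ _ hx hy => exact add_mem hx hy
    | mul x y _ _ hx hy => exact mul_mem hx hy
  obtain ⟨u, hu, w, hw, hwP, huw⟩ : z ∈ locSubring Rj P := by
    rw [show z = z * w0 / w0 by rw [mul_div_cancel_right₀ _ hw00]]
    exact div_mem_locSubring (hle _ hzw) (hle _ hw0) hw0P
  exact ⟨jP, hjP0, hjP, u, hu, w, hw, hwP, huw⟩

end Groth.Agent.FFWr
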