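import Groth.Agent.FFWr.Local
import Groth.Agent.FFWr.WDiv
import Mathlib.GroupTheory.CosetCover
import Mathlib.FieldTheory.PrimitiveElement

/-! Generators chosen inside a generating subspace. -/

set_option autoImplicit false
set_option linter.style.haveILetI false
set_option linter.unusedSectionVars false

open FunFld WithZero IntermediateField Groth.Agent.FF

namespace Groth.Agent.FFWr

variable {k K : Type*} [Field k] [IsAlgClosed k] [Field K] [Algebra k K]

/-- an affine subspace `y₀ + W`, `W` generating, contains a primitive element over `k(x)` -/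
theorem exists_primitive_in_affine (x : K) [FiniteDimensional k⟮x⟯ K] [Algebra.IsSeparable k⟮x⟯ K]
    (W : Submodule k K) (y0 : K) (hW : IntermediateField.adjoin k (W : Set K) = ⊤) :
    ∃ w ∈ W, IntermediateField.adjoin k ({x, y0 + w} : Set K) = ⊤ := by
  classical
  haveI : Finite (IntermediateField k⟮x⟯ K) := Field.finite_intermediateField_of_exists_primitive_element _ _
    (Field.exists_primitive_element k⟮x⟯ K)
  haveI : Infinite k := IsAlgClosed.instInfinite
  let sub : IntermediateField k⟮x⟯ K → Submodule k K := fun L => Subalgebra.toSubmodule (L.restrictScalars k).toSubalgebra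
  -- a vector outside every proper intermediate field
  have hz : ∃ z ∈ W, ∀ L : IntermediateField k⟮x⟯ K, L ≠ ⊤ → z ∉ sub L := by
    by_contra! hno
    have hcover : ⋃ L : {L : IntermediateField k⟮x⟯ K // L ≠ ⊤}, (((sub L.1).comap W.subtype : Submodule k W) : Set W) =
        Set.univ := by
      refine Set.eq_univ_of_forall fun z => ?_
      obtain ⟨L, hL, hz⟩ := hno z.1 z.2
      exact Set.mem_iUnion.2 ⟨⟨L, hL⟩, hz⟩
    obtain ⟨⟨L, hL⟩, htop⟩ := Subspace.exists_eq_top_of_iUnion_eq_univ hcover
    apply hL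
    have hsub : (W : Set K) ⊆ L.restrictScalars k := fun z hz => by
      have : (⟨z, hz⟩ : W) ∈ (sub L).comap W.subtype := htop ▸ Submodule.mem_top
      exact this
    have h2 : IntermediateField.adjoin k (W : Set K) ≤ L.restrictScalars k := IntermediateField.adjoin_le_iff.2 hsub
    rw [hW] at h2
    exact eq_top_iff.2 fun z _ => h2 (trivial : z ∈ (⊤ : IntermediateField k K))
  obtain ⟨z, hzW, hz⟩ := hz
  have hbad : ∀ L : IntermediateField k⟮x⟯ K, L ≠ ⊤ → {t : k | y0 + t • z ∈ sub L}.Subsingleton := by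
    intro L hL t ht t' ht'
    by_contra hne
    have h : (t - t') • z ∈ sub L := by
      rw [show (t - t') • z = (y0 + t • z) - (y0 + t' • z) by rw [sub_smul]; abel]
      exact sub_mem ht ht'
    exact hz L hL (by simpa [smul_smul, sub_ne_zero.2 hne] using (sub L).smul_mem (t - t')⁻¹ h)
  obtain ⟨t, ht⟩ := Set.Finite.exists_notMem
    (Set.finite_iUnion fun L : {L : IntermediateField k⟮x⟯ K // L ≠ ⊤} => (hbad L.1 L.2).finite)
  refine ⟨t • z, W.smul_mem t hzW, ?_⟩
  set M := IntermediateField.adjoin k⟮x⟯ ({y0 + t • z} : Set K) with hM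
  have hMtop : M = ⊤ := by
    by_contra h
    exact ht (Set.mem_iUnion.2 ⟨⟨M, h⟩, mem_adjoin_simple_self _ _⟩)
  have h3 : M.restrictScalars k ≤ IntermediateField.adjoin k ({x, y0 + t • z} : Set K) := by
    rw [hM, IntermediateField.adjoin_simple_adjoin_simple]
  rw [hMtop, IntermediateField.restrictScalars_top] at h3
  exact top_le_iff.1 h3

variable (hK : IsFunctionField k K)
include hK

theorem exists_separating_mem (W : Submodule k K) (hW : IntermediateField.adjoin k (W : Set K) = ⊤) :
    ∃ x ∈ W, Algebra.IsSeparable k⟮x⟯ K := by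
  by_contra! hno
  obtain ⟨P⟩ := nonempty_place hK.1
  obtain ⟨t, ht⟩ := exists_uniformizer P
  have hts := isSepVar_uniformizer hK ht
  have hD : KaehlerDifferential.D k K t ≠ 0 := (isSepVar_iff_D_ne_zero hK good_of_perfect).1 hts
  apply hD
  have h0 : ∀ x ∈ W, KaehlerDifferential.D k K x = 0 := fun x hx => by
    by_contra h
    exact hno x hx ((isSepVar_iff_D_ne_zero hK good_of_perfect).2 h).separable
  have key : ∀ z ∈ IntermediateField.adjoin k (W : Set K), KaehlerDifferential.D k K z = 0 := by
    intro z hz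
    induction hz using IntermediateField.adjoin_induction with
    | mem z hz => exact h0 z hz
    | algebraMap c => exact Derivation.map_algebraMap _ c
    | add a b _ _ ha hb => rw [map_add, ha, hb, add_zero]
    | inv a _ ha => rw [Derivation.leibniz_inv, ha, smul_zero]
    | mul a b _ _ ha hb => rw [Derivation.leibniz, ha, hb, smul_zero, smul_zero, add_zero]
  exact key t (hW ▸ IntermediateField.mem_top)

lemma val_sub_of_unramified {P : Place k K} {φ : K →ₐ[k] LaurentSeries k} (hφ : LocRes.IsExpansionAt P.1 φ)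
    {x : K} {a : k} (ha : P.1 (x - algebraMap k K a) < 1) (h0 : LocRes.ordDiff φ 1 x = 0)
    (hxs : IsSepVar k x) : P.1 (x - algebraMap k K a) = exp (-1 : ℤ) := by
  obtain ⟨t, ht⟩ := exists_uniformizer P
  have hts := isSepVar_uniformizer hK ht
  obtain ⟨H, hH⟩ := exists_hasse hts
  have hxa : x - algebraMap k K a ≠ 0 := fun h =>
    notMem_of_transcendental hxs.transcendental ⟨a, (sub_eq_zero.1 h).symm⟩
  have ht0 := ne_zero_of_val_eq_exp P ht
  by_contra hne
  have h2 : P.1 (x - algebraMap k K a) ≤ exp (-2 : ℤ) := by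
    rw [val_eq_exp_ord P hxa, exp_le_exp]
    have h1 := (val_lt_one_iff P hxa).1 ha
    by_contra hlt
    exact hne (by rw [val_eq_exp_ord P hxa]; congr 1; omega)
  set u := (x - algebraMap k K a) / t ^ 2 with hu
  have hu1 : P.1 u ≤ 1 := by
    rw [hu, map_div₀, map_pow, ht, ← exp_nsmul]; exact div_le_one_of_le₀ (by simpa using h2) zero_le
  have hδu : P.1 (LocRes.hasseD H 1 u) ≤ 1 := by
    have h := LR.v_D_le_one (f := φ u) (by rw [hφ.1]; exact hu1)
    rwa [D_exp φ hts hH, map_mul, v_D_uniformizer hφ ht, mul_one, hφ.1] at h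
  have hxu : x = u * t ^ 2 + algebraMap k K a := by
    rw [hu, div_mul_cancel₀ _ (pow_ne_zero _ ht0), sub_add_cancel]
  have hval : P.1 (LocRes.hasseD H 1 x) ≤ exp (-1 : ℤ) := by
    rw [hxu, ← dD_apply hH, map_add, Derivation.map_algebraMap, add_zero, Derivation.leibniz,
      Derivation.leibniz_pow, dD_apply, dD_apply, hasseD_one_self hH]
    refine Valuation.map_add_le _ ?_ ?_
    · have hnat : ∀ m : ℕ, P.1 (m : K) ≤ 1 := fun m => by rw [← map_natCast (algebraMap k K)]; exact P.2.1 _
      simp only [Nat.add_one_sub_one, pow_one, smul_eq_mul, nsmul_eq_mul, mul_one, map_mul, ht]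
      exact (mul_le_of_le_one_left zero_le hu1).trans (mul_le_of_le_one_left zero_le (hnat 2))
    · rw [smul_eq_mul, map_mul, map_pow, ht]
      refine (mul_le_mul' le_rfl hδu).trans ?_
      rw [mul_one, ← exp_nsmul, exp_le_exp]; norm_num
  rw [ordDiff_eq hφ ht hts hH, one_mul] at h0
  rw [hxu] at h0
  rcases eq_or_ne (LocRes.hasseD H 1 x) 0 with hz | hz
  · obtain ⟨Hx, hHx⟩ := exists_hasse hxs
    exact hasseD_one_ne_zero hK hHx hH hz
  · rw [← hxu] at h0
    rw [val_eq_exp_ord P hz, h0, exp_le_exp] at hval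
    omega

theorem exists_uniformizing_generator (x : K) (hsep : Algebra.IsSeparable k⟮x⟯ K) :
    ∃ y : K, IntermediateField.adjoin k ({x, y} : Set K) = ⊤ ∧
      ∀ P : Place k K, ∃ f ∈ Submodule.span k ({1, x, y} : Set K), P.1 f = exp (-1 : ℤ) := by
  classical
  have hxt : Transcendental k x := by
    intro hx
    obtain ⟨c, hc⟩ := hK.2 x hx
    obtain ⟨t, ht, -⟩ := hK.1
    haveI := hsep
    have h2 : IsAlgebraic k⟮x⟯ t := (Algebra.IsSeparable.isIntegral k⟮x⟯ t).isAlgebraic
    haveI : Algebra.IsAlgebraic k k⟮x⟯ := IntermediateField.isAlgebraic_adjoin_simple hx.isIntegral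
    exact ht (h2.restrictScalars k)
  have hs : IsSepVar k x := ⟨hxt, finite_adjoin hK.1 hxt, hsep⟩
  haveI := hs.finite
  haveI := hsep
  obtain ⟨H, hH⟩ := exists_hasse hs
  obtain ⟨Φ, hΦ⟩ : ∃ Φ : Place k K → (K →ₐ[k] LaurentSeries k), ∀ P : Place k K, LocRes.IsExpansionAt P.1 (Φ P) := by
    choose t ht using fun P : Place k K => exists_uniformizer P
    choose e he using fun P : Place k K => exists_isCoord hK P (ht P)
    exact ⟨e, fun P => (he P).isExp⟩
  set S : Finset (Place k K) := (finite_poles hK.1 x).toFinset ∪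
    (finite_support_ordDiff hK hH hΦ).toFinset with hS
  choose u hu using fun P : Place k K => exists_uniformizer P
  obtain ⟨y0, hy0⟩ := approx S u (fun _ => (-2 : ℤ))
  let W : Submodule k K :=
    { carrier := {z | ∀ P ∈ S, P.1 z ≤ exp (-2 : ℤ)}
      add_mem' := fun {a b} ha hb P hP => Valuation.map_add_le _ (ha P hP) (hb P hP)
      zero_mem' := fun P _ => by rw [map_zero]; exact zero_le
      smul_mem' := fun c a ha P hP => (val_smul_le P c a).trans (ha P hP) }
  have hW : IntermediateField.adjoin k (W : Set K) = ⊤ := by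
    refine eq_top_iff.2 fun z _ => ?_
    rcases eq_or_ne z 0 with rfl | hz
    · exact zero_mem _
    choose n hn using fun P : Place k K => exists_val P (min (-2 : ℤ) (-2 + P.ord z))
    obtain ⟨e, he⟩ := approx S n (fun P => min (-2 : ℤ) (-2 + P.ord z) - 1)
    by_cases hSe : S = ∅
    · exact IntermediateField.subset_adjoin k _ (fun P hP => by simp [hSe] at hP)
    have heP : ∀ P ∈ S, P.1 e = exp (min (-2 : ℤ) (-2 + P.ord z)) := fun P hP => by
      rw [show e = (e - n P) + n P by ring, Valuation.map_add_eq_of_lt_right _ ((he P hP).trans_lt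
        (by rw [hn, exp_lt_exp]; omega)), hn]
    obtain ⟨P0, hP0⟩ := Finset.nonempty_of_ne_empty hSe
    have he0 : e ≠ 0 := ne_zero_of_val_eq_exp P0 (heP P0 hP0)
    have h1 : e ∈ W := fun P hP => by rw [heP P hP, exp_le_exp]; exact min_le_left _ _
    have h2 : z * e ∈ W := fun P hP => by
      rw [map_mul, heP P hP, val_eq_exp_ord P hz, ← exp_add, exp_le_exp]
      have := min_le_right (-2 : ℤ) (-2 + P.ord z)
      omega
    rw [show z = (z * e) * e⁻¹ by rw [mul_inv_cancel_right₀ he0]]
    exact mul_mem (IntermediateField.subset_adjoin k _ h2) (inv_mem (IntermediateField.subset_adjoin k _ h1))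
  obtain ⟨w, hw, hgen⟩ := exists_primitive_in_affine x W y0 hW
  refine ⟨y0 + w, hgen, fun P => ?_⟩
  by_cases hP : P ∈ S
  · refine ⟨y0 + w, Submodule.subset_span (by simp), ?_⟩
    rw [show y0 + w = (y0 - u P) + w + u P by ring, Valuation.map_add_eq_of_lt_right _ ?_, hu]
    refine lt_of_le_of_lt (Valuation.map_add_le _ (hy0 P hP) (hw P hP)) ?_
    rw [hu, exp_lt_exp]; norm_num
  · simp only [hS, Finset.mem_union, not_or, Set.Finite.mem_toFinset, Set.mem_setOf_eq, not_lt] at hP
    obtain ⟨hpole, hex⟩ := hP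
    obtain ⟨a, ha⟩ := exists_residue hK P hpole
    refine ⟨x - algebraMap k K a, sub_mem (Submodule.subset_span (by simp)) ?_, ?_⟩
    · rw [Algebra.algebraMap_eq_smul_one]; exact Submodule.smul_mem _ _ (Submodule.subset_span (by simp))
    · exact val_sub_of_unramified hK (hΦ P) ha (by simpa using hex) hs

end Groth.Agent.FFWr
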