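import Groth.Agent.FFWr.Local

/-! Columns of Hasse derivatives: changes of tuple and of variable, the order sequence. -/

set_option autoImplicit false
set_option linter.style.haveILetI false
set_option linter.unusedSectionVars false

open FunFld WithZero LaurentSeries
open Groth.Agent.FF

namespace Groth.Agent.FFWr

variable {k K : Type*} [Field k] [Field K] [Algebra k K]

lemma wrMat_eq {n : ℕ} (τ : K →ₐ[k] K) (H : K →ₐ[k] PowerSeries K) (φ : Fin (n + 1) → K) (I : Fin n → ℕ) :
    wrMat τ H φ I = selMat (hcol τ H φ) I := by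
  ext i c
  cases c using Fin.cases with
  | zero => rfl
  | succ l => simp only [wrMat, selMat_apply, sel_succ, Matrix.of_apply, Fin.cases_succ]; rfl

lemma hcol_zero {ι : Type*} (τ : K →ₐ[k] K) (H : K →ₐ[k] PowerSeries K) (φ : ι → K) (i : ι) :
    hcol τ H φ 0 i = τ (φ i) := rfl

lemma hcol_succ {ι : Type*} (τ : K →ₐ[k] K) (H : K →ₐ[k] PowerSeries K) (φ : ι → K) (j : ℕ) (i : ι) :
    hcol τ H φ (j + 1) i = LocRes.hasseD H j (φ i) := rfl

lemma hcol_one {ι : Type*} {x : K} {H : K →ₐ[k] PowerSeries K} (hH : LocRes.IsHasseFamily x H)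
    (τ : K →ₐ[k] K) (φ : ι → K) : hcol τ H φ 1 = φ := funext fun i => hasseD_zero hH (φ i)

lemma hcol_zero_ne {n : ℕ} (τ : K →ₐ[k] K) (H : K →ₐ[k] PowerSeries K) {φ : Fin (n + 1) → K}
    (h : ∃ i, φ i ≠ 0) : hcol τ H φ 0 ≠ 0 := fun h0 => by
  obtain ⟨i, hi⟩ := h
  exact hi ((map_eq_zero_iff τ τ.toRingHom.injective).1 (congrFun h0 i))

lemma hasseD_sum {ι : Type*} (H : K →ₐ[k] PowerSeries K) (j : ℕ) (s : Finset ι) (f : ι → K) :
    LocRes.hasseD H j (∑ i ∈ s, f i) = ∑ i ∈ s, LocRes.hasseD H j (f i) := by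
  simp only [LocRes.hasseD_apply, map_sum]

/-! ### change of the tuple by a constant matrix -/

lemma hcol_linear {n : ℕ} (τ : K →ₐ[k] K) (H : K →ₐ[k] PowerSeries K) (φ φ' : Fin (n + 1) → K)
    (A : Matrix (Fin (n + 1)) (Fin (n + 1)) k) (hφ' : ∀ i, φ' i = ∑ j, A i j • φ j) (m : ℕ) :
    hcol τ H φ' m = Matrix.toLin' (A.map (algebraMap k K)) (hcol τ H φ m) := by
  funext i
  rw [Matrix.toLin'_apply]
  show _ = ∑ j, algebraMap k K (A i j) * hcol τ H φ m j
  cases m with
  | zero =>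
    simp only [hcol_zero, hφ', map_sum, Algebra.smul_def, map_mul, AlgHom.commutes]
  | succ m =>
    simp only [hcol_succ, hφ', hasseD_sum, hasseD_smul]
    exact Finset.sum_congr rfl fun _ _ => Algebra.smul_def _ _

lemma toLin'_injective {n : ℕ} {A : Matrix (Fin (n + 1)) (Fin (n + 1)) k} (hA : A.det ≠ 0) :
    Function.Injective (Matrix.toLin' (A.map (algebraMap k K))) := by
  refine Matrix.mulVec_injective_iff_isUnit.2 ?_
  rw [Matrix.isUnit_iff_isUnit_det, isUnit_iff_ne_zero, ← RingHom.mapMatrix_apply, ← RingHom.map_det]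
  exact (map_ne_zero_iff _ (algebraMap k K).injective).2 hA

lemma isOrders_linear {n : ℕ} (τ : K →ₐ[k] K) (H : K →ₐ[k] PowerSeries K) (φ φ' : Fin (n + 1) → K)
    {A : Matrix (Fin (n + 1)) (Fin (n + 1)) k} (hA : A.det ≠ 0) (hφ' : ∀ i, φ' i = ∑ j, A i j • φ j)
    (J : Fin n → ℕ) : IsOrders K (hcol τ H φ') J ↔ IsOrders K (hcol τ H φ) J := by
  refine and_congr_right fun _ => forall_congr' fun j => ?_
  rw [show hcol τ H φ' = fun m => Matrix.toLin' (A.map (algebraMap k K)) (hcol τ H φ m) from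
    funext (hcol_linear τ H φ φ' A hφ'), isJump_map _ (toLin'_injective hA)]

lemma det_wrMat_linear {n : ℕ} (τ : K →ₐ[k] K) (H : K →ₐ[k] PowerSeries K) (φ φ' : Fin (n + 1) → K)
    (A : Matrix (Fin (n + 1)) (Fin (n + 1)) k) (hφ' : ∀ i, φ' i = ∑ j, A i j • φ j) (I : Fin n → ℕ) :
    (wrMat τ H φ' I).det = algebraMap k K A.det * (wrMat τ H φ I).det := by
  rw [wrMat_eq, wrMat_eq, RingHom.map_det, RingHom.mapMatrix_apply, ← Matrix.det_mul]
  congr 1
  ext i c
  rw [Matrix.mul_apply, selMat_apply, hcol_linear τ H φ φ' A hφ', Matrix.toLin'_apply]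
  rfl

/-! ### multiplying the tuple by a function -/

lemma tri_smul {n : ℕ} {x : K} {H : K →ₐ[k] PowerSeries K} (hH : LocRes.IsHasseFamily x H)
    (τ : K →ₐ[k] K) (φ : Fin (n + 1) → K) {y : K} (hy : y ≠ 0) :
    Tri (fun j => if j = 0 then τ y else y) (hcol τ H φ) (hcol τ H (y • φ)) := by
  refine ⟨fun j => ?_, fun j => ?_⟩
  · split_ifs
    · exact (map_ne_zero_iff τ τ.toRingHom.injective).2 hy
    · exact hy
  · cases j with
    | zero =>
      convert Submodule.zero_mem _
      funext i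
      simp [hcol_zero]
    | succ j =>
      have : hcol τ H (y • φ) (j + 1) - y • hcol τ H φ (j + 1) =
          ∑ q ∈ Finset.range j, LocRes.hasseD H (j - q) y • hcol τ H φ (q + 1) := by
        funext i
        simp only [Pi.sub_apply, Pi.smul_apply, hcol_succ, smul_eq_mul, Finset.sum_apply]
        rw [hasseD_mul, Finset.Nat.sum_antidiagonal_eq_sum_range_succ
          (fun a b => LocRes.hasseD H a y * LocRes.hasseD H b (φ i)), ← Finset.sum_range_reflect,
          Finset.sum_range_succ]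
        simp only [Nat.succ_eq_add_one, add_tsub_cancel_right, Nat.sub_self, hasseD_zero hH, tsub_zero]
        rw [add_sub_cancel_right]
        refine Finset.sum_congr rfl fun q hq => ?_
        rw [Nat.sub_sub_self (Finset.mem_range.1 hq).le]
      simp only [Nat.succ_ne_zero, if_false]
      rw [this]
      exact Submodule.sum_mem _ fun q hq => Submodule.smul_mem _ _
        (mem_W (Nat.succ_lt_succ (Finset.mem_range.1 hq)))

lemma prod_sel_ite {n : ℕ} (J : Fin n → ℕ) (a b : K) :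
    ∏ c, (fun j : ℕ => if j = 0 then a else b) (sel J c) = a * b ^ n := by
  rw [prod_sel J (fun j => if j = 0 then a else b)]
  simp

/-! ### change of the variable -/

lemma exists_comp_coeff {s t : K} {Hs Ht : K →ₐ[k] PowerSeries K} (hs : LocRes.IsHasseFamily s Hs)
    (ht : LocRes.IsHasseFamily t Ht) (hsep : Algebra.IsSeparable (IntermediateField.adjoin k ({s} : Set K)) K)
    (y : K) (j : ℕ) :
    LocRes.hasseD Ht j y = ∑ i ∈ Finset.range (j + 1),
      LocRes.hasseD Hs i y * PowerSeries.coeff j ((Ht s - PowerSeries.C s) ^ i) := by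
  have hu0 : PowerSeries.constantCoeff (Ht s - PowerSeries.C s) = 0 := by
    rw [map_sub, ht.2, PowerSeries.constantCoeff_C, sub_self]
  have hu : PowerSeries.HasSubst (Ht s - PowerSeries.C s) := PowerSeries.HasSubst.of_constantCoeff_zero' hu0
  let σ : PowerSeries K →ₐ[K] PowerSeries K := PowerSeries.substAlgHom hu
  have hσ : ∀ (f : PowerSeries K) (m : ℕ), PowerSeries.coeff m (σ f) =
      ∑ i ∈ Finset.range (m + 1), PowerSeries.coeff i f * PowerSeries.coeff m ((Ht s - PowerSeries.C s) ^ i) := by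
    intro f m
    have h1 : σ f = PowerSeries.subst (Ht s - PowerSeries.C s) f :=
      congrFun (PowerSeries.coe_substAlgHom hu) f
    rw [h1, PowerSeries.coeff_subst' hu, finsum_eq_sum_of_support_subset _ (s := Finset.range (m + 1))]
    · simp [smul_eq_mul]
    · intro i hi
      simp only [Finset.coe_range, Set.mem_Iio]
      by_contra! hlt
      refine hi ?_
      dsimp only
      rw [PowerSeries.X_pow_dvd_iff.1 (pow_dvd_pow_of_dvd (PowerSeries.X_dvd_iff.2 hu0) i) m (by omega), smul_zero]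
  have e : (σ.restrictScalars k).comp Hs = Ht := by
    refine lift_unique hsep _ _ (fun z => ?_) ?_
    · rw [← PowerSeries.coeff_zero_eq_constantCoeff_apply, ← PowerSeries.coeff_zero_eq_constantCoeff_apply]
      show PowerSeries.coeff 0 (σ (Hs z)) = _
      rw [hσ]
      simp [hs.2, ht.2]
    · show σ (Hs s) = Ht s
      rw [hs.1, map_add, show (PowerSeries.C s : PowerSeries K) = algebraMap K (PowerSeries K) s from rfl,
        AlgHom.commutes]
      have h1 : σ PowerSeries.X = Ht s - PowerSeries.C s :=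
        (congrFun (PowerSeries.coe_substAlgHom hu) _).trans (PowerSeries.subst_X hu)
      rw [h1, show (algebraMap K (PowerSeries K) s) = PowerSeries.C s from rfl]
      ring
  conv_lhs => rw [LocRes.hasseD_apply, ← e]
  exact hσ _ _

lemma coeff_pow_self {u : PowerSeries K} (hu : PowerSeries.constantCoeff u = 0) (i : ℕ) :
    PowerSeries.coeff i (u ^ i) = PowerSeries.coeff 1 u ^ i := by
  obtain ⟨v, rfl⟩ := PowerSeries.X_dvd_iff.2 hu
  rw [mul_pow, PowerSeries.coeff_X_pow_mul', if_pos le_rfl, Nat.sub_self, PowerSeries.coeff_succ_X_mul,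
    PowerSeries.coeff_zero_eq_constantCoeff_apply, PowerSeries.coeff_zero_eq_constantCoeff_apply, map_pow]

lemma tri_var {n : ℕ} {s t : K} {Hs Ht : K →ₐ[k] PowerSeries K} (hs : LocRes.IsHasseFamily s Hs)
    (ht : LocRes.IsHasseFamily t Ht) (hsep : Algebra.IsSeparable (IntermediateField.adjoin k ({s} : Set K)) K)
    (hne : LocRes.hasseD Ht 1 s ≠ 0) (τ : K →ₐ[k] K) (φ : Fin (n + 1) → K) :
    Tri (fun j => LocRes.hasseD Ht 1 s ^ (j - 1)) (hcol τ Hs φ) (hcol τ Ht φ) := by
  refine ⟨fun j => pow_ne_zero _ hne, fun j => ?_⟩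
  cases j with
  | zero =>
    convert Submodule.zero_mem _
    funext i
    simp [hcol_zero]
  | succ j =>
    have : hcol τ Ht φ (j + 1) - LocRes.hasseD Ht 1 s ^ j • hcol τ Hs φ (j + 1) =
        ∑ q ∈ Finset.range j, PowerSeries.coeff j ((Ht s - PowerSeries.C s) ^ q) • hcol τ Hs φ (q + 1) := by
      funext i
      simp only [Pi.sub_apply, Pi.smul_apply, hcol_succ, smul_eq_mul, Finset.sum_apply]
      rw [exists_comp_coeff hs ht hsep, Finset.sum_range_succ, coeff_pow_self (by
        rw [map_sub, ht.2, PowerSeries.constantCoeff_C, sub_self]), map_sub, PowerSeries.coeff_C,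
        if_neg one_ne_zero, sub_zero, ← LocRes.hasseD_apply, mul_comm (LocRes.hasseD Hs j (φ i)),
        add_sub_cancel_right]
      exact Finset.sum_congr rfl fun q _ => mul_comm _ _
    simp only [add_tsub_cancel_right]
    rw [this]
    exact Submodule.sum_mem _ fun q hq => Submodule.smul_mem _ _
      (mem_W (Nat.succ_lt_succ (Finset.mem_range.1 hq)))

lemma prod_sel_pow {n : ℕ} (J : Fin n → ℕ) (a : K) :
    ∏ c, (fun j : ℕ => a ^ (j - 1)) (sel J c) = a ^ (∑ l, J l) := by
  rw [prod_sel J (fun j => a ^ (j - 1))]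
  simp [Finset.prod_pow_eq_pow_sum]

lemma Tri.span_range_eq {M : Type*} [AddCommGroup M] [Module K M] {a : ℕ → K} {c c' : ℕ → M}
    (h : Tri a c c') : Submodule.span K (Set.range c') = Submodule.span K (Set.range c) := by
  apply le_antisymm <;> rw [Submodule.span_le] <;> rintro _ ⟨i, rfl⟩
  · have := mem_W (K := K) (c := c') (Nat.lt_succ_self i)
    rw [h.W_eq] at this
    exact Submodule.span_mono (Set.image_subset_range _ _) this
  · have := mem_W (K := K) (c := c) (Nat.lt_succ_self i)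
    rw [← h.W_eq] at this
    exact Submodule.span_mono (Set.image_subset_range _ _) this

/-! ### the rank -/

section AlgClosed

variable [IsAlgClosed k] (hK : IsFunctionField k K)
include hK

lemma hasseD_one_ne_zero {s t : K} {Hs Ht : K →ₐ[k] PowerSeries K} (hs : LocRes.IsHasseFamily s Hs)
    (ht : LocRes.IsHasseFamily t Ht) : LocRes.hasseD Ht 1 s ≠ 0 := by
  intro h0
  have := D_eq_smul (isSepVar_of_hasse hK hs) hs t
  have h2 := congrArg (dD ht).liftKaehlerDifferential this
  rw [map_smul, Derivation.liftKaehlerDifferential_comp_D, Derivation.liftKaehlerDifferential_comp_D,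
    dD_apply, dD_apply, hasseD_one_self ht, h0, smul_zero] at h2
  exact one_ne_zero h2

lemma exists_normalizing (P : Place k K) {ι : Type*} [Fintype ι] [Nonempty ι] {φ : ι → K} (hφ : ∃ i, φ i ≠ 0) :
    ∃ i, φ i ≠ 0 ∧ ∀ j, P.1 (φ j) ≤ P.1 (φ i) := by
  obtain ⟨i, -, hi⟩ := Finset.exists_max_image Finset.univ (fun j => P.1 (φ j)) Finset.univ_nonempty
  refine ⟨i, fun h0 => ?_, fun j => hi j (Finset.mem_univ _)⟩
  obtain ⟨j, hj⟩ := hφ
  have := hi j (Finset.mem_univ _)
  rw [h0, map_zero, le_zero_iff] at this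
  exact hj (P.1.zero_iff.1 this)

lemma rows_indep {n : ℕ} {t : K} {Ht : K →ₐ[k] PowerSeries K} (ht : LocRes.IsHasseFamily t Ht)
    {P : Place k K} (hP : P.1 t = exp (-1 : ℤ)) {φ : Fin (n + 1) → K} (hφ : LinearIndependent k φ)
    (hnorm : ∀ i, P.1 (φ i) ≤ 1) (a : Fin (n + 1) → K)
    (ha : ∀ j, ∑ r, a r * LocRes.hasseD Ht j (φ r) = 0) : a = 0 := by
  by_contra hne
  obtain ⟨e, he⟩ := exists_isCoord hK P hP
  obtain ⟨i, hi, hmax⟩ := exists_normalizing hK P (φ := a) (Function.ne_iff.1 hne)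
  let b : Fin (n + 1) → K := fun r => a r / a i
  have hb : ∀ r, P.1 (b r) ≤ 1 := fun r => by
    simp only [b, map_div₀]
    exact (div_le_one₀ (zero_lt_iff.2 ((P.1.ne_zero_iff).2 hi))).2 (hmax r)
  have hco : ∀ j : ℕ, ∑ r, (e (b r)).coeff 0 * (e (φ r)).coeff (j : ℤ) = 0 := by
    intro j
    have h1 : ∑ r, b r * LocRes.hasseD Ht j (φ r) = 0 := by
      simp only [b, div_mul_eq_mul_div, ← Finset.sum_div, ha j, zero_div]
    have h2 := congrArg (fun z => (e z).coeff 0) h1
    simp only [map_sum, HahnSeries.coeff_sum, map_zero, HahnSeries.coeff_zero] at h2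
    rw [← h2]
    refine Finset.sum_congr rfl fun r _ => ?_
    rw [he.coeff_zero_mul (hb r) (he.val_hasseD_le_one hK ht (hnorm r) j), he.coeff_zero_hasseD hK ht (hnorm r) j]
  have hsum : ∑ r, (e (b r)).coeff 0 • φ r = 0 := by
    apply e.toRingHom.injective
    show e _ = e 0
    rw [map_zero]
    ext m
    rw [he.coeff_sum, HahnSeries.coeff_zero]
    rcases lt_or_ge m 0 with hm | hm
    · exact Finset.sum_eq_zero fun r _ => by rw [(he.val_le_one_iff _).1 (hnorm r) m hm, mul_zero]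
    · lift m to ℕ using hm
      exact hco m
  have h3 := Fintype.linearIndependent_iff.1 hφ _ hsum i
  rw [show b i = 1 from div_self hi, map_one, HahnSeries.coeff_one, if_pos rfl] at h3
  exact one_ne_zero h3

lemma span_hcol_eq_top {n : ℕ} {s : K} {H : K →ₐ[k] PowerSeries K} (hH : LocRes.IsHasseFamily s H)
    (τ : K →ₐ[k] K) {φ : Fin (n + 1) → K} (hφ : LinearIndependent k φ) :
    Submodule.span K (Set.range (hcol τ H φ)) = ⊤ := by
  obtain ⟨P⟩ := nonempty_place hK.1
  obtain ⟨t, ht⟩ := exists_uniformizer P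
  obtain ⟨Ht, hHt⟩ := exists_hasse (isSepVar_uniformizer hK ht)
  obtain ⟨i, hi, hmax⟩ := exists_normalizing hK P (φ := φ) ⟨0, hφ.ne_zero 0⟩
  let y : K := (φ i)⁻¹
  have hy : y ≠ 0 := inv_ne_zero hi
  have h1 := (tri_smul hH τ φ hy).span_range_eq
  have h2 := (tri_var hH hHt (isSepVar_of_hasse hK hH).separable (hasseD_one_ne_zero hK hH hHt) τ
    (y • φ)).span_range_eq
  rw [← h1, ← h2]
  have hli : LinearIndependent k (y • φ) :=
    (hφ.map' (LinearMap.mulLeft k y) (LinearMap.ker_eq_bot.2 (mul_right_injective₀ hy)) : _)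
  have hnorm : ∀ r, P.1 ((y • φ) r) ≤ 1 := fun r => by
    simp only [Pi.smul_apply, smul_eq_mul, map_mul, y, map_inv₀]
    rw [inv_mul_le_one₀ (zero_lt_iff.2 ((P.1.ne_zero_iff).2 hi))]
    exact hmax r
  by_contra hne
  obtain ⟨z, hz⟩ : ∃ z, z ∉ Submodule.span K (Set.range (hcol τ Ht (y • φ))) := by
    by_contra! hc
    exact hne (eq_top_iff.2 fun z _ => hc z)
  obtain ⟨f, hf1, hf2⟩ := Submodule.exists_dual_map_eq_bot_of_notMem hz inferInstance
  have hfx : ∀ w : Fin (n + 1) → K, f w = ∑ r, f (Pi.single r 1) * w r := fun w => by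
    conv_lhs => rw [← Finset.univ_sum_single w]
    rw [map_sum]
    refine Finset.sum_congr rfl fun r _ => ?_
    rw [show Pi.single r (w r) = w r • (Pi.single r (1 : K) : Fin (n + 1) → K) by
      rw [← Pi.single_smul]; simp, map_smul, smul_eq_mul, mul_comm]
  have h0 := rows_indep hK hHt ht hli hnorm (fun r => f (Pi.single r 1)) fun j => by
    have : f (hcol τ Ht (y • φ) (j + 1)) ∈
        (Submodule.span K (Set.range (hcol τ Ht (y • φ)))).map f :=
      Submodule.mem_map_of_mem (Submodule.subset_span ⟨_, rfl⟩)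
    rw [hf2, Submodule.mem_bot, hfx] at this
    exact this
  refine hf1 ?_
  rw [hfx]
  exact Finset.sum_eq_zero fun r _ => by rw [show f (Pi.single r 1) = 0 from congrFun h0 r, zero_mul]

lemma exists_orders {n : ℕ} {s : K} {H : K →ₐ[k] PowerSeries K} (hH : LocRes.IsHasseFamily s H)
    (τ : K →ₐ[k] K) {φ : Fin (n + 1) → K} (hφ : LinearIndependent k φ) :
    ∃ J : Fin n → ℕ, IsOrders K (hcol τ H φ) J :=
  exists_isOrders (Module.finrank_fin_fun K) (span_hcol_eq_top hK hH τ hφ)
    (hcol_zero_ne τ H ⟨0, hφ.ne_zero 0⟩)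

omit [IsAlgClosed k] hK in
lemma det_ne_zero_of_isOrders {n : ℕ} (τ : K →ₐ[k] K) (H : K →ₐ[k] PowerSeries K)
    {φ : Fin (n + 1) → K} (hφ : LinearIndependent k φ) {J : Fin n → ℕ}
    (hJ : IsOrders K (hcol τ H φ) J) : (wrMat τ H φ J).det ≠ 0 := by
  rw [wrMat_eq, det_selMat_ne_zero_iff]
  exact linearIndependent_sel (hcol_zero_ne τ H ⟨0, hφ.ne_zero 0⟩) hJ

omit [IsAlgClosed k] hK in
lemma orders_le_of_det {n : ℕ} (τ : K →ₐ[k] K) (H : K →ₐ[k] PowerSeries K)
    {φ : Fin (n + 1) → K} (hφ : LinearIndependent k φ) {J J' : Fin n → ℕ}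
    (hJ : IsOrders K (hcol τ H φ) J) (hJ' : StrictMono J') (hdet : (wrMat τ H φ J').det ≠ 0) :
    ∀ l, J l ≤ J' l := by
  rw [wrMat_eq, det_selMat_ne_zero_iff] at hdet
  exact isOrders_le (hcol_zero_ne τ H ⟨0, hφ.ne_zero 0⟩) hJ hJ' hdet

omit [IsAlgClosed k] in
/-- an endomorphism fixing the ratios of a birational tuple up to a common factor is the identity -/
lemma algHom_eq_id_of_proportional {n : ℕ} {φ : Fin (n + 1) → K} (h0 : φ 0 ≠ 0)
    (hbir : IntermediateField.adjoin k (Set.range fun i => φ i / φ 0) = ⊤) (τ : K →ₐ[k] K) {y : K}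
    (h : ∀ i, τ (φ i) = y * φ i) : τ = AlgHom.id k K := by
  have hy : y ≠ 0 := fun hy => (map_ne_zero_iff τ τ.toRingHom.injective).2 h0 (by rw [h 0, hy, zero_mul])
  let F : IntermediateField k K :=
    (AlgHom.equalizer τ (AlgHom.id k K)).toIntermediateField fun x hx => by
      simp only [AlgHom.mem_equalizer, AlgHom.coe_id, id_eq, map_inv₀] at hx ⊢
      rw [hx]
  have hF : IntermediateField.adjoin k (Set.range fun i => φ i / φ 0) ≤ F := by
    rw [IntermediateField.adjoin_le_iff]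
    rintro _ ⟨i, rfl⟩
    show τ (φ i / φ 0) = φ i / φ 0
    rw [map_div₀, h i, h 0, mul_div_mul_left _ _ hy]
  rw [hbir, top_le_iff] at hF
  refine AlgHom.ext fun x => ?_
  have : x ∈ F := hF ▸ IntermediateField.mem_top
  exact this

omit [IsAlgClosed k] in
lemma not_isJump_one_iff {n : ℕ} {φ : Fin (n + 1) → K} (h0 : φ 0 ≠ 0)
    (hbir : IntermediateField.adjoin k (Set.range fun i => φ i / φ 0) = ⊤)
    (τ : K →ₐ[k] K) {s : K} {H : K →ₐ[k] PowerSeries K} (hH : LocRes.IsHasseFamily s H) :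
    ¬ IsJump K (hcol τ H φ) 1 ↔ τ = AlgHom.id k K := by
  rw [isJump_iff, not_not, W_succ, W_zero, bot_sup_eq, Submodule.mem_span_singleton, hcol_one hH]
  constructor
  · rintro ⟨a, ha⟩
    have h1 : ∀ i, a * τ (φ i) = φ i := fun i => by
      have := congrFun ha i; simpa [hcol_zero] using this
    have ha0 : a ≠ 0 := fun e => h0 (by rw [← h1 0, e, zero_mul])
    exact algHom_eq_id_of_proportional hK h0 hbir τ (y := a⁻¹) fun i => by
      conv_rhs => rw [← h1 i, inv_mul_cancel_left₀ ha0]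
  · rintro rfl
    exact ⟨1, by funext i; simp [hcol_zero]⟩

end AlgClosed

/-- how the jumps change when the leading column changes -/
lemma isJump_change_lead {M : Type*} [AddCommGroup M] [Module K M] {c c' : ℕ → M} (hc : c 0 = c 1)
    (hcs : ∀ j, c' (j + 1) = c (j + 1)) (hlead : c' 0 ∈ Submodule.span K (Set.range c))
    (hnot : c' 0 ∉ Submodule.span K ({c 1} : Set M)) :
    ∃ j₀, 1 ≤ j₀ ∧ IsJump K c (j₀ + 1) ∧
      ∀ j, IsJump K c' (j + 1) ↔ (j = 0 ∧ c 1 ≠ 0) ∨ (j ≠ j₀ ∧ 1 ≤ j ∧ IsJump K c (j + 1)) := by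
  classical
  let V : ℕ → Submodule K M := fun m => W K c (m + 1)
  have hV0 : V 0 = Submodule.span K {c 1} := by
    simp only [V, W_succ, W_zero, bot_sup_eq, hc]
  have hV1 : V 1 = Submodule.span K {c 1} := by
    simp only [V, W_succ, W_zero, bot_sup_eq, hc, sup_idem]
  have hex : ∃ m, c' 0 ∈ V m := by
    rw [← Set.image_univ, ← Set.iUnion_of_singleton ℕ] at hlead
    have hle : Submodule.span K (c '' ⋃ i : ℕ, {i}) ≤ ⨆ m, V m := by
      rw [Submodule.span_le]
      rintro _ ⟨i, -, rfl⟩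
      exact Submodule.mem_iSup_of_mem i (mem_W (Nat.lt_succ_self i))
    exact (Submodule.mem_iSup_of_directed _ (Monotone.directed_le fun a b h => W_mono (by omega))).1 (hle hlead)
  obtain ⟨m, hm⟩ := hex
  let p := Nat.find (⟨m, hm⟩ : ∃ m, c' 0 ∈ V m)
  have hp : c' 0 ∈ V p := Nat.find_spec (⟨m, hm⟩ : ∃ m, c' 0 ∈ V m)
  have hpm : ∀ q, q < p → c' 0 ∉ V q := fun q hq => Nat.find_min _ hq
  have hp2 : 2 ≤ p := by
    by_contra! h
    interval_cases p
    · exact hnot (hV0 ▸ hp)
    · exact hnot (hV1 ▸ hp)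
  obtain ⟨j₀, hj₀⟩ : ∃ j₀, p = j₀ + 1 := ⟨p - 1, by omega⟩
  rw [hj₀] at hp hpm
  -- spans below
  have hlow : ∀ j, W K c' (j + 1) ≤ V j ⊔ Submodule.span K {c' 0} ∧
      (∀ i, 1 ≤ i → i < j + 1 → c i ∈ W K c' (j + 1)) ∧ c' 0 ∈ W K c' (j + 1) := by
    intro j
    refine ⟨Submodule.span_le.2 ?_, fun i hi hij => ?_, mem_W (Nat.succ_pos _)⟩
    · rintro _ ⟨i, hi, rfl⟩
      rcases i with _ | i
      · exact Submodule.mem_sup_right (Submodule.mem_span_singleton_self _)
      · rw [hcs]; exact Submodule.mem_sup_left (mem_W hi)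
    · obtain ⟨i, rfl⟩ : ∃ i', i = i' + 1 := ⟨i - 1, by omega⟩
      rw [← hcs]; exact mem_W hij
  have hVle : ∀ j, 1 ≤ j → W K c' (j + 1) = V j ⊔ Submodule.span K {c' 0} := by
    intro j hj
    refine le_antisymm (hlow j).1 (sup_le (Submodule.span_le.2 ?_) ?_)
    · rintro _ ⟨i, hi, rfl⟩
      rcases i with _ | i
      · rw [hc]; exact (hlow j).2.1 1 le_rfl (by omega)
      · exact (hlow j).2.1 _ (by omega) hi
    · rw [Submodule.span_singleton_le_iff_mem]; exact (hlow j).2.2
  have hsucc : ∀ j, V (j + 1) = V j ⊔ Submodule.span K {c (j + 1)} := fun j => W_succ (j + 1)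
  have hjump : IsJump K c (j₀ + 1) := fun h => by
    refine hpm j₀ (Nat.lt_succ_self _) ?_
    rw [hsucc] at hp
    have hle : Submodule.span K {c (j₀ + 1)} ≤ V j₀ := (Submodule.span_singleton_le_iff_mem _ _).2 h
    rwa [sup_eq_left.2 hle] at hp
  refine ⟨j₀, by omega, hjump, fun j => ?_⟩
  rcases Nat.eq_zero_or_pos j with rfl | hj
  · simp only [zero_add, true_and, Nat.one_le_iff_ne_zero, ne_eq, not_true_eq_false,
      false_and, and_false, or_false]
    rw [isJump_iff, hcs]
    constructor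
    · intro h h0; exact h (by rw [h0]; exact zero_mem _)
    · intro h hmem
      rw [W_succ, W_zero, bot_sup_eq, Submodule.mem_span_singleton] at hmem
      obtain ⟨a, ha⟩ := hmem
      have ha0 : a ≠ 0 := fun e => h (by rw [← ha, e, zero_smul])
      refine hnot (Submodule.mem_span_singleton.2 ⟨a⁻¹, ?_⟩)
      rw [← ha, smul_smul, inv_mul_cancel₀ ha0, one_smul]
  · rw [isJump_iff, hVle j hj, hcs]
    constructor
    · intro h
      refine Or.inr ⟨fun e => h ?_, hj, fun h2 => h (Submodule.mem_sup_left h2)⟩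
      subst e
      rw [hsucc, Submodule.mem_sup] at hp
      obtain ⟨w, hw, z, hz, hwz⟩ := hp
      obtain ⟨a, rfl⟩ := Submodule.mem_span_singleton.1 hz
      have ha : a ≠ 0 := fun e => hpm j (Nat.lt_succ_self _) (by rw [← hwz, e, zero_smul, add_zero]; exact hw)
      rw [show c (j + 1) = a⁻¹ • ((c' 0) - w) by
        rw [← hwz, add_sub_cancel_left, smul_smul, inv_mul_cancel₀ ha, one_smul]]
      exact Submodule.smul_mem _ _ (sub_mem (Submodule.mem_sup_right (Submodule.mem_span_singleton_self _))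
        (Submodule.mem_sup_left hw))
    · rintro (⟨h, -⟩ | ⟨hne, -, hJ⟩) hmem
      · omega
      · rcases lt_or_gt_of_ne hne with hlt | hgt
        · obtain ⟨w, hw, z, hz, hwz⟩ := Submodule.mem_sup.1 hmem
          obtain ⟨a, rfl⟩ := Submodule.mem_span_singleton.1 hz
          rcases eq_or_ne a 0 with rfl | ha
          · rw [zero_smul, add_zero] at hwz; exact hJ (hwz ▸ hw)
          · refine hpm (j + 1) (by omega) ?_
            have : c' 0 = a⁻¹ • (c (j + 1) - w) := by
              rw [← hwz, add_sub_cancel_left, smul_smul, inv_mul_cancel₀ ha, one_smul]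
            rw [this, hsucc]
            exact Submodule.smul_mem _ _ (sub_mem (Submodule.mem_sup_right (Submodule.mem_span_singleton_self _))
              (Submodule.mem_sup_left hw))
        · refine hJ ?_
          have hmem' : c' 0 ∈ V j := W_mono (show j₀ + 1 + 1 ≤ j + 1 by omega) hp
          rwa [sup_eq_left.2 ((Submodule.span_singleton_le_iff_mem _ _).2 hmem')] at hmem

end Groth.Agent.FFWr
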