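import Groth.Agent.FF.Field
import Groth.Agent.FF.RR
import Mathlib.FieldTheory.RatFunc.AsPolynomial
import Mathlib.FieldTheory.RatFunc.IntermediateField

/-! `y² = f(x)`, `f` squarefree of positive degree: a function field. -/

set_option autoImplicit false
set_option linter.style.haveILetI false

open FunFld Polynomial IntermediateField

namespace Groth.Agent.FFWr

variable {k K : Type*} [Field k] [Field K] [Algebra k K]

lemma ratFunc_algebraic_mem {u : RatFunc k} (h : IsAlgebraic k u) : ∃ c : k, u = algebraMap k (RatFunc k) c := by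
  by_contra hc
  exact RatFunc.transcendental_of_ne_C u (fun ⟨c, hu⟩ => hc ⟨c, by rw [hu, RatFunc.algebraMap_eq_C]⟩) h

lemma sq_mul_ne_const {f : k[X]} (hf : Squarefree f) (hd : 1 ≤ f.natDegree) (q : RatFunc k) (hq : q ≠ 0) (c : k) :
    q ^ 2 * algebraMap k[X] (RatFunc k) f ≠ algebraMap k (RatFunc k) c := by
  intro h
  have hinj := IsFractionRing.injective k[X] (RatFunc k)
  set a := q.num
  set b := q.denom
  have hb : b ≠ 0 := q.denom_ne_zero
  have ha : a ≠ 0 := RatFunc.num_ne_zero hq
  have hab : IsCoprime a b := q.isCoprime_num_denom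
  have hq' : q = algebraMap k[X] (RatFunc k) a / algebraMap k[X] (RatFunc k) b := q.num_div_denom.symm
  have he : a ^ 2 * f = Polynomial.C c * b ^ 2 := by
    apply hinj
    rw [map_mul, map_mul, map_pow, map_pow]
    rw [hq', div_pow, div_mul_eq_mul_div, div_eq_iff (pow_ne_zero _ (fun e => hb (hinj (by rw [e, map_zero]))))] at h
    rw [h, IsScalarTower.algebraMap_apply k k[X] (RatFunc k), Polynomial.algebraMap_eq]
  have hc : c ≠ 0 := fun e => by
    have hf0 : f ≠ 0 := fun e0 => by rw [e0, natDegree_zero] at hd; omega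
    rw [e, map_zero, zero_mul] at he
    exact mul_ne_zero (pow_ne_zero 2 ha) hf0 he
  have hdvd : b * b ∣ f := by
    rw [← pow_two]
    exact (hab.symm.pow).dvd_of_dvd_mul_left (Dvd.intro_left _ he.symm)
  have hbu := hf b hdvd
  have ha2 : a ^ 2 ∣ Polynomial.C c := by
    exact (hab.pow).dvd_of_dvd_mul_right (Dvd.intro f he)
  have hdeg := congrArg natDegree he
  rw [natDegree_mul (pow_ne_zero _ ha) (fun e => by simp [e] at hd), natDegree_C_mul hc, natDegree_pow, natDegree_pow,
    natDegree_eq_zero_of_isUnit hbu] at hdeg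
  omega

theorem isFunctionField_of_sq (h2 : ringChar k ≠ 2) (x y : K) (hx : Transcendental k x)
    (hxy : IntermediateField.adjoin k ({x, y} : Set K) = ⊤)
    (f : k[X]) (hf : Squarefree f) (hd : 1 ≤ f.natDegree)
    (heq : y ^ 2 = Polynomial.aeval x f) : IsFunctionField k K := by
  classical
  let F := k⟮x⟯
  set e := RatFunc.algEquivOfTranscendental x hx with he
  set gx : F := AdjoinSimple.gen k x with hgx
  have hfF : algebraMap F K (Polynomial.aeval gx f) = y ^ 2 := by
    rw [← Polynomial.aeval_algebraMap_apply, heq]; rfl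
  have hyint : IsIntegral F y := ⟨X ^ 2 - Polynomial.C (Polynomial.aeval gx f),
    monic_X_pow_sub_C _ (by norm_num), by simp [hfF]⟩
  have hgen : IntermediateField.adjoin F ({y} : Set K) = ⊤ := by
    set G := IntermediateField.adjoin F ({y} : Set K)
    have htop : IntermediateField.adjoin k ({x, y} : Set K) ≤ G.restrictScalars k := by
      rw [IntermediateField.adjoin_le_iff, Set.insert_subset_iff, Set.singleton_subset_iff]
      exact ⟨G.algebraMap_mem gx, mem_adjoin_simple_self _ y⟩
    rw [hxy] at htop
    exact eq_top_iff.2 fun z _ => htop (trivial : z ∈ (⊤ : IntermediateField k K))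
  haveI : FiniteDimensional F K := by
    have := IntermediateField.adjoin.finiteDimensional hyint
    rw [hgen] at this
    exact Module.Finite.equiv (IntermediateField.topEquiv).toLinearEquiv
  refine ⟨⟨x, hx, inferInstance⟩, fun α hα => ?_⟩
  -- every element is `p + q y`
  have hlin : ∀ α : K, ∃ p q : F, α = algebraMap F K p + algebraMap F K q * y := by
    intro α
    have hα' : α ∈ Algebra.adjoin F ({y} : Set K) := by
      rw [← IntermediateField.adjoin_simple_toSubalgebra_of_isAlgebraic hyint.isAlgebraic, hgen]; trivial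
    rw [Algebra.adjoin_singleton_eq_range_aeval] at hα'
    obtain ⟨P, rfl⟩ := hα'
    set m : F[X] := X ^ 2 - Polynomial.C (Polynomial.aeval gx f)
    have hm : m.Monic := monic_X_pow_sub_C _ (by norm_num)
    have hr : (P %ₘ m).natDegree ≤ 1 := by
      have := natDegree_modByMonic_lt P hm (fun e => by
        have := congrArg natDegree e; rw [natDegree_X_pow_sub_C, natDegree_one] at this; omega)
      rw [natDegree_X_pow_sub_C] at this; omega
    obtain ⟨q, p, hpq⟩ := exists_eq_X_add_C_of_natDegree_le_one hr
    refine ⟨p, q, ?_⟩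
    show Polynomial.aeval y P = _
    rw [← Polynomial.aeval_modByMonic_eq_self_of_root (p := P) (show Polynomial.aeval y m = 0 by simp [m, hfF]),
      hpq]
    simp; ring
  have hconstF : ∀ u : F, IsAlgebraic k u → ∃ c : k, u = algebraMap k F c := fun u hu => by
    obtain ⟨c, hc⟩ := ratFunc_algebraic_mem (hu.algHom e.symm.toAlgHom)
    exact ⟨c, by rw [← e.apply_symm_apply u]; exact (congrArg e hc).trans (e.commutes c)⟩
  obtain ⟨p, q, hpq⟩ := hlin α
  rcases eq_or_ne q 0 with rfl | hq
  · rw [map_zero, zero_mul, add_zero] at hpq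
    obtain ⟨c, rfl⟩ := hconstF p ((isAlgebraic_algebraMap_iff (algebraMap F K).injective).1 (hpq ▸ hα))
    exact ⟨c, by rw [hpq, ← IsScalarTower.algebraMap_apply]⟩
  exfalso
  have hsqne : ∀ (r : F) (c : k), r ≠ 0 → r ^ 2 * Polynomial.aeval gx f ≠ algebraMap k F c := fun r c hr h => by
    refine sq_mul_ne_const hf hd (e.symm r) (fun h0 => hr (by simpa using congrArg e h0)) c (e.injective ?_)
    rw [map_mul, map_pow, e.apply_symm_apply, RatFunc.algEquivOfTranscendental_algebraMap, e.commutes]
    exact h
  -- the conjugate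
  have hirr : minpoly F y = X ^ 2 - Polynomial.C (Polynomial.aeval gx f) := by
    refine (minpoly.eq_of_irreducible_of_monic ?_ (by simp [hfF]) (monic_X_pow_sub_C _ (by norm_num))).symm
    refine X_pow_sub_C_irreducible_of_prime Nat.prime_two fun r hr => ?_
    have hr0 : r ≠ 0 := fun e0 => by
      rw [e0, zero_pow (by norm_num)] at hr
      have : Polynomial.aeval x f = 0 := by rw [← heq, ← hfF, ← hr, map_zero]
      exact hx ⟨f, fun e1 => by simp [e1] at hd, this⟩
    refine hsqne r⁻¹ 1 (inv_ne_zero hr0) ?_
    rw [← hr, inv_pow, inv_mul_cancel₀ (pow_ne_zero _ hr0), map_one]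
  let pb : PowerBasis F K := (IntermediateField.adjoin.powerBasis hyint).map
    ((IntermediateField.equivOfEq hgen).trans IntermediateField.topEquiv)
  have hpb : pb.gen = y := rfl
  let σ : K →ₐ[F] K := pb.lift (-y) (by rw [hpb, hirr]; simp [hfF])
  have hσy : σ y = -y := by
    exact (congrArg σ hpb.symm).trans (pb.lift_gen _ _)
  have hσα : IsAlgebraic k (σ α) := hα.algHom (σ.restrictScalars k)
  rw [hpq, map_add, map_mul, AlgHom.commutes, AlgHom.commutes, hσy] at hσα
  rw [hpq] at hα
  have h2' : (2 : k) ≠ 0 := Ring.two_ne_zero h2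
  have hp : IsAlgebraic k (algebraMap F K p) := by
    have h := (hα.add hσα).mul (isAlgebraic_algebraMap (A := K) ((2 : k)⁻¹))
    rwa [map_inv₀, map_ofNat, show (algebraMap F K p + algebraMap F K q * y + (algebraMap F K p + algebraMap F K q * -y)) * (2 : K)⁻¹ = algebraMap F K p by
      have : (2 : K) ≠ 0 := by rw [← map_ofNat (algebraMap k K) 2]; simpa using h2'
      field_simp; ring] at h
  have hqy : IsAlgebraic k (algebraMap F K (q ^ 2 * Polynomial.aeval gx f)) := by
    rw [map_mul, map_pow, hfF, ← mul_pow, show algebraMap F K q * y =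
      (algebraMap F K p + algebraMap F K q * y) - algebraMap F K p by ring]
    exact (hα.sub hp).pow 2
  obtain ⟨c, hc⟩ := hconstF _ ((isAlgebraic_algebraMap_iff (algebraMap F K).injective).1 hqy)
  exact hsqne q c hq hc

end Groth.Agent.FFWr
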