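import Groth.Agent.FFWr.Fibre
import Groth.Agent.FFWr.CoordChange

/-! The Jacobian criterion for a place of a projective map. -/

set_option autoImplicit false
set_option linter.style.haveILetI false
set_option linter.unusedSectionVars false
set_option maxHeartbeats 800000

open FunFld WithZero Groth.Agent.FF Groth.Agent.FFEmb Groth.Agent.FFEmb.Map

namespace Groth.Agent.FFWr

variable {k K : Type*} [Field k] [IsAlgClosed k] [Field K] [Algebra k K] (hK : IsFunctionField k K)

/-- the gradient at the point `a` -/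
noncomputable def grad {σ : Type*} (a : σ → k) : MvPolynomial σ k →ₗ[k] (σ → k) :=
  LinearMap.pi fun i => (MvPolynomial.aeval a).toLinearMap ∘ₗ (MvPolynomial.pderiv i).toLinearMap

lemma grad_apply {σ : Type*} (a : σ → k) (F : MvPolynomial σ k) (i : σ) :
    grad a F i = MvPolynomial.aeval a (MvPolynomial.pderiv i F) := rfl

lemma grad_mul {σ : Type*} (a : σ → k) (F G : MvPolynomial σ k) :
    grad a (F * G) = MvPolynomial.aeval a G • grad a F + MvPolynomial.aeval a F • grad a G := by
  funext i
  simp only [Pi.add_apply, Pi.smul_apply, grad_apply, Derivation.leibniz, smul_eq_mul, map_add, map_mul]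
  ring

lemma grad_X {σ : Type*} [DecidableEq σ] (a : σ → k) (i : σ) :
    grad a (MvPolynomial.X i) = Pi.single i 1 := by
  funext l
  rw [grad_apply, MvPolynomial.pderiv_X]
  rcases eq_or_ne i l with rfl | h
  · simp
  · simp [Pi.single_eq_of_ne h, Pi.single_eq_of_ne' h]

lemma grad_C {σ : Type*} (a : σ → k) (c : k) : grad a (MvPolynomial.C c) = 0 := by
  funext l; simp [grad_apply]

/-- gradients of equations vanishing on the point `φ / φ j` -/
noncomputable def tangentEqs {n : ℕ} (φ : Fin (n + 1) → K) (j : Fin (n + 1)) (a : Fin (n + 1) → k) :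
    Submodule k (Fin (n + 1) → k) :=
  (LinearMap.ker (MvPolynomial.aeval (R := k) fun i => φ i / φ j).toLinearMap).map (grad a)

include hK

theorem jacobian_core {n : ℕ} (hn : 1 ≤ n) {φ : Fin (n + 1) → K} (hφ : LinearIndependent k φ)
    (hbir : IntermediateField.adjoin k (Set.range fun i => φ i / φ 0) = ⊤) (P : Place k K) (j : Fin (n + 1))
    (hj : ∀ i, P.1 (φ i) ≤ P.1 (φ j)) (a : Fin (n + 1) → k)
    (ha : ∀ i, P.1 (φ i / φ j - algebraMap k K (a i)) < 1) :
    Module.finrank k (tangentEqs φ j a) ≤ n ∧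
      (IsNonsingularAt φ P ↔ Module.finrank k (tangentEqs φ j a) = n) := by
  classical
  set ψ : Fin (n + 1) → K := fun i => φ i / φ j with hψ
  set T := tangentEqs φ j a with hT
  set A := Algebra.adjoin k (Set.range ψ) with hA
  set t : Fin (n + 1) → K := fun i => ψ i - algebraMap k K (a i) with ht
  have hj0 := hφ.ne_zero j
  have hψ1 : ∀ i, P.1 (ψ i) ≤ 1 := fun i => by rw [hψ, map_div₀]; exact div_le_one_of_le₀ (hj i) zero_le
  have hA1 : ∀ z ∈ A, P.1 z ≤ 1 := fun z hz => by
    induction hz using Algebra.adjoin_induction with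
    | mem z hz => obtain ⟨i, rfl⟩ := hz; exact hψ1 i
    | algebraMap c => exact P.2.1 c
    | add x y _ _ hx hy => exact Valuation.map_add_le _ hx hy
    | mul x y _ _ hx hy => rw [map_mul]; exact mul_le_one' hx hy
  let M1 : Submodule k K :=
    { carrier := {z | z ∈ A ∧ P.1 z < 1}
      add_mem' := fun {x y} hx hy => ⟨add_mem hx.1 hy.1, lt_of_le_of_lt (P.1.map_add _ _) (max_lt hx.2 hy.2)⟩
      zero_mem' := ⟨zero_mem _, by rw [map_zero]; exact zero_lt_one⟩
      smul_mem' := fun c x hx => ⟨A.smul_mem hx.1 c, (val_smul_le P c x).trans_lt hx.2⟩ }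
  have htA : ∀ i, t i ∈ A := fun i => sub_mem (Algebra.subset_adjoin ⟨i, rfl⟩) (A.algebraMap_mem _)
  have ht1 : ∀ i, t i ∈ M1 := fun i => ⟨htA i, ha i⟩
  have hM1A : ∀ z ∈ M1, ∀ w ∈ A, w * z ∈ M1 := fun z hz w hw =>
    ⟨mul_mem hw hz.1, by rw [map_mul]; exact lt_of_le_of_lt (mul_le_of_le_one_left zero_le (hA1 w hw)) hz.2⟩
  have hM2A : ∀ z ∈ M1 * M1, ∀ w ∈ A, w * z ∈ M1 * M1 := fun z hz w hw => by
    refine Submodule.mul_induction_on hz (fun x hx y hy => ?_) (fun x y hx hy => by rw [mul_add]; exact add_mem hx hy)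
    rw [← mul_assoc]; exact Submodule.mul_mem_mul (hM1A x hx w hw) hy
  have hM21 : M1 * M1 ≤ M1 := Submodule.mul_le.2 fun x hx y hy => hM1A y hy x hx.1
  -- Taylor expansion
  have htaylor : ∀ F : MvPolynomial (Fin (n + 1)) k, MvPolynomial.aeval ψ F -
      algebraMap k K (MvPolynomial.aeval a F) - ∑ i, grad a F i • t i ∈ M1 * M1 := by
    intro F
    induction F using MvPolynomial.induction_on with
    | C c => simp [grad_C]
    | add F G hF hG =>
      convert add_mem hF hG using 1
      simp only [map_add, Pi.add_apply, add_smul, Finset.sum_add_distrib]; ring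
    | mul_X F i hF =>
      set ℓ := ∑ l, grad a F l • t l with hℓ
      have hℓ1 : ℓ ∈ M1 := sum_mem fun l _ => M1.smul_mem _ (ht1 l)
      have e : MvPolynomial.aeval ψ (F * MvPolynomial.X i) - algebraMap k K (MvPolynomial.aeval a (F * MvPolynomial.X i)) -
          ∑ l, grad a (F * MvPolynomial.X i) l • t l =
          ψ i * (MvPolynomial.aeval ψ F - algebraMap k K (MvPolynomial.aeval a F) - ℓ) + t i * ℓ := by
        have hs : ∑ l, grad a (F * MvPolynomial.X i) l • t l = a i • ℓ + MvPolynomial.aeval a F • t i := by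
          rw [grad_mul, grad_X, MvPolynomial.aeval_X, hℓ, Finset.smul_sum]
          simp only [Pi.add_apply, Pi.smul_apply, smul_eq_mul, add_smul, Finset.sum_add_distrib, mul_smul]
          congr 1
          rw [Finset.sum_eq_single i]
          · simp
          · intro b _ hb; simp [Pi.single_eq_of_ne hb]
          · simp
        rw [hs]
        simp only [ht, map_mul, MvPolynomial.aeval_X, Algebra.smul_def]
        ring
      rw [e]
      exact add_mem (hM2A _ hF _ (Algebra.subset_adjoin ⟨i, rfl⟩)) (Submodule.mul_mem_mul (ht1 i) hℓ1)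
  have hArange : ∀ z ∈ A, ∃ F : MvPolynomial (Fin (n + 1)) k, MvPolynomial.aeval ψ F = z := fun z hz => by
    rwa [hA, Algebra.adjoin_range_eq_range_aeval] at hz
  have hconst : ∀ F : MvPolynomial (Fin (n + 1)) k,
      P.1 (MvPolynomial.aeval ψ F - algebraMap k K (MvPolynomial.aeval a F)) < 1 := fun F => by
    have h : MvPolynomial.aeval ψ F - algebraMap k K (MvPolynomial.aeval a F) ∈ M1 := by
      have := add_mem (hM21 (htaylor F))
        (show (∑ i, grad a F i • t i) ∈ M1 from sum_mem fun i _ => M1.smul_mem _ (ht1 i))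
      simpa using this
    exact h.2
  have hF0 : ∀ F : MvPolynomial (Fin (n + 1)) k, P.1 (MvPolynomial.aeval ψ F) < 1 → MvPolynomial.aeval a F = 0 := fun F hF => by
    by_contra hne
    have h : P.1 (algebraMap k K (MvPolynomial.aeval a F)) < 1 := by
      rw [show algebraMap k K (MvPolynomial.aeval a F) = MvPolynomial.aeval ψ F -
        (MvPolynomial.aeval ψ F - algebraMap k K (MvPolynomial.aeval a F)) by ring]
      exact lt_of_le_of_lt (P.1.map_sub _ _) (max_lt hF (hconst F))
    rw [val_const P hne] at h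
    exact lt_irrefl _ h
  -- `M1 = M1²` is impossible
  have hne_idem : ¬ M1 ≤ M1 * M1 := by
    intro hle
    have key : ∀ r : ℕ, ∀ z ∈ M1, P.1 z ≤ exp (-(r : ℤ) - 1) := by
      intro r
      induction r with
      | zero => intro z hz; simpa using (lt_exp_iff _ 0).1 (hz.2.trans_eq exp_zero.symm)
      | succ r ih =>
        intro z hz
        refine Submodule.mul_induction_on (hle hz) (fun x hx y hy => ?_) (fun x y hx hy => Valuation.map_add_le _ hx hy)
        rw [map_mul]
        refine (mul_le_mul' (ih x hx) (ih y hy)).trans ?_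
        rw [← exp_add, exp_le_exp]; push_cast; omega
    haveI : Nontrivial (Fin (n + 1)) := Fin.nontrivial_iff_two_le.2 (by omega)
    obtain ⟨i, hij⟩ := exists_ne j
    have hti : t i ≠ 0 := fun h0 => by
      simp only [ht, hψ, sub_eq_zero, div_eq_iff hj0, ← Algebra.smul_def] at h0
      have h2 := Fintype.linearIndependent_iff.1 hφ (Pi.single i 1 - Pi.single j (a i)) (by
        simp [sub_smul, Pi.single_apply, ite_smul, Finset.sum_sub_distrib, h0]) i
      simp [hij] at h2
    have h := key (P.ord (t i)).toNat _ (ht1 i)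
    rw [val_eq_exp_ord P hti, exp_le_exp] at h
    have := Int.self_le_toNat (P.ord (t i))
    omega
  have hM1_lin : ∀ (v : Submodule k K), (M1 * M1 ≤ v) → (∀ i, t i ∈ v) → M1 ≤ v := fun v hv hvt z hz => by
    obtain ⟨F, rfl⟩ := hArange z hz.1
    have h := add_mem (hv (htaylor F))
      (show (∑ i, grad a F i • t i) ∈ v from sum_mem fun i _ => v.smul_mem _ (hvt i))
    rw [sub_add_cancel, hF0 F hz.2, map_zero, sub_zero] at h
    exact h
  have hgrad0 : ∀ z ∈ M1 * M1, ∃ G : MvPolynomial (Fin (n + 1)) k, MvPolynomial.aeval ψ G = z ∧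
      grad a G = 0 ∧ MvPolynomial.aeval a G = 0 := by
    intro z hz
    refine Submodule.mul_induction_on hz (fun x hx y hy => ?_) ?_
    · obtain ⟨F, rfl⟩ := hArange x hx.1
      obtain ⟨G, rfl⟩ := hArange y hy.1
      exact ⟨F * G, map_mul _ _ _, by rw [grad_mul, hF0 F hx.2, hF0 G hy.2, zero_smul, zero_smul, add_zero],
        by rw [map_mul, hF0 F hx.2, zero_mul]⟩
    · rintro x y ⟨F, rfl, h1, h1'⟩ ⟨G, rfl, h2, h2'⟩
      exact ⟨F + G, map_add _ _ _, by rw [map_add, h1, h2, add_zero], by rw [map_add, h1', h2', add_zero]⟩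
  have hTne : T ≠ ⊤ := by
    intro hTtop
    refine hne_idem (hM1_lin _ le_rfl fun i => ?_)
    have hmem : (Pi.single i 1 : Fin (n + 1) → k) ∈ T := hTtop ▸ Submodule.mem_top
    obtain ⟨F, hF, hFg⟩ := hmem
    have hF' : MvPolynomial.aeval ψ F = 0 := hF
    have h := htaylor F
    rw [hF', hF0 F (by rw [hF', map_zero]; exact zero_lt_one), hFg] at h
    have e : ∑ l, (Pi.single i 1 : Fin (n + 1) → k) l • t l = t i := by simp [Pi.single_apply, ite_smul]
    rw [e, map_zero, sub_zero, zero_sub] at h
    exact (neg_mem_iff (H := M1 * M1)).1 h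
  have hle : Module.finrank k T ≤ n := by
    have := Submodule.finrank_lt hTne
    rw [Module.finrank_fin_fun] at this
    omega
  refine ⟨hle, fun hns => ?_, fun heq => ?_⟩
  · -- nonsingular: at most one tangent direction
    have hA' : ∀ z, InLocRing φ P z → ∃ u ∈ A, ∃ w ∈ A, P.1 w = 1 ∧ z * w = u := by
      intro z hz
      obtain ⟨j', hj'0, hj', u, hu, w, hw, hwP, hzw⟩ := hz
      have hle' : ∀ x ∈ Algebra.adjoin k (Set.range fun i => φ i / φ j'), x ∈ locSubring A P := by
        intro x hx
        induction hx using Algebra.adjoin_induction with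
        | mem x hx =>
          obtain ⟨i, rfl⟩ := hx
          show φ i / φ j' ∈ locSubring A P
          rw [show φ i / φ j' = ψ i / ψ j' by simp only [hψ]; rw [div_div_div_cancel_right₀ hj0]]
          refine div_mem_locSubring (le_locSubring _ _ (Algebra.subset_adjoin ⟨i, rfl⟩))
            (le_locSubring _ _ (Algebra.subset_adjoin ⟨j', rfl⟩)) ?_
          simp only [hψ, map_div₀, le_antisymm (hj j') (hj' j)]
          exact div_self ((P.1.ne_zero_iff).2 hj0)
        | algebraMap c => exact le_locSubring _ _ (A.algebraMap_mem c)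
        | add x y _ _ hx hy => exact add_mem hx hy
        | mul x y _ _ hx hy => exact mul_mem hx hy
      have hw0 : w ≠ 0 := fun e => by simp [e] at hwP
      have : z ∈ locSubring A P := by
        rw [show z = u / w by rw [← hzw, mul_div_cancel_right₀ _ hw0]]
        exact div_mem_locSubring (hle' u hu) (hle' w hw) hwP
      exact this
    obtain ⟨τ, hτ⟩ := exists_uniformizer P
    obtain ⟨u, hu, w, hw, hwP, huw⟩ := hA' τ (hns τ (by rw [hτ, ← exp_zero, exp_le_exp]; omega))
    have huv : P.1 u = exp (-1 : ℤ) := by rw [← huw, map_mul, hτ, hwP, mul_one]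
    have hu1 : u ∈ M1 := ⟨hu, by rw [huv, ← exp_zero, exp_lt_exp]; omega⟩
    have hu0 : u ≠ 0 := ne_zero_of_val_eq_exp P huv
    have hsq : ∀ z ∈ M1, P.1 z ≤ exp (-2 : ℤ) → z ∈ M1 * M1 := by
      intro z hz hz2
      have hzu : P.1 (z / u) < 1 := by
        rw [map_div₀, huv, div_lt_one₀ exp_pos]
        exact hz2.trans_lt (by rw [exp_lt_exp]; omega)
      obtain ⟨u', hu', w', hw', hw'P, huw'⟩ := hA' (z / u) (hns _ hzu.le)
      have hu'1 : u' ∈ M1 := ⟨hu', by rw [← huw', map_mul, hw'P, mul_one]; exact hzu⟩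
      have hzw : z * w' ∈ M1 * M1 := by
        rw [show z * w' = u * u' by rw [← huw', ← mul_assoc, mul_div_cancel₀ _ hu0]]
        exact Submodule.mul_mem_mul hu1 hu'1
      obtain ⟨W, hW⟩ := hArange w' hw'
      set c := MvPolynomial.aeval a W with hc
      have hc0 : c ≠ 0 := by
        intro h0
        have h := hconst W
        rw [hW, ← hc, h0, map_zero, sub_zero, hw'P] at h
        exact lt_irrefl _ h
      have hrest : z * (w' - algebraMap k K c) ∈ M1 * M1 :=
        Submodule.mul_mem_mul hz ⟨sub_mem hw' (A.algebraMap_mem _), by rw [← hW]; exact hconst W⟩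
      have hcz : c • z ∈ M1 * M1 := by
        rw [show c • z = z * w' - z * (w' - algebraMap k K c) by rw [Algebra.smul_def]; ring]
        exact sub_mem hzw hrest
      simpa [smul_smul, hc0] using (M1 * M1).smul_mem c⁻¹ hcz
    obtain ⟨U, hU⟩ := hArange u hu
    have hspan : T ⊔ Submodule.span k {grad a U} = ⊤ := by
      rw [eq_top_iff, ← (Pi.basisFun k (Fin (n + 1))).span_eq, Submodule.span_le]
      rintro _ ⟨i, rfl⟩
      obtain ⟨c, hc⟩ := exists_residue hK P (t := t i / u) (by
        rw [map_div₀, huv, div_le_one₀ exp_pos]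
        simpa using (lt_exp_iff _ 0).1 ((ha i).trans_eq exp_zero.symm))
      have hmem : t i - c • u ∈ M1 * M1 := by
        refine hsq _ (sub_mem (ht1 i) (M1.smul_mem c hu1)) ?_
        rw [show t i - c • u = u * (t i / u - algebraMap k K c) by
          rw [mul_sub, mul_div_cancel₀ _ hu0, Algebra.smul_def, mul_comm u], map_mul, huv]
        refine (mul_le_mul' le_rfl (show P.1 (t i / u - algebraMap k K c) ≤ exp (-1 : ℤ) by
          simpa using (lt_exp_iff _ 0).1 (hc.trans_eq exp_zero.symm))).trans_eq ?_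
        rw [← exp_add]; rfl
      obtain ⟨G, hG, hGg, -⟩ := hgrad0 _ hmem
      have hker : MvPolynomial.X i - MvPolynomial.C (a i) - c • U - G ∈
          LinearMap.ker (MvPolynomial.aeval (R := k) ψ).toLinearMap := by
        rw [LinearMap.mem_ker]
        show MvPolynomial.aeval ψ _ = 0
        rw [map_sub, map_sub, map_sub, map_smul, hU, hG, MvPolynomial.aeval_X, MvPolynomial.aeval_C, ht]
        ring
      have h2 : grad a (MvPolynomial.X i - MvPolynomial.C (a i) - c • U - G) ∈ T := ⟨_, hker, rfl⟩
      rw [map_sub, map_sub, map_sub, map_smul, grad_X, grad_C, hGg, sub_zero, sub_zero] at h2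
      rw [SetLike.mem_coe, Pi.basisFun_apply,
        show (Pi.single i 1 : Fin (n + 1) → k) = (Pi.single i 1 - c • grad a U) + c • grad a U by abel]
      exact Submodule.add_mem_sup h2 (Submodule.smul_mem _ _ (Submodule.mem_span_singleton_self _))
    have h1 := Submodule.finrank_add_le_finrank_add_finrank T (Submodule.span k {grad a U})
    have h2 : Module.finrank k (Submodule.span k {grad a U}) ≤ 1 :=
      (finrank_span_le_card ({grad a U} : Set (Fin (n + 1) → k))).trans (by simp)
    rw [hspan, finrank_top, Module.finrank_fin_fun] at h1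
    omega
  · -- one tangent direction: nonsingular
    obtain ⟨l, hl⟩ : ∃ l, (Pi.single l 1 : Fin (n + 1) → k) ∉ T := by
      by_contra! hall
      refine hTne (eq_top_iff.2 ?_)
      rw [← (Pi.basisFun k (Fin (n + 1))).span_eq, Submodule.span_le]
      rintro _ ⟨i, rfl⟩
      rw [SetLike.mem_coe, Pi.basisFun_apply]; exact hall i
    have hsup : T ⊔ Submodule.span k {(Pi.single l 1 : Fin (n + 1) → k)} = ⊤ := by
      have hlt : T < T ⊔ Submodule.span k {(Pi.single l 1 : Fin (n + 1) → k)} :=
        left_lt_sup.2 fun h => hl (h (Submodule.mem_span_singleton_self _))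
      have h1 := Submodule.finrank_lt_finrank_of_lt hlt
      have h2 := Submodule.finrank_le (T ⊔ Submodule.span k {(Pi.single l 1 : Fin (n + 1) → k)})
      refine Submodule.eq_top_of_finrank_eq (le_antisymm h2 ?_)
      rw [Module.finrank_fin_fun] at h2 ⊢
      omega
    set o := t l with ho
    have hstep : M1 ≤ Submodule.span k {o} ⊔ M1 * M1 := by
      intro z hz
      obtain ⟨F, rfl⟩ := hArange z hz.1
      obtain ⟨g, hg, v, hv, hgv⟩ := Submodule.mem_sup.1 (hsup ▸ Submodule.mem_top : grad a F ∈ _)
      obtain ⟨s, rfl⟩ := Submodule.mem_span_singleton.1 hv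
      obtain ⟨H, hH, rfl⟩ := hg
      have hH' : MvPolynomial.aeval ψ H = 0 := hH
      have h := htaylor (F - H)
      simp only [map_sub, hH', hF0 F hz.2, hF0 H (by rw [hH', map_zero]; exact zero_lt_one),
        sub_zero, map_zero] at h
      rw [← hgv, add_sub_cancel_left] at h
      have e : ∑ i, (s • (Pi.single l 1 : Fin (n + 1) → k)) i • t i = s • o := by
        simp [Pi.single_apply, ite_smul, ho]
      rw [e] at h
      refine Submodule.mem_sup.2 ⟨s • o, Submodule.smul_mem _ _ (Submodule.mem_span_singleton_self _), _, h, ?_⟩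
      ring
    have ho0 : o ≠ 0 := fun h => hne_idem (by
      intro z hz
      have := hstep hz
      rwa [h, Submodule.span_singleton_eq_bot.2 rfl, bot_sup_eq] at this)
    have hpow : ∀ S : ℕ, M1 ^ (S + 1) ≤ Submodule.span k {o ^ (S + 1)} ⊔ M1 ^ (S + 2) := by
      intro S
      induction S with
      | zero =>
        rw [zero_add, pow_one, pow_one]
        exact hstep.trans (sup_le_sup le_rfl (by rw [pow_two]))
      | succ S ih =>
        rw [pow_succ]
        refine Submodule.mul_le.2 fun x hx y hy => ?_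
        obtain ⟨x1, hx1, x2, hx2, rfl⟩ := Submodule.mem_sup.1 (ih hx)
        obtain ⟨y1, hy1, y2, hy2, rfl⟩ := Submodule.mem_sup.1 (hstep hy)
        obtain ⟨c, rfl⟩ := Submodule.mem_span_singleton.1 hx1
        obtain ⟨d, rfl⟩ := Submodule.mem_span_singleton.1 hy1
        refine Submodule.mem_sup.2 ⟨(c • o ^ (S + 1)) * (d • o), ?_,
          (c • o ^ (S + 1)) * y2 + x2 * (d • o + y2), ?_, by ring⟩
        · rw [smul_mul_assoc, mul_smul_comm, ← pow_succ]
          exact Submodule.smul_mem _ _ (Submodule.smul_mem _ _ (Submodule.mem_span_singleton_self _))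
        · refine add_mem ?_ ?_
          · rw [show S + 1 + 2 = (S + 1) + 2 by ring, pow_add M1 (S + 1) 2, pow_two]
            refine Submodule.mul_mem_mul ?_ hy2
            exact Submodule.smul_mem _ _ (Submodule.pow_mem_pow _ (ht1 l) _)
          · rw [show S + 1 + 2 = (S + 2) + 1 by ring, pow_succ]
            exact Submodule.mul_mem_mul hx2 hy
    have hexp : ∀ z ∈ A, ∀ S : ℕ, ∃ c : ℕ → k, z - ∑ s ∈ Finset.range (S + 1), c s • o ^ s ∈ M1 ^ (S + 1) := by
      intro z hz S
      induction S with
      | zero =>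
        obtain ⟨F, rfl⟩ := hArange z hz
        refine ⟨fun _ => MvPolynomial.aeval a F, ?_⟩
        rw [Finset.sum_range_one, pow_zero, zero_add, pow_one, Algebra.smul_def, mul_one]
        exact ⟨sub_mem hz (A.algebraMap_mem _), hconst F⟩
      | succ S ih =>
        obtain ⟨c, hc⟩ := ih
        obtain ⟨x1, hx1, x2, hx2, hx⟩ := Submodule.mem_sup.1 (hpow S hc)
        obtain ⟨d, rfl⟩ := Submodule.mem_span_singleton.1 hx1
        refine ⟨fun s => if s = S + 1 then d else c s, ?_⟩
        rw [Finset.sum_range_succ]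
        beta_reduce
        rw [if_pos rfl, Finset.sum_congr rfl (fun s hs =>
          show (if s = S + 1 then d else c s) • o ^ s = c s • o ^ s by
            rw [if_neg (by simp at hs; omega)]), ← sub_sub, ← hx, add_sub_cancel_left]
        exact hx2
    -- the fibre
    obtain ⟨N, hN⟩ := exists_bound_inLocRing hK hn hφ hbir P
    have hfin := finite_sameImage hK hn hφ P
    have hres : ∀ Q, SameImage φ P Q → ∀ w ∈ A, (Q.1 w ≤ 1) ∧ (Q.1 w < 1 ↔ P.1 w < 1) := fun Q hQ w hw =>
      (MapS.sameImage_iff hK φ hφ P Q).1 hQ w ⟨j, hj0, hj, w, hw, 1, one_mem _, map_one _, mul_one w⟩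
    have hPP : SameImage φ P P := (MapS.sameImage_iff hK φ hφ P P).2 fun z hz =>
      ⟨by
        obtain ⟨j', _, hj', u, hu, w, hw, hwP, hzw⟩ := hz
        have hu1 : ∀ x ∈ Algebra.adjoin k (Set.range fun i => φ i / φ j'), P.1 x ≤ 1 := fun x hx => by
          induction hx using Algebra.adjoin_induction with
          | mem x hx => obtain ⟨i, rfl⟩ := hx; rw [map_div₀]; exact div_le_one_of_le₀ (hj' i) zero_le
          | algebraMap c => exact P.2.1 c
          | add x y _ _ hx hy => exact Valuation.map_add_le _ hx hy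
          | mul x y _ _ hx hy => rw [map_mul]; exact mul_le_one' hx hy
        calc P.1 z = P.1 (z * w) := by rw [map_mul, hwP, mul_one]
          _ ≤ 1 := by rw [hzw]; exact hu1 u hu, Iff.rfl⟩
    have hvo : ∀ Q, SameImage φ P Q → 0 < Q.ord o := fun Q hQ =>
      (val_lt_one_iff Q ho0).1 ((hres Q hQ o (htA l)).2.2 (ha l))
    have hMpow : ∀ Q, SameImage φ P Q → ∀ S : ℕ, ∀ z ∈ M1 ^ S, Q.1 z ≤ exp (-(S : ℤ)) := by
      intro Q hQ S
      induction S with
      | zero =>
        intro z hz
        rw [pow_zero, Submodule.mem_one] at hz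
        obtain ⟨c, rfl⟩ := hz
        simpa using Q.2.1 c
      | succ S ih =>
        intro z hz
        rw [pow_succ] at hz
        refine Submodule.mul_induction_on hz (fun x hx y hy => ?_) (fun x y hx hy => Valuation.map_add_le _ hx hy)
        rw [map_mul]
        have hy' : Q.1 y ≤ exp (-1 : ℤ) := by
          simpa using (lt_exp_iff _ 0).1 (((hres Q hQ y hy.1).2.2 hy.2).trans_eq exp_zero.symm)
        refine (mul_le_mul' (ih x hx) hy').trans_eq ?_
        rw [← exp_add]; congr 1; push_cast; ring
    -- orders of elements of the local ring along the fibre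
    have hord : ∀ z, InLocRing φ P z → ∀ m : ℕ, P.1 z = exp (-(m : ℤ)) →
        ∀ Q, SameImage φ P Q → ∃ s : ℕ, (m : ℤ) = s * P.ord o ∧ Q.1 z = exp (-((s : ℤ) * Q.ord o)) := by
      intro z hz m hm Q0 hQ0
      obtain ⟨j', hj'0, hj', u', hu', w', hw', hw'P, hzw'⟩ := hz
      have hz0 : z ≠ 0 := ne_zero_of_val_eq_exp P hm
      obtain ⟨u, hu, w, hw, hwP, huw⟩ : z ∈ locSubring A P := by
        have hle' : ∀ x ∈ Algebra.adjoin k (Set.range fun i => φ i / φ j'), x ∈ locSubring A P := by
          intro x hx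
          induction hx using Algebra.adjoin_induction with
          | mem x hx =>
            obtain ⟨i, rfl⟩ := hx
            show φ i / φ j' ∈ locSubring A P
            rw [show φ i / φ j' = ψ i / ψ j' by simp only [hψ]; rw [div_div_div_cancel_right₀ hj0]]
            refine div_mem_locSubring (le_locSubring _ _ (Algebra.subset_adjoin ⟨i, rfl⟩))
              (le_locSubring _ _ (Algebra.subset_adjoin ⟨j', rfl⟩)) ?_
            simp only [hψ, map_div₀, le_antisymm (hj j') (hj' j)]
            exact div_self ((P.1.ne_zero_iff).2 hj0)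
          | algebraMap c => exact le_locSubring _ _ (A.algebraMap_mem c)
          | add x y _ _ hx hy => exact add_mem hx hy
          | mul x y _ _ hx hy => exact mul_mem hx hy
        have hw0 : w' ≠ 0 := fun e => by simp [e] at hw'P
        rw [show z = u' / w' by rw [← hzw', mul_div_cancel_right₀ _ hw0]]
        exact div_mem_locSubring (hle' u' hu') (hle' w' hw') hw'P
      have hwQ : ∀ Q, SameImage φ P Q → Q.1 w = 1 := fun Q hQ => by
        obtain ⟨h1, h2⟩ := hres Q hQ w hw
        exact h1.eq_of_not_lt (fun h => (h2.1 h).ne hwP)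
      have huQ : ∀ Q, SameImage φ P Q → Q.1 u = Q.1 z := fun Q hQ => by
        rw [← huw, map_mul, hwQ Q hQ, mul_one]
      set S := m + m * (Q0.ord o).toNat with hS
      obtain ⟨c, hc⟩ := hexp u hu S
      have hex : ∃ s, s ∈ Finset.range (S + 1) ∧ c s ≠ 0 := by
        by_contra! hzero
        rw [Finset.sum_eq_zero fun s hs => by rw [hzero s hs, zero_smul], sub_zero] at hc
        have h := hMpow P hPP (S + 1) u hc
        rw [huQ P hPP, hm, exp_le_exp] at h
        push_cast at h
        omega
      set s0 := Nat.find hex with hs0def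
      obtain ⟨hs0r, hs0⟩ := Nat.find_spec hex
      have hmin : ∀ s, s < s0 → c s = 0 := fun s hs => by
        by_contra h
        have := Finset.mem_range.1 hs0r
        exact Nat.find_min hex hs ⟨Finset.mem_range.2 (by omega), h⟩
      have hsum : ∀ Q, SameImage φ P Q →
          Q.1 (∑ s ∈ Finset.range (S + 1), c s • o ^ s) = exp (-((s0 : ℤ) * Q.ord o)) := fun Q hQ => by
        rw [Valuation.map_sum_eq_of_lt (v := Q.1) (j := s0) hs0r ?_,
          val_smul Q hs0, map_pow, val_eq_exp_ord Q ho0, ← exp_nsmul]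
        · congr 1; simp
        · intro s hs
          simp only [Finset.mem_sdiff, Finset.mem_range, Finset.mem_singleton] at hs
          rw [val_smul Q hs0]
          rcases Nat.lt_or_ge s s0 with h | h
          · rw [hmin s h, zero_smul, map_zero, map_pow, val_eq_exp_ord Q ho0, ← exp_nsmul]
            exact exp_pos
          · refine (val_smul_le Q _ _).trans_lt ?_
            rw [map_pow, map_pow]
            exact pow_lt_pow_right_of_lt_one₀ (by rw [val_eq_exp_ord Q ho0]; exact exp_pos)
              ((val_lt_one_iff Q ho0).2 (hvo Q hQ)) (by omega)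
      set Sm := ∑ s ∈ Finset.range (S + 1), c s • o ^ s with hSm
      have hu' : u = (u - Sm) + Sm := by ring
      have hrest : ∀ Q, SameImage φ P Q → Q.1 (u - Sm) ≤ exp (-((S + 1 : ℕ) : ℤ)) := fun Q hQ =>
        hMpow Q hQ (S + 1) _ hc
      have hsm : (s0 : ℤ) * P.ord o ≤ (S : ℤ) := by
        by_contra hcon
        have h1 : P.1 u ≤ exp (-((S + 1 : ℕ) : ℤ)) := by
          rw [hu']
          refine Valuation.map_add_le _ (hrest P hPP) ?_
          rw [hsum P hPP, exp_le_exp]
          push_cast
          omega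
        rw [huQ P hPP, hm, exp_le_exp] at h1
        push_cast at h1
        omega
      have hPu : (m : ℤ) = s0 * P.ord o := by
        have h1 : P.1 u = exp (-((s0 : ℤ) * P.ord o)) := by
          rw [hu', Valuation.map_add_eq_of_lt_right _ ((hrest P hPP).trans_lt ?_), hsum P hPP]
          rw [hsum P hPP, exp_lt_exp]
          push_cast
          omega
        rw [huQ P hPP, hm, exp_inj, neg_inj] at h1
        exact h1
      refine ⟨s0, hPu, ?_⟩
      rw [← huQ Q0 hQ0, hu', Valuation.map_add_eq_of_lt_right _ ((hrest Q0 hQ0).trans_lt ?_), hsum Q0 hQ0]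
      rw [hsum Q0 hQ0, exp_lt_exp]
      have h1 := hvo P hPP
      have h2 : (s0 : ℤ) ≤ m := by nlinarith
      have h3 := Int.toNat_of_nonneg (hvo Q0 hQ0).le
      push_cast [hS, h3]
      nlinarith [hvo Q0 hQ0]
    -- a prescribed element
    set S := insert P hfin.toFinset with hS
    have hmem : ∀ Q, SameImage φ P Q → Q ∈ S := fun Q hQ => Finset.mem_insert_of_mem (hfin.mem_toFinset.2 hQ)
    have hpres : ∀ (m B : ℕ), N ≤ m → N ≤ B →
        ∃ z, InLocRing φ P z ∧ P.1 z = exp (-(m : ℤ)) ∧
          ∀ Q, SameImage φ P Q → Q ≠ P → Q.1 z ≤ exp (-(B : ℤ)) := by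
      intro m B hm hB
      obtain ⟨π, hπ⟩ := exists_uniformizer P
      obtain ⟨z, hz⟩ := approx S (fun R => if R = P then π ^ m else 0)
        (fun R => if R = P then -((m : ℤ) + 1) else -(B : ℤ))
      have hzP : P.1 z = exp (-(m : ℤ)) := by
        have h := hz P (Finset.mem_insert_self _ _)
        rw [if_pos rfl, if_pos rfl] at h
        have hp : P.1 (π ^ m) = exp (-(m : ℤ)) := by rw [map_pow, hπ, ← exp_nsmul]; simp
        rw [show z = (z - π ^ m) + π ^ m by ring,
          Valuation.map_add_eq_of_lt_right _ (h.trans_lt (by rw [hp, exp_lt_exp]; omega)), hp]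
      have hzQ : ∀ Q, SameImage φ P Q → Q ≠ P → Q.1 z ≤ exp (-(B : ℤ)) := fun Q hQ hne => by
        have h := hz Q (hmem Q hQ)
        rwa [if_neg hne, if_neg hne, sub_zero] at h
      refine ⟨z, hN z fun Q hQ => ?_, hzP, hzQ⟩
      by_cases h : Q = P
      · subst h; rw [hzP, exp_le_exp]; omega
      · exact (hzQ Q hQ h).trans (by rw [exp_le_exp]; omega)
    have ho1 : P.ord o = 1 := by
      have hp := hvo P hPP
      obtain ⟨z, hz, hzP, -⟩ := hpres (N * (P.ord o).toNat + 1) N (by
        have : 1 ≤ (P.ord o).toNat := by omega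
        nlinarith) le_rfl
      obtain ⟨s, hs, -⟩ := hord z hz _ hzP P hPP
      push_cast [Int.toNat_of_nonneg hp.le] at hs
      exact Int.eq_one_of_mul_eq_one_left hp.le (show ((s : ℤ) - N) * P.ord o = 1 by linarith)
    have huniq : ∀ Q, SameImage φ P Q → Q = P := by
      intro Q hQ
      by_contra hne
      have hp := hvo Q hQ
      obtain ⟨z, hz, hzP, hzQ⟩ := hpres (N + 1) ((N + 1) * (Q.ord o).toNat + N + 1) (by omega) (by omega)
      obtain ⟨s, hs, hsQ⟩ := hord z hz _ hzP Q hQ
      have h := hzQ Q hQ hne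
      rw [ho1, mul_one] at hs
      rw [hsQ, ← hs, exp_le_exp] at h
      push_cast [Int.toNat_of_nonneg hp.le] at h
      nlinarith
    intro z hz
    have hov : P.1 o = exp (-1 : ℤ) := by rw [val_eq_exp_ord P ho0, ho1]
    obtain ⟨c, hc⟩ : ∃ c : ℕ → k, P.1 (z - ∑ s ∈ Finset.range N, c s • o ^ s) ≤ exp (-(N : ℤ)) := by
      clear hN hpres
      induction N with
      | zero => exact ⟨0, by simpa using hz⟩
      | succ N ih =>
        obtain ⟨c, hc⟩ := ih
        set r := z - ∑ s ∈ Finset.range N, c s • o ^ s with hr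
        have hoN : o ^ N ≠ 0 := pow_ne_zero _ ho0
        have hvN : P.1 (o ^ N) = exp (-(N : ℤ)) := by rw [map_pow, hov, ← exp_nsmul]; simp
        obtain ⟨d, hd⟩ := exists_residue hK P (t := r / o ^ N) (by
          rw [map_div₀, hvN]; exact div_le_one_of_le₀ hc zero_le)
        refine ⟨fun s => if s = N then d else c s, ?_⟩
        rw [Finset.sum_range_succ]
        beta_reduce
        rw [if_pos rfl, Finset.sum_congr rfl (fun s hs =>
          show (if s = N then d else c s) • o ^ s = c s • o ^ s by
            rw [if_neg (by simp at hs; omega)]), ← sub_sub, ← hr,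
          show r - d • o ^ N = o ^ N * (r / o ^ N - algebraMap k K d) by
            rw [mul_sub, mul_div_cancel₀ _ hoN, Algebra.smul_def, mul_comm (o ^ N)], map_mul, hvN]
        refine (mul_le_mul' le_rfl (show P.1 (r / o ^ N - algebraMap k K d) ≤ exp (-1 : ℤ) by
          simpa using (lt_exp_iff _ 0).1 (hd.trans_eq exp_zero.symm))).trans_eq ?_
        rw [← exp_add]; congr 1; push_cast; ring
    obtain ⟨j', hj'0, hj', u, hu, w, hw, hwP, huw⟩ :=
      hN (z - ∑ s ∈ Finset.range N, c s • o ^ s) (fun Q hQ => huniq Q hQ ▸ hc)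
    have hjj : P.1 (φ j' / φ j) = 1 := by
      rw [map_div₀, le_antisymm (hj j') (hj' j)]; exact div_self ((P.1.ne_zero_iff).2 hj0)
    have hle'' : ∀ x ∈ A, x ∈ locSubring (Algebra.adjoin k (Set.range fun i => φ i / φ j')) P := by
      intro x hx
      induction hx using Algebra.adjoin_induction with
      | mem x hx =>
        obtain ⟨i, rfl⟩ := hx
        rw [show ψ i = (φ i / φ j') / (φ j / φ j') by simp only [hψ]; rw [div_div_div_cancel_right₀ hj'0]]
        refine div_mem_locSubring (le_locSubring _ _ (Algebra.subset_adjoin ⟨i, rfl⟩))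
          (le_locSubring _ _ (Algebra.subset_adjoin ⟨j, rfl⟩)) ?_
        rw [show φ j / φ j' = (φ j' / φ j)⁻¹ by rw [inv_div], map_inv₀, hjj, inv_one]
      | algebraMap c => exact le_locSubring _ _ (Subalgebra.algebraMap_mem _ c)
      | add x y _ _ hx hy => exact add_mem hx hy
      | mul x y _ _ hx hy => exact mul_mem hx hy
    have hsum' : ∑ s ∈ Finset.range N, c s • o ^ s ∈ A :=
      sum_mem fun s _ => A.smul_mem (pow_mem (htA l) _) _
    obtain ⟨u', hu', w', hw', hw'P, huw'⟩ := add_mem
      (show z - ∑ s ∈ Finset.range N, c s • o ^ s ∈ locSubring (Algebra.adjoin k (Set.range fun i => φ i / φ j')) P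
        from ⟨u, hu, w, hw, hwP, huw⟩) (hle'' _ hsum')
    rw [sub_add_cancel] at huw'
    exact ⟨j', hj'0, hj', u', hu', w', hw', hw'P, huw'⟩

end Groth.Agent.FFWr
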