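import Groth.Agent.FFWr.CoordChange
import Groth.Agent.FFEmb.Plane
import Mathlib.RingTheory.MvPolynomial.Homogeneous
import Mathlib.Algebra.MvPolynomial.Equiv

/-! The homogeneous ideal of a plane model is generated by one irreducible form. -/

set_option autoImplicit false
set_option linter.style.haveILetI false
set_option linter.unusedSectionVars false

open FunFld Groth.Agent.FFEmb

namespace Groth.Agent.FFWr

variable {k K : Type*} [Field k] [Field K] [Algebra k K]

/-- `X₀ ↦ T`, `X₁ ↦ X T` -/
noncomputable def coneMap (k : Type*) [Field k] : MvPolynomial (Fin 2) k →ₐ[k] Polynomial (Polynomial k) :=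
  MvPolynomial.aeval ![Polynomial.X, Polynomial.C Polynomial.X * Polynomial.X]

lemma coneMap_monomial (n : Fin 2 →₀ ℕ) (s : k) : coneMap k (MvPolynomial.monomial n s) =
    Polynomial.C (Polynomial.C s * Polynomial.X ^ (n 1)) * Polynomial.X ^ (n 0 + n 1) := by
  rw [coneMap, MvPolynomial.aeval_monomial, Finsupp.prod_fintype _ _ (fun i => pow_zero _), Fin.prod_univ_two,
    map_mul, map_pow, pow_add]
  simp only [Matrix.cons_val_zero, Matrix.cons_val_one, mul_pow]
  rw [IsScalarTower.algebraMap_apply k (Polynomial k) (Polynomial (Polynomial k)), Polynomial.algebraMap_eq,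
    Polynomial.algebraMap_eq]
  ring

lemma coneMap_injective : Function.Injective (coneMap k) := by
  classical
  rw [injective_iff_map_eq_zero]
  intro p hp
  ext m
  have h := congrArg (fun q : Polynomial (Polynomial k) => (q.coeff (m 0 + m 1)).coeff (m 1)) hp
  rw [p.as_sum, map_sum] at h
  simp only [coneMap_monomial, Polynomial.finsetSum_coeff, Polynomial.coeff_zero, Polynomial.coeff_C_mul_X_pow] at h
  rw [Finset.sum_eq_single m] at h
  · simpa [Polynomial.coeff_C_mul_X_pow] using h
  · intro n _ hn
    split_ifs with h1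
    · rw [Polynomial.coeff_C_mul_X_pow, if_neg]
      intro h2
      exact hn (Finsupp.ext fun i => by fin_cases i <;> simp <;> omega)
    · exact Polynomial.coeff_zero _
  · intro h'
    simp [MvPolynomial.notMem_support_iff.1 h']

theorem ker_plane_eq_span [IsAlgClosed k] (hK : IsFunctionField k K) (x y : K)
    (hxy : IntermediateField.adjoin k ({x, y} : Set K) = ⊤) :
    ∃ f : MvPolynomial (Fin 3) k, Irreducible f ∧ f.IsHomogeneous f.totalDegree ∧
      RingHom.ker (MvPolynomial.aeval (R := k) fun i => Polynomial.C (![(1 : K), x, y] i) * Polynomial.X) =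
        Ideal.span {f} := by
  classical
  obtain ⟨v, w, d, hc⟩ := Plane.exists_coord hK x y hxy
  obtain ⟨g, hgm, hgd, hgθ, hgb⟩ := hc.exists_equation
  obtain ⟨a, b, c, hv, hlin⟩ := hc.lin
  obtain ⟨e, hdet, hwe⟩ : ∃ e : Fin 3 → k, Matrix.det (Matrix.of ![e, ![1, 0, 0], ![a, b, c]]) ≠ 0 ∧
      algebraMap k K (e 0) + algebraMap k K (e 1) * x + algebraMap k K (e 2) * y = w := by
    rcases hlin with ⟨hc0, hw⟩ | ⟨hb0, hw⟩
    · refine ⟨![0, 1, 0], ?_, by simp [hw]⟩
      rw [Matrix.det_fin_three]; simpa using hc0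
    · refine ⟨![0, 0, 1], ?_, by simp [hw]⟩
      rw [Matrix.det_fin_three]; simpa using hb0
  set B : Matrix (Fin 3) (Fin 3) k := Matrix.of ![e, ![1, 0, 0], ![a, b, c]] with hB
  set φ := ![(1 : K), x, y] with hφ
  set ψ := MvPolynomial.aeval (R := k) fun i => Polynomial.C (φ i) * Polynomial.X with hψ
  set ψ' := MvPolynomial.aeval (R := k) fun i => Polynomial.C (![w, 1, v] i) * Polynomial.X with hψ'
  let σ : MvPolynomial (Fin 3) k →ₐ[k] MvPolynomial (Fin 3) k :=
    MvPolynomial.aeval fun i => ∑ j, MvPolynomial.C (B i j) * MvPolynomial.X j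
  let τ : MvPolynomial (Fin 3) k →ₐ[k] MvPolynomial (Fin 3) k :=
    MvPolynomial.aeval fun i => ∑ j, MvPolynomial.C (B⁻¹ i j) * MvPolynomial.X j
  have hBu : IsUnit B.det := isUnit_iff_ne_zero.2 hdet
  have hcomp : ∀ (M N : Matrix (Fin 3) (Fin 3) k), M * N = 1 → ∀ p : MvPolynomial (Fin 3) k,
      MvPolynomial.aeval (fun i => ∑ j, MvPolynomial.C (N i j) * MvPolynomial.X j)
        (MvPolynomial.aeval (fun i => ∑ j, MvPolynomial.C (M i j) * MvPolynomial.X j) p) = p := by
    intro M N hMN p
    rw [MvPolynomial.comp_aeval_apply]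
    conv_rhs => rw [← MvPolynomial.aeval_X_left_apply p]
    congr 2
    funext i
    rw [map_sum, Finset.sum_congr rfl (fun j _ => show MvPolynomial.aeval (fun i => ∑ j, MvPolynomial.C (N i j) * MvPolynomial.X j)
        (MvPolynomial.C (M i j) * MvPolynomial.X j : MvPolynomial (Fin 3) k) =
          ∑ l, MvPolynomial.C (M i j * N j l) * MvPolynomial.X l by
      rw [map_mul, MvPolynomial.aeval_X, MvPolynomial.aeval_C, MvPolynomial.algebraMap_eq, Finset.mul_sum]
      exact Finset.sum_congr rfl fun l _ => by rw [MvPolynomial.C_mul, mul_assoc]), Finset.sum_comm]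
    rw [Finset.sum_congr rfl (fun l _ => show ∑ j, MvPolynomial.C (M i j * N j l) * MvPolynomial.X l =
        (if i = l then MvPolynomial.X l else (0 : MvPolynomial (Fin 3) k)) by
      rw [← Finset.sum_mul, ← map_sum, ← Matrix.mul_apply, hMN, Matrix.one_apply]
      split_ifs <;> simp)]
    simp
  have hτσ : ∀ p, τ (σ p) = p := hcomp B B⁻¹ (Matrix.mul_nonsing_inv B hBu)
  have hστ : ∀ p, σ (τ p) = p := hcomp B⁻¹ B (Matrix.nonsing_inv_mul B hBu)
  have hψσ : ∀ p, ψ (σ p) = ψ' p := by
    intro p
    rw [MvPolynomial.comp_aeval_apply, hψ']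
    congr 2
    funext i
    simp only [hψ, map_sum, map_mul, MvPolynomial.aeval_X, MvPolynomial.aeval_C, Fin.sum_univ_three,
      Polynomial.algebraMap_apply, hφ]
    fin_cases i
    · simp [hB, ← hwe]; ring
    · simp [hB]
    · simp [hB, hv]; ring
  -- the form
  let G : MvPolynomial (Fin 3) k := ∑ m ∈ Finset.range (d + 1), ∑ i ∈ Finset.range (d + 1 - m),
    MvPolynomial.C ((g.coeff m).coeff i) *
      (MvPolynomial.X 0 ^ m * (MvPolynomial.X 1 ^ (d - m - i) * MvPolynomial.X 2 ^ i))
  have hGhom : G.IsHomogeneous d := by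
    refine MvPolynomial.IsHomogeneous.sum _ _ _ fun m hm => MvPolynomial.IsHomogeneous.sum _ _ _ fun i hi => ?_
    rw [Finset.mem_range] at hm hi
    have h := (MvPolynomial.isHomogeneous_C (Fin 3) ((g.coeff m).coeff i)).mul
      ((MvPolynomial.isHomogeneous_X_pow (R := k) (0 : Fin 3) m).mul
        ((MvPolynomial.isHomogeneous_X_pow (R := k) (1 : Fin 3) (d - m - i)).mul
          (MvPolynomial.isHomogeneous_X_pow (R := k) (2 : Fin 3) i)))
    convert h using 1
    omega
  have hrow : ∀ m, m ≤ d → (g.coeff m).natDegree < d + 1 - m := fun m hm => by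
    by_contra h
    rcases eq_or_ne (g.coeff m) 0 with h0 | h0
    · simp [h0] at h; omega
    · exact h0 (Polynomial.leadingCoeff_eq_zero.1 (hgb m _ (by omega)))
  have hψG : ψ' G = 0 := by
    have hθ : Polynomial.C (Plane.theta (k := k) v w g) * (Polynomial.X : Polynomial K) ^ d = 0 := by simp [hgθ]
    rw [Plane.theta, Polynomial.coe_eval₂RingHom, Polynomial.eval₂_eq_sum_range, hgd, map_sum,
      Finset.sum_mul] at hθ
    rw [map_sum, ← hθ]
    refine Finset.sum_congr rfl fun m hm => ?_
    rw [Finset.mem_range] at hm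
    rw [map_sum, AlgHom.toRingHom_eq_coe, RingHom.coe_coe, Polynomial.aeval_eq_sum_range' (hrow m (by omega)),
      Finset.sum_mul, map_sum, Finset.sum_mul]
    refine Finset.sum_congr rfl fun i hi => ?_
    rw [Finset.mem_range] at hi
    simp only [hψ', map_mul, map_pow, MvPolynomial.aeval_C, MvPolynomial.aeval_X, Matrix.cons_val_zero,
      Matrix.cons_val_one, Matrix.cons_val, Polynomial.algebraMap_apply, Algebra.smul_def, mul_pow, map_one]
    have hp : (Polynomial.X : Polynomial K) ^ d =
        Polynomial.X ^ m * Polynomial.X ^ (d - m - i) * Polynomial.X ^ i := by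
      rw [← pow_add, ← pow_add]; congr 1; omega
    rw [hp]; ring
  set E := MvPolynomial.finSuccEquiv k 2 with hE
  have hEG : (E G).Monic ∧ (E G).natDegree = d := by
    have hco : ∀ m, (E G).coeff m = if m ≤ d then ∑ i ∈ Finset.range (d + 1 - m),
        MvPolynomial.C ((g.coeff m).coeff i) * (MvPolynomial.X 0 ^ (d - m - i) * MvPolynomial.X 1 ^ i) else 0 := by
      intro m
      have hterm0 : ∀ (s : k) (n a i : ℕ), E (MvPolynomial.C s *
          (MvPolynomial.X 0 ^ n * (MvPolynomial.X 1 ^ a * MvPolynomial.X 2 ^ i))) =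
          Polynomial.C (MvPolynomial.C s * (MvPolynomial.X 0 ^ a * MvPolynomial.X 1 ^ i)) * Polynomial.X ^ n := by
        intro s n a i
        have e1 : E (MvPolynomial.X (1 : Fin 3)) = Polynomial.C (MvPolynomial.X 0) :=
          MvPolynomial.finSuccEquiv_X_succ (j := (0 : Fin 2))
        have e2 : E (MvPolynomial.X (2 : Fin 3)) = Polynomial.C (MvPolynomial.X 1) :=
          MvPolynomial.finSuccEquiv_X_succ (j := (1 : Fin 2))
        have e3 : E (MvPolynomial.C s) = Polynomial.C (MvPolynomial.C s) := by
          simp [hE, MvPolynomial.finSuccEquiv_apply]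
        rw [map_mul, map_mul, map_mul, map_pow, map_pow, map_pow, e1, e2, e3, hE,
          MvPolynomial.finSuccEquiv_X_zero, map_mul, map_mul, map_pow, map_pow]
        ring
      simp only [G, map_sum, hterm0, Polynomial.finsetSum_coeff, Polynomial.coeff_C_mul_X_pow]
      rw [Finset.sum_eq_single m]
      · simp only [↓reduceIte]
        split_ifs with hm
        · exact Finset.sum_congr rfl fun i _ => by simp
        · exact Finset.sum_eq_zero fun i hi => by simp at hi; omega
      · intro n _ hn
        exact Finset.sum_eq_zero fun i _ => by simp [Ne.symm hn]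
      · intro hm
        exact Finset.sum_eq_zero fun i hi => by simp at hi hm; omega
    have htop : (E G).coeff d = 1 := by
      rw [hco, if_pos le_rfl, show d + 1 - d = 1 by omega, Finset.sum_range_one,
        show (g.coeff d) = 1 from hgd ▸ hgm.coeff_natDegree]
      simp
    have hle : (E G).natDegree ≤ d := Polynomial.natDegree_le_iff_coeff_eq_zero.2 fun m hm => by
      rw [hco, if_neg (by omega)]
    exact ⟨Polynomial.monic_of_natDegree_le_of_coeff_eq_one d hle htop,
      le_antisymm hle (Polynomial.le_natDegree_of_ne_zero (by rw [htop]; exact one_ne_zero))⟩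
  have hker : ∀ p, ψ' p = 0 → G ∣ p := by
    intro p hp
    suffices h0 : E p %ₘ E G = 0 by
      obtain ⟨q, hq⟩ := (Polynomial.modByMonic_eq_zero_iff_dvd hEG.1).1 h0
      exact ⟨E.symm q, E.injective (by rw [map_mul, AlgEquiv.apply_symm_apply, hq])⟩
    set r := E p %ₘ E G with hr
    have hr0 : ψ' (E.symm r) = 0 := by
      have h := congrArg (fun q => ψ' (E.symm q)) (Polynomial.modByMonic_add_div (E p) (E G))
      simpa [map_add, map_mul, hψG, hp, ← hr] using h
    have hrd : ∀ m, d ≤ m → r.coeff m = 0 := fun m hm => by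
      refine Polynomial.coeff_eq_zero_of_degree_lt ((Polynomial.degree_modByMonic_lt _ hEG.1).trans_le ?_)
      rw [Polynomial.degree_eq_natDegree hEG.1.ne_zero, hEG.2]
      exact_mod_cast hm
    let η : Polynomial (Polynomial k) →+* Polynomial K := Polynomial.mapRingHom (Polynomial.aeval v).toRingHom
    have hr' : r = ∑ m ∈ Finset.range d, Polynomial.C (r.coeff m) * Polynomial.X ^ m := by
      ext m : 1
      simp only [Polynomial.finsetSum_coeff, Polynomial.coeff_C_mul_X_pow, Finset.sum_ite_eq, Finset.mem_range]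
      split_ifs with hm
      · rfl
      · exact hrd m (by omega)
    have hterm : ∀ (q : MvPolynomial (Fin 2) k) (m : ℕ),
        ψ' (E.symm (Polynomial.C q * Polynomial.X ^ m)) =
          η (coneMap k q) * (Polynomial.C w * Polynomial.X) ^ m := by
      intro q m
      induction q using MvPolynomial.induction_on with
      | C s =>
        rw [show Polynomial.C (MvPolynomial.C s) * Polynomial.X ^ m = E (MvPolynomial.C s * MvPolynomial.X 0 ^ m) by
          simp [hE, MvPolynomial.finSuccEquiv_apply], AlgEquiv.symm_apply_apply]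
        simp [hψ', η, coneMap, Polynomial.algebraMap_apply]
      | add q q' hq hq' => simp only [map_add, add_mul, hq, hq']
      | mul_X q i hq =>
        rw [show Polynomial.C (q * MvPolynomial.X i) * Polynomial.X ^ m =
          E (MvPolynomial.X i.succ) * (Polynomial.C q * Polynomial.X ^ m) by
            rw [hE, MvPolynomial.finSuccEquiv_X_succ, map_mul]; ring, map_mul, AlgEquiv.symm_apply_apply,
          map_mul, hq]
        have hX : ψ' (MvPolynomial.X i.succ) = η (coneMap k (MvPolynomial.X i)) := by
          rw [hψ', MvPolynomial.aeval_X, coneMap, MvPolynomial.aeval_X]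
          fin_cases i <;> simp [η]
        rw [hX, map_mul (coneMap k), map_mul η]
        ring
    rw [hr', map_sum, map_sum] at hr0
    have hzero : ∀ m < d, r.coeff m = 0 := by
      intro m hm
      refine (injective_iff_map_eq_zero (coneMap k)).1 coneMap_injective _ (Polynomial.ext fun n => ?_)
      have key := hc.indep (fun b => if b ≤ n + m then ((coneMap k (r.coeff b)).coeff (n + m - b)) else 0) (by
        have h := congrArg (fun q : Polynomial K => q.coeff (n + m)) hr0
        simp only [hterm, mul_pow, ← map_pow, Polynomial.finsetSum_coeff, ← mul_assoc,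
          Polynomial.coeff_mul_X_pow', Polynomial.coeff_mul_C, Polynomial.coeff_zero] at h
        refine (Finset.sum_congr rfl fun b _ => ?_).trans h
        split_ifs
        · simp [η, Polynomial.coeff_map]
        · simp) m hm
      simpa using key
    rw [hr']
    exact Finset.sum_eq_zero fun m hm => by rw [hzero m (Finset.mem_range.1 hm), map_zero, zero_mul]
  -- the generator
  have hspan : RingHom.ker ψ = Ideal.span {σ G} := by
    ext p
    rw [RingHom.mem_ker, Ideal.mem_span_singleton]
    constructor
    · intro hp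
      obtain ⟨q, hq⟩ := hker (τ p) (by rw [← hψσ, hστ, hp])
      exact ⟨σ q, by rw [← map_mul, ← hq, hστ]⟩
    · rintro ⟨q, rfl⟩
      rw [map_mul, hψσ, hψG, zero_mul]
  have hG0 : G ≠ 0 := fun h => hEG.1.ne_zero (by rw [h, map_zero])
  have hσ0 : σ G ≠ 0 := fun h => hG0 (by rw [← hτσ G, h, map_zero])
  have hσhom : (σ G).IsHomogeneous d := by
    have h1 : ∀ i, (∑ j, MvPolynomial.C (B i j) * MvPolynomial.X j : MvPolynomial (Fin 3) k).IsHomogeneous 1 :=
      fun i => MvPolynomial.IsHomogeneous.sum _ _ _ fun j _ => MvPolynomial.isHomogeneous_C_mul_X _ _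
    exact (one_mul d) ▸ hGhom.aeval _ h1
  refine ⟨σ G, ?_, ?_, hspan⟩
  · have hp : (RingHom.ker ψ).IsPrime := RingHom.ker_isPrime ψ
    rw [hspan] at hp
    exact ((Ideal.span_singleton_prime hσ0).1 hp).irreducible
  · rwa [hσhom.totalDegree hσ0]

end Groth.Agent.FFWr
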