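import Groth.Agent.FFWr.Jacobian
import Groth.Agent.FFWr.PlaneKer
import Mathlib.LinearAlgebra.Matrix.Rank

/-! Jacobian criterion through the matrix of partial derivatives. -/

set_option autoImplicit false
set_option linter.style.haveILetI false
set_option linter.unusedSectionVars false

open FunFld WithZero Groth.Agent.FF Groth.Agent.FFEmb Groth.Agent.FFEmb.Map

namespace Groth.Agent.FFWr

variable {k K : Type*} [Field k] [IsAlgClosed k] [Field K] [Algebra k K]

lemma aeval_cone_eq_zero_iff {σ : Type*} (φ : σ → K) {c : K} (hc : c ≠ 0) (F : MvPolynomial σ k) :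
    MvPolynomial.aeval (R := k) (fun i => Polynomial.C (φ i / c) * Polynomial.X) F = 0 ↔
      MvPolynomial.aeval (R := k) (fun i => Polynomial.C (φ i) * Polynomial.X) F = 0 := by
  let e : Polynomial K →ₐ[k] Polynomial K :=
    (Polynomial.aeval (Polynomial.C c * Polynomial.X)).restrictScalars k
  have h1 : e (MvPolynomial.aeval (R := k) (fun i => Polynomial.C (φ i / c) * Polynomial.X) F) =
      MvPolynomial.aeval (R := k) (fun i => Polynomial.C (φ i) * Polynomial.X) F := by
    rw [MvPolynomial.comp_aeval_apply]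
    congr 2
    funext i
    simp only [e, map_mul, AlgHom.coe_restrictScalars', Polynomial.aeval_C, Polynomial.aeval_X,
      Polynomial.algebraMap_eq]
    rw [← mul_assoc, ← map_mul, div_mul_cancel₀ _ hc]
  have hinj : Function.Injective e := by
    intro p q h
    have h' := congrArg (Polynomial.aeval (R := K) (Polynomial.C c⁻¹ * Polynomial.X : Polynomial K)) h
    simp only [e, AlgHom.coe_restrictScalars', ← Polynomial.aeval_algHom_apply, map_mul, Polynomial.aeval_C,
      Polynomial.aeval_X, Polynomial.algebraMap_eq] at h'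
    rw [← mul_assoc, ← map_mul, mul_inv_cancel₀ hc, map_one, one_mul] at h'
    simpa using h'
  rw [← h1]
  exact (map_eq_zero_iff e hinj).symm

/-- every equation of `φ / φ j` agrees to first order, off the direction `j`, with a form vanishing on `φ` -/
lemma exists_form {n : ℕ} (φ : Fin (n + 1) → K) (j : Fin (n + 1)) (hj0 : φ j ≠ 0) (a : Fin (n + 1) → k)
    (ha : a j = 1) (F : MvPolynomial (Fin (n + 1)) k) (hF : MvPolynomial.aeval (fun i => φ i / φ j) F = 0) :
    ∃ G : MvPolynomial (Fin (n + 1)) k,
      MvPolynomial.aeval (R := k) (fun i => Polynomial.C (φ i) * Polynomial.X) G = 0 ∧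
      ∀ i, i ≠ j → grad a F i = grad a G i := by
  classical
  set d := F.totalDegree
  refine ⟨∑ m ∈ F.support, MvPolynomial.monomial (m + Finsupp.single j (d - m.degree)) (F.coeff m), ?_,
    fun i hij => ?_⟩
  · rw [← aeval_cone_eq_zero_iff φ hj0, map_sum]
    have hterm : ∀ m ∈ F.support, MvPolynomial.aeval (R := k) (fun i => Polynomial.C (φ i / φ j) * Polynomial.X)
        (MvPolynomial.monomial (m + Finsupp.single j (d - m.degree)) (F.coeff m)) =
        Polynomial.C (MvPolynomial.aeval (fun i => φ i / φ j) (MvPolynomial.monomial m (F.coeff m))) *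
          Polynomial.X ^ d := by
      intro m hm
      have hd : m.degree ≤ d := by
        rw [Finsupp.degree_apply]; exact MvPolynomial.le_totalDegree hm
      rw [MvPolynomial.aeval_monomial, MvPolynomial.aeval_monomial, Finsupp.prod_fintype _ _ (fun i => pow_zero _),
        Finsupp.prod_fintype _ _ (fun i => pow_zero _), map_mul, Polynomial.algebraMap_apply, map_prod]
      simp only [Finsupp.add_apply, mul_pow, Finset.prod_mul_distrib, Finset.prod_pow_eq_pow_sum,
        Finset.sum_add_distrib, Finsupp.univ_sum_single_apply, ← map_pow, ← map_prod, pow_add]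
      rw [show ∏ i, (φ i / φ j) ^ (Finsupp.single j (d - m.degree)) i = 1 from
        Finset.prod_eq_one fun i _ => by
          rw [Finsupp.single_apply]; split_ifs with h
          · rw [← h, div_self hj0, one_pow]
          · exact pow_zero _]
      rw [map_one, one_mul, mul_assoc, mul_assoc, ← pow_add, show (∑ i, m i) + (d - m.degree) = d by
        rw [Finsupp.degree_eq_sum] at hd ⊢; omega]
    rw [Finset.sum_congr rfl hterm, ← Finset.sum_mul, ← map_sum, ← map_sum, ← F.as_sum, hF, map_zero, zero_mul]
  · conv_lhs => rw [F.as_sum]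
    simp only [map_sum, Finset.sum_apply]
    refine Finset.sum_congr rfl fun m _ => ?_
    simp only [grad_apply, MvPolynomial.pderiv_monomial, MvPolynomial.aeval_monomial,
      Finsupp.prod_fintype _ _ (fun i => pow_zero _)]
    congr 1
    · simp [Finsupp.single_eq_of_ne hij, Finsupp.tsub_apply]
    · refine Finset.prod_congr rfl fun l _ => ?_
      rcases eq_or_ne l j with rfl | h
      · rw [ha, one_pow, one_pow]
      · simp [Finsupp.single_eq_of_ne h]

lemma grad_mul_ker {n : ℕ} (φ : Fin (n + 1) → K) (j : Fin (n + 1)) (hj0 : φ j ≠ 0) (a : Fin (n + 1) → k)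
    (G : MvPolynomial (Fin (n + 1)) k)
    (hG : MvPolynomial.aeval (R := k) (fun i => Polynomial.C (φ i) * Polynomial.X) G = 0) :
    grad a G ∈ tangentEqs φ j a := by
  refine ⟨G, ?_, rfl⟩
  have h := (aeval_cone_eq_zero_iff φ hj0 G).2 hG
  have h2 := congrArg (Polynomial.evalRingHom (1 : K)) h
  rw [map_zero] at h2
  show MvPolynomial.aeval (fun i => φ i / φ j) G = 0
  refine Eq.trans ?_ h2
  rw [MvPolynomial.aeval_def, MvPolynomial.aeval_def, MvPolynomial.hom_eval₂]
  congr 1
  · ext c; simp
  · funext i; simp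

lemma single_mem_tangentEqs {n : ℕ} (φ : Fin (n + 1) → K) (j : Fin (n + 1)) (hj0 : φ j ≠ 0)
    (a : Fin (n + 1) → k) : (Pi.single j 1 : Fin (n + 1) → k) ∈ tangentEqs φ j a := by
  refine ⟨MvPolynomial.X j - 1, ?_, ?_⟩
  · show MvPolynomial.aeval (fun i => φ i / φ j) _ = 0
    simp [hj0]
  · rw [map_sub, grad_X, ← MvPolynomial.C_1, grad_C, sub_zero]

lemma eval_grad_mul {n : ℕ} (a : Fin (n + 1) → k) (g f : MvPolynomial (Fin (n + 1)) k)
    (hf : MvPolynomial.aeval a f = 0) : grad a (g * f) = MvPolynomial.aeval a g • grad a f := by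
  rw [grad_mul, hf, zero_smul, zero_add]

lemma eval_eq_zero_of_cone {n : ℕ} {φ : Fin (n + 1) → K} (j : Fin (n + 1)) (hj0 : φ j ≠ 0) (P : Place k K)
    (a : Fin (n + 1) → k) (ha : ∀ i, P.1 (φ i / φ j - algebraMap k K (a i)) < 1)
    (hle : ∀ i, P.1 (φ i / φ j) ≤ 1)
    (G : MvPolynomial (Fin (n + 1)) k)
    (hG : MvPolynomial.aeval (R := k) (fun i => Polynomial.C (φ i) * Polynomial.X) G = 0) :
    MvPolynomial.aeval a G = 0 := by
  have h0 : MvPolynomial.aeval (fun i => φ i / φ j) G = 0 := by
    have h := (aeval_cone_eq_zero_iff φ hj0 G).2 hG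
    have h2 := congrArg (Polynomial.evalRingHom (1 : K)) h
    rw [map_zero] at h2
    refine Eq.trans ?_ h2
    rw [MvPolynomial.aeval_def, MvPolynomial.aeval_def, MvPolynomial.hom_eval₂]
    congr 1
    · ext c; simp
    · funext i; simp
  have key : ∀ F : MvPolynomial (Fin (n + 1)) k, P.1 (MvPolynomial.aeval (fun i => φ i / φ j) F) ≤ 1 ∧
      P.1 (MvPolynomial.aeval (fun i => φ i / φ j) F - algebraMap k K (MvPolynomial.aeval a F)) < 1 := by
    intro F
    induction F using MvPolynomial.induction_on with
    | C c =>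
      rw [MvPolynomial.aeval_C, MvPolynomial.aeval_C, ← IsScalarTower.algebraMap_apply, sub_self, map_zero]
      exact ⟨P.2.1 c, zero_lt_one⟩
    | add F G hF hG =>
      refine ⟨by rw [map_add]; exact Valuation.map_add_le _ hF.1 hG.1, ?_⟩
      rw [map_add, map_add, map_add, add_sub_add_comm]
      exact lt_of_le_of_lt (P.1.map_add _ _) (max_lt hF.2 hG.2)
    | mul_X F i hF =>
      refine ⟨by rw [map_mul, MvPolynomial.aeval_X, map_mul]; exact mul_le_one' hF.1 (hle i), ?_⟩
      rw [map_mul, map_mul, MvPolynomial.aeval_X, MvPolynomial.aeval_X]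
      set u := MvPolynomial.aeval (fun i => φ i / φ j) F with hu
      rw [map_mul, show u * (φ i / φ j) - algebraMap k K (MvPolynomial.aeval a F) * algebraMap k K (a i) =
        (u - algebraMap k K (MvPolynomial.aeval a F)) * (φ i / φ j) +
          algebraMap k K (MvPolynomial.aeval a F) * (φ i / φ j - algebraMap k K (a i)) by ring]
      refine lt_of_le_of_lt (P.1.map_add _ _) (max_lt ?_ ?_)
      · rw [map_mul]; exact lt_of_le_of_lt (mul_le_of_le_one_right zero_le (hle i)) hF.2
      · rw [map_mul]; exact lt_of_le_of_lt (mul_le_of_le_one_left zero_le (P.2.1 _)) (ha i)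
  by_contra hne
  have h := (key G).2
  rw [h0, zero_sub, Valuation.map_neg, val_const P hne] at h
  exact lt_irrefl _ h

lemma rank_map_bijective {F : Type*} [Field F] {r n : ℕ} (A : Matrix (Fin r) (Fin n) k) (ι : k →+* F)
    (hι : Function.Bijective ι) : (A.map ι).rank = A.rank := by
  let j0 : (Fin r → k) ≃+ (Fin r → F) := AddEquiv.piCongrRight fun _ => (RingEquiv.ofBijective ι hι).toAddEquiv
  have hj : ∀ z, j0 z = ι ∘ z := fun z => rfl
  have hmul : ∀ v : Fin n → k, j0 (A.mulVec v) = (A.map ι).mulVec (ι ∘ v) := fun v => by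
    funext i; rw [hj]; exact RingHom.map_mulVec ι A v i
  let j : LinearMap.range A.mulVecLin ≃+ LinearMap.range (A.map ι).mulVecLin :=
    { toFun := fun z => ⟨j0 z.1, by
        obtain ⟨v, hv⟩ := z.2
        exact ⟨ι ∘ v, by rw [← hv]; exact (hmul v).symm⟩⟩
      invFun := fun z => ⟨j0.symm z.1, by
        obtain ⟨w, hw⟩ := z.2
        obtain ⟨v, rfl⟩ := hι.2.comp_left (α := Fin n) w
        exact ⟨v, by rw [← hw]; apply j0.injective; rw [AddEquiv.apply_symm_apply]; exact hmul v⟩⟩
      left_inv := fun z => Subtype.ext (j0.symm_apply_apply _)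
      right_inv := fun z => Subtype.ext (j0.apply_symm_apply _)
      map_add' := fun x y => Subtype.ext (map_add j0 _ _) }
  have h := lift_rank_eq_of_equiv_equiv ι j hι fun c z => Subtype.ext (funext fun i => map_mul ι c _)
  exact (by simpa [Matrix.rank, Module.finrank] using (congrArg Cardinal.toNat h).symm)

variable (hK : IsFunctionField k K)
include hK

theorem nonsingular_iff_rank {n : ℕ} (hn : 1 ≤ n) {φ : Fin (n + 1) → K} (hφ : LinearIndependent k φ)
    (hbir : IntermediateField.adjoin k (Set.range fun i => φ i / φ 0) = ⊤)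
    (P : Place k K) (hP : ∀ i, P.1 (φ i) ≤ P.1 (φ 0)) {r : ℕ}
    (f : Fin r → MvPolynomial (Fin (n + 1)) k)
    (hgen : Ideal.span (Set.range f) =
      RingHom.ker (MvPolynomial.aeval fun i => Polynomial.C (φ i) * Polynomial.X))
    (M : Matrix (Fin r) (Fin n) P.O)
    (hM : ∀ i j, ((M i j : P.O) : K) =
      MvPolynomial.aeval (fun l => φ l / φ 0) (MvPolynomial.pderiv j.succ (f i))) :
    IsNonsingularAt φ P ↔ (M.map (IsLocalRing.residue P.O)).rank = n - 1 := by
  classical
  have hj0 := hφ.ne_zero 0
  have hle : ∀ i, P.1 (φ i / φ 0) ≤ 1 := fun i => by rw [map_div₀]; exact div_le_one_of_le₀ (hP i) zero_le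
  choose a ha using fun i => exists_residue hK P (hle i)
  have ha0 : a 0 = 1 := by
    by_contra h
    have h' := ha 0
    rw [div_self hj0, ← map_one (algebraMap k K), ← map_sub, val_const P (sub_ne_zero.2 (Ne.symm h))] at h'
    exact lt_irrefl _ h'
  obtain ⟨hcore, hiff⟩ := jacobian_core hK hn hφ hbir P 0 hP a ha
  rw [hiff]
  set T := tangentEqs φ 0 a with hT
  have hker : ∀ i, MvPolynomial.aeval (R := k) (fun i => Polynomial.C (φ i) * Polynomial.X) (f i) = 0 := fun i =>
    RingHom.mem_ker.1 (hgen ▸ Ideal.subset_span ⟨i, rfl⟩)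
  let pr : (Fin (n + 1) → k) →ₗ[k] (Fin n → k) := LinearMap.funLeft k k Fin.succ
  set J := T.map pr with hJ
  have hJspan : J = Submodule.span k (Set.range fun i => pr (grad a (f i))) := by
    apply le_antisymm
    · rintro _ ⟨g, ⟨F, hF, rfl⟩, rfl⟩
      obtain ⟨G, hG, hFG⟩ := exists_form φ 0 hj0 a ha0 F hF
      rw [show pr (grad a F) = pr (grad a G) from funext fun l => hFG _ (Fin.succ_ne_zero l)]
      have hG' : G ∈ Ideal.span (Set.range f) := hgen.symm ▸ RingHom.mem_ker.2 hG
      obtain ⟨c, hc⟩ := Ideal.mem_span_range_iff_exists_fun.1 hG'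
      rw [← hc, map_sum, map_sum]
      refine sum_mem fun i _ => ?_
      rw [eval_grad_mul a (c i) (f i) (eval_eq_zero_of_cone 0 hj0 P a ha hle _ (hker i)), map_smul]
      exact Submodule.smul_mem _ _ (Submodule.subset_span ⟨i, rfl⟩)
    · rw [Submodule.span_le]
      rintro _ ⟨i, rfl⟩
      exact ⟨_, grad_mul_ker φ 0 hj0 a (f i) (hker i), rfl⟩
  have hkerpr : LinearMap.ker (pr.domRestrict T) =
      Submodule.span k {(⟨Pi.single 0 1, single_mem_tangentEqs φ 0 hj0 a⟩ : T)} := by
    ext ⟨g, hg⟩
    rw [LinearMap.mem_ker, Submodule.mem_span_singleton]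
    constructor
    · intro h
      refine ⟨g 0, Subtype.ext (funext fun i => ?_)⟩
      rcases Fin.eq_zero_or_eq_succ i with rfl | ⟨l, rfl⟩
      · simp
      · simpa [pr, LinearMap.funLeft, Fin.succ_ne_zero] using (congrFun h l).symm
    · rintro ⟨c, hc⟩
      rw [← hc, map_smul]
      refine smul_eq_zero_of_right c (funext fun l => ?_)
      simp [pr, LinearMap.funLeft, Fin.succ_ne_zero]
  have hdim : Module.finrank k T = Module.finrank k J + 1 := by
    have h := LinearMap.finrank_range_add_finrank_ker (pr.domRestrict T)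
    rw [LinearMap.range_domRestrict, hkerpr, finrank_span_singleton (by
      intro h0; exact one_ne_zero (α := k) (by simpa [-Pi.single_eq_zero_iff] using congrFun (congrArg Subtype.val h0) 0)), ← hJ] at h
    omega
  let ι : k →+* IsLocalRing.ResidueField P.O := (IsLocalRing.residue P.O).comp
    ((algebraMap k K).codRestrict P.O.toSubring fun c => (mem_O P).2 (P.2.1 c))
  let Mv : Matrix (Fin r) (Fin n) k := Matrix.of fun i l => pr (grad a (f i)) l
  have hMv : M.map (IsLocalRing.residue P.O) = Mv.map ι := by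
    ext i l
    show IsLocalRing.residue P.O (M i l) = ι _
    simp only [ι, RingHom.comp_apply]
    rw [← sub_eq_zero, ← map_sub, IsLocalRing.residue_eq_zero_iff, mem_maximalIdeal P]
    show P.1 ((M i l : K) - algebraMap k K (pr (grad a (f i)) l)) < 1
    rw [hM]
    have key : ∀ F : MvPolynomial (Fin (n + 1)) k,
        P.1 (MvPolynomial.aeval (fun l => φ l / φ 0) F - algebraMap k K (MvPolynomial.aeval a F)) < 1 ∧
        P.1 (MvPolynomial.aeval (fun l => φ l / φ 0) F) ≤ 1 := by
      intro F
      induction F using MvPolynomial.induction_on with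
      | C c =>
        rw [MvPolynomial.aeval_C, MvPolynomial.aeval_C, ← IsScalarTower.algebraMap_apply, sub_self, map_zero]
        exact ⟨zero_lt_one, P.2.1 c⟩
      | add F G hF hG =>
        refine ⟨?_, by rw [map_add]; exact Valuation.map_add_le _ hF.2 hG.2⟩
        rw [map_add, map_add, map_add, add_sub_add_comm]
        exact lt_of_le_of_lt (P.1.map_add _ _) (max_lt hF.1 hG.1)
      | mul_X F i hF =>
        rw [map_mul, map_mul, MvPolynomial.aeval_X, MvPolynomial.aeval_X]
        refine ⟨?_, by rw [map_mul]; exact mul_le_one' hF.2 (hle i)⟩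
        set u := MvPolynomial.aeval (fun l => φ l / φ 0) F with hu
        rw [map_mul, show u * (φ i / φ 0) - algebraMap k K (MvPolynomial.aeval a F) * algebraMap k K (a i) =
          (u - algebraMap k K (MvPolynomial.aeval a F)) * (φ i / φ 0) +
            algebraMap k K (MvPolynomial.aeval a F) * (φ i / φ 0 - algebraMap k K (a i)) by ring]
        refine lt_of_le_of_lt (P.1.map_add _ _) (max_lt ?_ ?_)
        · rw [map_mul]; exact lt_of_le_of_lt (mul_le_of_le_one_right zero_le (hle i)) hF.1
        · rw [map_mul]; exact lt_of_le_of_lt (mul_le_of_le_one_left zero_le (P.2.1 _)) (ha i)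
    exact (key _).1
  have hιb : Function.Bijective ι := by
    refine ⟨ι.injective, fun y => ?_⟩
    obtain ⟨⟨z, hz⟩, rfl⟩ := IsLocalRing.residue_surjective y
    obtain ⟨c, hc⟩ := exists_residue hK P ((mem_O P).1 hz)
    refine ⟨c, ?_⟩
    simp only [ι, RingHom.comp_apply]
    rw [← sub_eq_zero, ← map_sub, IsLocalRing.residue_eq_zero_iff, mem_maximalIdeal P]
    show P.1 (algebraMap k K c - z) < 1
    rwa [← Valuation.map_sub_swap]
  have hrank : (Mv.map ι).rank = Mv.rank := rank_map_bijective Mv ι hιb
  rw [hMv, hrank, Matrix.rank_eq_finrank_span_row, hdim]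
  have hrow : Set.range Mv.row = Set.range fun i => pr (grad a (f i)) := rfl
  rw [hrow, ← hJspan]
  omega

theorem plane_singular_iff (φ : Fin 3 → K) (hφ : LinearIndependent k φ)
    (hbir : IntermediateField.adjoin k (Set.range fun i => φ i / φ 0) = ⊤)
    (f : MvPolynomial (Fin 3) k) (hf : Irreducible f) (hhom : f.IsHomogeneous f.totalDegree)
    (hfφ : MvPolynomial.aeval φ f = 0) (P : Place k K) (j : Fin 3)
    (hj : ∀ i, P.1 (φ i) ≤ P.1 (φ j)) (b : Fin 3 → P.O) (hb : ∀ i, ((b i : P.O) : K) = φ i / φ j) :
    ¬ IsNonsingularAt φ P ↔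
      ∀ l : Fin 3, MvPolynomial.aeval (fun i => IsLocalRing.residue P.O (b i))
        (MvPolynomial.pderiv l f) = 0 := by
  classical
  have hj0 := hφ.ne_zero j
  have hle : ∀ i, P.1 (φ i / φ j) ≤ 1 := fun i => by rw [map_div₀]; exact div_le_one_of_le₀ (hj i) zero_le
  choose a ha using fun i => exists_residue hK P (hle i)
  have haj : a j = 1 := by
    by_contra h
    have h' := ha j
    rw [div_self hj0, ← map_one (algebraMap k K), ← map_sub, val_const P (sub_ne_zero.2 (Ne.symm h))] at h'
    exact lt_irrefl _ h'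
  obtain ⟨hcore, hiff⟩ := jacobian_core hK (by norm_num : 1 ≤ 2) hφ hbir P j hj a ha
  -- `f` generates the equations
  have h00 := hφ.ne_zero 0
  have hxy : IntermediateField.adjoin k ({φ 1 / φ 0, φ 2 / φ 0} : Set K) = ⊤ := by
    refine eq_top_iff.2 (hbir ▸ IntermediateField.adjoin_le_iff.2 ?_)
    rintro _ ⟨i, rfl⟩
    fin_cases i
    · show φ 0 / φ 0 ∈ _
      rw [div_self h00]; exact one_mem _
    · exact IntermediateField.subset_adjoin k _ (by simp)
    · exact IntermediateField.subset_adjoin k _ (by simp)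
  obtain ⟨G, hGirr, -, hGker⟩ := ker_plane_eq_span hK _ _ hxy
  have hker : ∀ F, MvPolynomial.aeval (R := k) (fun i => Polynomial.C (φ i) * Polynomial.X) F = 0 ↔ G ∣ F := by
    intro F
    rw [← aeval_cone_eq_zero_iff φ h00, ← Ideal.mem_span_singleton, ← hGker, RingHom.mem_ker,
      show (fun i => Polynomial.C (φ i / φ 0) * Polynomial.X) =
        fun i => Polynomial.C (![(1 : K), φ 1 / φ 0, φ 2 / φ 0] i) * Polynomial.X from by
      funext i; fin_cases i <;> simp [h00]]
  have hfker : MvPolynomial.aeval (R := k) (fun i => Polynomial.C (φ i) * Polynomial.X) f = 0 := by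
    have : MvPolynomial.aeval (R := k) (fun i => Polynomial.C (φ i) * Polynomial.X) f =
        Polynomial.C (MvPolynomial.aeval φ f) * Polynomial.X ^ f.totalDegree := by
      conv_lhs => rw [f.as_sum]
      conv_rhs => arg 1; rw [f.as_sum]
      rw [map_sum, map_sum, map_sum, Finset.sum_mul]
      refine Finset.sum_congr rfl fun m hm => ?_
      have hd : ∑ i, m i = f.totalDegree := by
        have h := hhom (MvPolynomial.mem_support_iff.1 hm)
        simpa [Finsupp.weight_apply, Finsupp.sum_fintype] using h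
      rw [MvPolynomial.aeval_monomial, MvPolynomial.aeval_monomial, Finsupp.prod_fintype _ _ (fun i => pow_zero _),
        Finsupp.prod_fintype _ _ (fun i => pow_zero _), map_mul, Polynomial.algebraMap_apply, map_prod]
      simp only [mul_pow, Finset.prod_mul_distrib, Finset.prod_pow_eq_pow_sum, hd, map_pow]
      ring
    rw [this, hfφ, map_zero, zero_mul]
  have hdiv : ∀ F, MvPolynomial.aeval (R := k) (fun i => Polynomial.C (φ i) * Polynomial.X) F = 0 → f ∣ F :=
    fun F hF => (hGirr.associated_of_dvd hf ((hker f).1 hfker)).symm.dvd.trans ((hker F).1 hF)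
  have hfa : MvPolynomial.aeval a f = 0 := eval_eq_zero_of_cone j hj0 P a ha hle f hfker
  set T := tangentEqs φ j a with hT
  set g := grad a f with hg
  have hTeq : T = Submodule.span k {(Pi.single j 1 : Fin 3 → k), g} := by
    apply le_antisymm
    · rintro _ ⟨F, hF, rfl⟩
      obtain ⟨H, hH, hFH⟩ := exists_form φ j hj0 a haj F hF
      obtain ⟨q, rfl⟩ := hdiv H hH
      rw [mul_comm, eval_grad_mul a q f hfa] at hFH
      refine Submodule.mem_span_pair.2 ⟨grad a F j - MvPolynomial.aeval a q * g j, MvPolynomial.aeval a q,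
        funext fun i => ?_⟩
      rcases eq_or_ne i j with rfl | h
      · simp
      · simpa [Pi.single_eq_of_ne h] using (hFH i h).symm
    · rw [Submodule.span_le]
      rintro _ (rfl | rfl)
      · exact single_mem_tangentEqs φ j hj0 a
      · exact grad_mul_ker φ j hj0 a f hfker
  have heuler : ∑ i, a i * g i = 0 := by
    have h := congrArg (MvPolynomial.aeval a) hhom.sum_X_mul_pderiv
    rw [map_nsmul, hfa, smul_zero, map_sum] at h
    simpa [hg, grad_apply] using h
  have hzero : Module.finrank k T = 2 ↔ g ≠ 0 := by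
    constructor
    · intro h2 h0
      rw [hTeq, h0] at h2
      replace h2 : Module.finrank k (Submodule.span k ({(Pi.single j 1 : Fin 3 → k), (0 : Fin 3 → k)} : Set (Fin 3 → k))) = 2 := h2
      have h1 : Module.finrank k (Submodule.span k {(Pi.single j 1 : Fin 3 → k), (0 : Fin 3 → k)}) ≤ 1 := by
        rw [show ({(Pi.single j 1 : Fin 3 → k), (0 : Fin 3 → k)} : Set _) =
          insert (0 : Fin 3 → k) {(Pi.single j 1 : Fin 3 → k)} from Set.pair_comm _ _, Submodule.span_insert_zero]
        exact (finrank_span_le_card ({(Pi.single j 1 : Fin 3 → k)} : Set _)).trans (by simp)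
      omega
    · intro hg0
      have hli : LinearIndependent k ![(Pi.single j 1 : Fin 3 → k), g] := by
        rw [linearIndependent_fin2]
        refine ⟨by simpa using hg0, fun c hc => ?_⟩
        simp only [Matrix.cons_val_one, Matrix.cons_val_zero, Matrix.cons_val_fin_one] at hc
        have hi : ∀ i, i ≠ j → c = 0 ∨ g i = 0 := fun i h => by
          have := congrFun hc i
          simpa [Pi.single_eq_of_ne h] using this
        have hcj := congrFun hc j
        simp only [Pi.smul_apply, smul_eq_mul, Pi.single_eq_same] at hcj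
        have hc0 : c ≠ 0 := fun e => by rw [e, zero_mul] at hcj; exact zero_ne_one hcj
        rw [Finset.sum_eq_single j (fun i _ h => by rw [(hi i h).resolve_left hc0, mul_zero]) (by simp),
          haj, one_mul] at heuler
        rw [heuler, mul_zero] at hcj
        exact zero_ne_one hcj
      rw [hTeq, show ({(Pi.single j 1 : Fin 3 → k), g} : Set _) = Set.range ![(Pi.single j 1 : Fin 3 → k), g] by
        simp [Matrix.range_cons, Matrix.range_empty, Set.pair_comm], finrank_span_eq_card hli, Fintype.card_fin]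
  rw [hiff, hzero, not_not]
  let ι : k →+* IsLocalRing.ResidueField P.O := (IsLocalRing.residue P.O).comp
    ((algebraMap k K).codRestrict P.O.toSubring fun c => (mem_O P).2 (P.2.1 c))
  have hres : ∀ i, IsLocalRing.residue P.O (b i) = ι (a i) := fun i => by
    simp only [ι, RingHom.comp_apply]
    rw [← sub_eq_zero, ← map_sub, IsLocalRing.residue_eq_zero_iff, mem_maximalIdeal P]
    show P.1 ((b i : K) - algebraMap k K (a i)) < 1
    rw [hb]; exact ha i
  have hev : ∀ l, MvPolynomial.aeval (fun i => IsLocalRing.residue P.O (b i)) (MvPolynomial.pderiv l f) =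
      ι (g l) := fun l => by
    rw [hg, grad_apply, MvPolynomial.aeval_def, MvPolynomial.aeval_def, MvPolynomial.hom_eval₂]
    congr 1
    funext i; exact hres i
  simp only [hev, map_eq_zero_iff ι ι.injective]
  exact ⟨fun h l => by rw [h]; rfl, fun h => funext h⟩

end Groth.Agent.FFWr
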