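import Groth.Prelude.Def_W4bk4goldsch45p2
import Mathlib

/-! Jumps of a sequence of vectors, order sequences, triangular changes. -/

set_option autoImplicit false
set_option linter.style.haveILetI false
set_option linter.unusedSectionVars false

open FunFld Submodule

namespace Groth.Agent.FFWr

variable {K M : Type*} [Field K] [AddCommGroup M] [Module K M]

/-- span of the vectors with index `< m` -/
def W (K : Type*) {M : Type*} [Field K] [AddCommGroup M] [Module K M] (c : ℕ → M) (m : ℕ) :
    Submodule K M :=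
  span K (c '' Set.Iio m)

variable {c c' : ℕ → M}

lemma isJump_iff (j : ℕ) : IsJump K c j ↔ c j ∉ W K c j := Iff.rfl

lemma W_mono {m m' : ℕ} (h : m ≤ m') : W K c m ≤ W K c m' :=
  span_mono (Set.image_mono (Set.Iio_subset_Iio h))

lemma mem_W {i m : ℕ} (h : i < m) : c i ∈ W K c m := subset_span ⟨i, h, rfl⟩

@[simp] lemma W_zero : W K c 0 = ⊥ := by
  simp [W, Set.Iio]

lemma W_succ (m : ℕ) : W K c (m + 1) = W K c m ⊔ span K {c m} := by
  rw [W, W, ← span_union, ← Set.image_singleton (f := c) (a := m), ← Set.image_union]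
  congr 2
  ext i
  simp only [Set.mem_Iio, Set.mem_union, Set.mem_singleton_iff]
  omega

lemma isJump_zero_iff : IsJump K c 0 ↔ c 0 ≠ 0 := by
  rw [isJump_iff, W_zero, mem_bot]

/-- span of the jumps below `m` -/
lemma W_eq_span_jumps (m : ℕ) : W K c m = span K (c '' {j | j < m ∧ IsJump K c j}) := by
  refine le_antisymm ?_ (span_mono (Set.image_mono fun j hj => hj.1))
  rw [W, span_le]
  rintro _ ⟨i, hi, rfl⟩
  induction i using Nat.strong_induction_on with
  | _ i ih =>
    by_cases hJ : IsJump K c i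
    · exact subset_span ⟨i, ⟨hi, hJ⟩, rfl⟩
    · have h : c i ∈ W K c i := not_not.1 hJ
      refine span_le.2 ?_ h
      rintro _ ⟨l, hl, rfl⟩
      exact ih l hl (Set.mem_Iio.2 (lt_trans (Set.mem_Iio.1 hl) (Set.mem_Iio.1 hi)))

lemma linearIndepOn_jumps : LinearIndepOn K c {j | IsJump K c j} := by
  classical
  refine linearIndepOn_of_finite _ fun t ht hfin => ?_
  obtain ⟨s, rfl⟩ := hfin.exists_finset_coe
  induction s using Finset.induction_on_max with
  | empty => simp
  | insert a s ha ih =>
    rw [Finset.coe_insert] at ht ⊢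
    refine (ih ((Set.subset_insert _ _).trans ht) s.finite_toSet).insert fun hmem => ?_
    refine (ht (Set.mem_insert a _) : IsJump K c a) (span_mono (Set.image_mono ?_) hmem)
    exact fun x hx => ha x hx

lemma finite_jumps [FiniteDimensional K M] : {j | IsJump K c j}.Finite :=
  haveI : Finite {j | IsJump K c j} := LinearIndependent.finite (linearIndepOn_jumps (K := K) (c := c))
  Set.toFinite _

lemma exists_isJump_lt_of_notMem {x : M} {m : ℕ} (hx : x ∈ W K c m) (hx0 : x ≠ 0) :
    ∃ j < m, IsJump K c j := by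
  by_contra! h
  rw [W_eq_span_jumps, show {j | j < m ∧ IsJump K c j} = ∅ from
    Set.eq_empty_iff_forall_notMem.2 fun j hj => h j hj.1 hj.2] at hx
  simp at hx
  exact hx0 hx

/-! ### selected columns -/

/-- indices of the selected columns: the leading one and the shifted sequence -/
def sel {n : ℕ} (J : Fin n → ℕ) : Fin (n + 1) → ℕ := Fin.cases 0 (fun l => J l + 1)

@[simp] lemma sel_zero {n : ℕ} (J : Fin n → ℕ) : sel J 0 = 0 := rfl
@[simp] lemma sel_succ {n : ℕ} (J : Fin n → ℕ) (l : Fin n) : sel J l.succ = J l + 1 := by simp [sel]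

lemma sel_strictMono {n : ℕ} {J : Fin n → ℕ} (hJ : StrictMono J) : StrictMono (sel J) := by
  intro a b hab
  cases a using Fin.cases with
  | zero =>
    cases b using Fin.cases with
    | zero => exact absurd hab (lt_irrefl _)
    | succ b => simp
  | succ a =>
    cases b using Fin.cases with
    | zero => exact absurd hab (Fin.not_lt_zero _)
    | succ b => simpa using hJ (Fin.succ_lt_succ_iff.1 hab)

lemma range_sel_eq {n : ℕ} {J : Fin n → ℕ} (h0 : c 0 ≠ 0) (hJ : IsOrders K c J) :
    Set.range (sel J) = {j | IsJump K c j} := by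
  ext j
  constructor
  · rintro ⟨a, rfl⟩
    cases a using Fin.cases with
    | zero => exact isJump_zero_iff.2 h0
    | succ a =>
      show IsJump K c _
      rw [sel_succ]
      exact (hJ.2 _).1 ⟨a, rfl⟩
  · intro hj
    rcases j with _ | j
    · exact ⟨0, rfl⟩
    · obtain ⟨a, ha⟩ := (hJ.2 j).2 hj
      exact ⟨a.succ, by simp [ha]⟩

lemma isJump_sel {n : ℕ} {J : Fin n → ℕ} (h0 : c 0 ≠ 0) (hJ : IsOrders K c J) (a : Fin (n + 1)) :
    IsJump K c (sel J a) :=
  (range_sel_eq h0 hJ).le ⟨a, rfl⟩

lemma linearIndependent_sel {n : ℕ} {J : Fin n → ℕ} (h0 : c 0 ≠ 0) (hJ : IsOrders K c J) :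
    LinearIndependent K (fun a => c (sel J a)) := by
  have h : LinearIndependent K (fun j : {j | IsJump K c j} => c j) := linearIndepOn_jumps
  have := h.comp (fun a => (⟨sel J a, isJump_sel h0 hJ a⟩ : {j | IsJump K c j}))
    (fun a b hab => (sel_strictMono hJ.1).injective (congrArg Subtype.val hab))
  exact this

lemma W_le_span_sel {n : ℕ} {J : Fin n → ℕ} (h0 : c 0 ≠ 0) (hJ : IsOrders K c J) (a : Fin (n + 1)) :
    W K c (sel J a) ≤ span K ((fun b => c (sel J b)) '' Set.Iio a) := by
  rw [W_eq_span_jumps]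
  refine span_mono ?_
  rintro _ ⟨j, ⟨hj, hJj⟩, rfl⟩
  obtain ⟨b, rfl⟩ := (range_sel_eq h0 hJ).ge hJj
  exact ⟨b, (sel_strictMono hJ.1).lt_iff_lt.1 hj, rfl⟩

lemma finrank_W_le {n : ℕ} {J : Fin n → ℕ} (h0 : c 0 ≠ 0) (hJ : IsOrders K c J) (l : Fin n) (m : ℕ)
    (hm : m ≤ sel J l.succ) : Module.finrank K (W K c m) ≤ (l : ℕ) + 1 := by
  classical
  have h1 : W K c m ≤ span K ((fun b => c (sel J b)) '' Set.Iio l.succ) :=
    (W_mono hm).trans (W_le_span_sel h0 hJ _)
  let s : Finset M := (Finset.Iio l.succ).image fun b => c (sel J b)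
  have hs : (↑s : Set M) = (fun b => c (sel J b)) '' Set.Iio l.succ := by simp [s]
  rw [← hs] at h1
  refine (Submodule.finrank_mono h1).trans ((finrank_span_finset_le_card s).trans ?_)
  exact Finset.card_image_le.trans (by simp)

/-- minimality of the order sequence -/
lemma isOrders_le {n : ℕ} {J J' : Fin n → ℕ} (h0 : c 0 ≠ 0) (hJ : IsOrders K c J) (hJ' : StrictMono J')
    (hli : LinearIndependent K (fun a => c (sel J' a))) (l : Fin n) : J l ≤ J' l := by
  by_contra! h
  have hl := l.isLt
  have h1 := finrank_W_le h0 hJ l (J' l + 2) (by simp; omega)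
  have h2 : LinearIndependent K (fun b : Fin ((l : ℕ) + 2) => c (sel J' ⟨b, by omega⟩)) :=
    hli.comp (fun b : Fin ((l : ℕ) + 2) => (⟨b, by omega⟩ : Fin (n + 1))) (fun a b hab => Fin.ext (Fin.mk.inj hab))
  have h3 : Set.range (fun b : Fin ((l : ℕ) + 2) => c (sel J' ⟨b, by omega⟩)) ⊆ (W K c (J' l + 2) : Set M) := by
    rintro _ ⟨b, rfl⟩
    refine mem_W ?_
    have hb : (⟨(b : ℕ), by omega⟩ : Fin (n + 1)) ≤ l.succ := by
      show (b : ℕ) ≤ _; simp; omega
    have := (sel_strictMono hJ').monotone hb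
    rw [sel_succ] at this
    omega
  haveI : FiniteDimensional K (W K c (J' l + 2)) :=
    Module.Finite.span_of_finite K ((Set.finite_Iio _).image c)
  have h4 := Submodule.finrank_mono (span_le.2 h3)
  rw [finrank_span_eq_card h2, Fintype.card_fin] at h4
  omega

lemma isOrders_unique {n : ℕ} {J J' : Fin n → ℕ} (hJ : IsOrders K c J) (hJ' : IsOrders K c J') : J = J' := by
  refine hJ.1.range_inj hJ'.1 |>.1 ?_
  ext j
  rw [hJ.2, hJ'.2]

lemma exists_isOrders [FiniteDimensional K M] {n : ℕ} (hn : Module.finrank K M = n + 1)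
    (hspan : span K (Set.range c) = ⊤) (h0 : c 0 ≠ 0) : ∃ J : Fin n → ℕ, IsOrders K c J := by
  classical
  have hli : LinearIndependent K (fun j : {j | IsJump K c j} => c j) := linearIndepOn_jumps
  haveI : Fintype {j | IsJump K c j} := (finite_jumps (K := K) (c := c)).fintype
  have htop : (⊤ : Submodule K M) ≤ span K (Set.range fun j : {j | IsJump K c j} => c j) := by
    rw [← hspan, span_le]
    rintro _ ⟨i, rfl⟩
    have h1 : c i ∈ W K c (i + 1) := mem_W (Nat.lt_succ_self i)
    rw [W_eq_span_jumps] at h1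
    refine span_mono ?_ h1
    rintro _ ⟨j, hj, rfl⟩
    exact ⟨⟨j, hj.2⟩, rfl⟩
  have hcard : Fintype.card {j | IsJump K c j} = n + 1 := by
    rw [← Module.finrank_eq_card_basis (Module.Basis.mk hli htop), hn]
  let S : Finset ℕ := (finite_jumps (K := K) (c := c)).toFinset
  have hS : S.card = n + 1 := by
    rw [← hcard, ← Set.toFinset_card]
    congr 1
    ext j; simp [S]
  have h0S : 0 ∈ S := by simpa [S] using isJump_zero_iff.2 h0
  let T : Finset ℕ := (S.erase 0).image (fun j => j - 1)
  have hT : ∀ j, j ∈ T ↔ IsJump K c (j + 1) := by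
    intro j
    simp only [T, Finset.mem_image, Finset.mem_erase]
    constructor
    · rintro ⟨a, ⟨ha, haS⟩, rfl⟩
      rw [Nat.sub_add_cancel (Nat.one_le_iff_ne_zero.2 ha)]
      simpa [S] using haS
    · intro h
      exact ⟨j + 1, ⟨by omega, by simpa [S] using h⟩, rfl⟩
  have hTc : T.card = n := by
    rw [Finset.card_image_of_injOn, Finset.card_erase_of_mem h0S, hS]
    · rfl
    · intro a ha b hb hab
      simp only [Finset.coe_erase, Set.mem_sdiff, Set.mem_singleton_iff] at ha hb
      simp only at hab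
      omega
  refine ⟨T.orderEmbOfFin hTc, (T.orderEmbOfFin hTc).strictMono, fun j => ?_⟩
  rw [Finset.range_orderEmbOfFin, ← hT]
  rfl

/-! ### triangular changes -/

/-- `c'` is obtained from `c` by a triangular change with diagonal `a` -/
structure Tri (a : ℕ → K) (c c' : ℕ → M) : Prop where
  ne : ∀ j, a j ≠ 0
  sub : ∀ j, c' j - a j • c j ∈ W K c j

lemma Tri.W_eq {a : ℕ → K} (h : Tri a c c') (m : ℕ) : W K c' m = W K c m := by
  induction m with
  | zero => simp
  | succ m ih =>
    rw [W_succ, W_succ, ih]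
    refine le_antisymm (sup_le le_sup_left ?_) (sup_le le_sup_left ?_)
    · rw [span_singleton_le_iff_mem, show c' m = (c' m - a m • c m) + a m • c m by abel]
      exact add_mem (mem_sup_left (h.sub m)) (mem_sup_right (smul_mem _ _ (mem_span_singleton_self _)))
    · rw [span_singleton_le_iff_mem]
      have : a m • c m ∈ W K c m ⊔ span K {c' m} := by
        rw [show a m • c m = c' m - (c' m - a m • c m) by abel]
        exact sub_mem (mem_sup_right (mem_span_singleton_self _)) (mem_sup_left (h.sub m))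
      have h2 := smul_mem _ (a m)⁻¹ this
      rwa [smul_smul, inv_mul_cancel₀ (h.ne m), one_smul] at h2

lemma Tri.isJump_iff {a : ℕ → K} (h : Tri a c c') (j : ℕ) : IsJump K c' j ↔ IsJump K c j := by
  rw [FFWr.isJump_iff, FFWr.isJump_iff, h.W_eq, not_iff_not]
  constructor
  · intro hm
    have h1 : a j • c j ∈ W K c j := by
      rw [show a j • c j = c' j - (c' j - a j • c j) by abel]
      exact sub_mem hm (h.sub j)
    have h2 := smul_mem _ (a j)⁻¹ h1
    rwa [smul_smul, inv_mul_cancel₀ (h.ne j), one_smul] at h2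
  · intro hm
    rw [show c' j = (c' j - a j • c j) + a j • c j by abel]
    exact add_mem (h.sub j) (smul_mem _ _ hm)

lemma Tri.isOrders_iff {a : ℕ → K} (h : Tri a c c') {n : ℕ} (J : Fin n → ℕ) :
    IsOrders K c' J ↔ IsOrders K c J :=
  and_congr_right fun _ => forall_congr' fun j => by rw [h.isJump_iff]

/-- the square matrix of the selected columns -/
def selMat {n : ℕ} (c : ℕ → Fin (n + 1) → K) (J : Fin n → ℕ) : Matrix (Fin (n + 1)) (Fin (n + 1)) K :=
  Matrix.of fun i a => c (sel J a) i

lemma selMat_apply {n : ℕ} (c : ℕ → Fin (n + 1) → K) (J : Fin n → ℕ) (i a : Fin (n + 1)) :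
    selMat c J i a = c (sel J a) i := rfl

lemma det_selMat_ne_zero_iff {n : ℕ} (c : ℕ → Fin (n + 1) → K) (J : Fin n → ℕ) :
    (selMat c J).det ≠ 0 ↔ LinearIndependent K (fun a => c (sel J a)) := by
  rw [show (fun a => c (sel J a)) = (selMat c J).col from rfl, Matrix.linearIndependent_cols_iff_isUnit,
    Matrix.isUnit_iff_isUnit_det, isUnit_iff_ne_zero]

lemma det_selMat_tri {n : ℕ} {c c' : ℕ → Fin (n + 1) → K} {a : ℕ → K} (h : Tri a c c') {J : Fin n → ℕ}
    (h0 : c 0 ≠ 0) (hJ : IsOrders K c J) :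
    (selMat c' J).det = (∏ b, a (sel J b)) * (selMat c J).det := by
  classical
  have hex : ∀ b : Fin (n + 1), ∃ w : Fin (n + 1) → K, (∀ b', b ≤ b' → w b' = 0) ∧
      c' (sel J b) - a (sel J b) • c (sel J b) = ∑ b', w b' • c (sel J b') := by
    intro b
    have h1 := W_le_span_sel h0 hJ b (h.sub (sel J b))
    obtain ⟨l, hl, hl'⟩ := (Finsupp.mem_span_image_iff_linearCombination K).1 h1
    refine ⟨l, fun b' hb' => ?_, ?_⟩
    · by_contra hne
      exact absurd (Set.mem_Iio.1 ((Finsupp.mem_supported K l).1 hl (Finsupp.mem_support_iff.2 hne)))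
        (not_lt.2 hb')
    · rw [← hl', Finsupp.linearCombination_apply, Finsupp.sum_fintype]
      simp
  choose w hw0 hw using hex
  let U : Matrix (Fin (n + 1)) (Fin (n + 1)) K :=
    Matrix.of fun b' b => if b' = b then a (sel J b) else w b b'
  have hmul : selMat c' J = selMat c J * U := by
    ext i b
    rw [Matrix.mul_apply, selMat_apply]
    have h1 : ∀ b', selMat c J i b' * U b' b =
        (if b' = b then a (sel J b) * c (sel J b) i else 0) + w b b' * c (sel J b') i := by
      intro b'
      simp only [U, Matrix.of_apply, selMat_apply]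
      split_ifs with e
      · subst e
        rw [hw0 b' b' le_rfl]; ring
      · ring
    simp only [h1, Finset.sum_add_distrib, Finset.sum_ite_eq', Finset.mem_univ, if_true]
    have h2 := congrFun (hw b) i
    simp only [Pi.sub_apply, Pi.smul_apply, smul_eq_mul, Finset.sum_apply] at h2
    linear_combination h2
  have hU : U.det = ∏ b, a (sel J b) := by
    rw [Matrix.det_of_isUpperTriangular]
    · simp [U]
    · intro b' b hb
      simp only [id] at hb
      simp only [U, Matrix.of_apply, if_neg hb.ne', hw0 b b' hb.le]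
  rw [hmul, Matrix.det_mul, hU, mul_comm]

lemma prod_sel {n : ℕ} (J : Fin n → ℕ) (a : ℕ → K) :
    ∏ b, a (sel J b) = a 0 * ∏ l, a (J l + 1) := by
  rw [Fin.prod_univ_succ]; simp

/-- an injective linear map does not change jumps -/
lemma isJump_map {N : Type*} [AddCommGroup N] [Module K N] (L : M →ₗ[K] N) (hL : Function.Injective L)
    (j : ℕ) : IsJump K (fun m => L (c m)) j ↔ IsJump K c j := by
  rw [isJump_iff, isJump_iff, not_iff_not, W, W, show (fun m => L (c m)) '' Set.Iio j = L '' (c '' Set.Iio j)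
    from Set.image_comp L c _, span_image, Submodule.mem_map]
  exact ⟨fun ⟨x, hx, he⟩ => hL he ▸ hx, fun h => ⟨_, h, rfl⟩⟩

/-- a jump is detected by a linear functional -/
lemma isJump_iff_exists_dual (j : ℕ) :
    IsJump K c j ↔ ∃ f : M →ₗ[K] K, (∀ m < j, f (c m) = 0) ∧ f (c j) ≠ 0 := by
  constructor
  · intro h
    obtain ⟨f, hf1, hf2⟩ := Submodule.exists_dual_map_eq_bot_of_notMem (p := W K c j) h inferInstance
    refine ⟨f, fun m hm => ?_, hf1⟩
    have : f (c m) ∈ (W K c j).map f := mem_map_of_mem (mem_W hm)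
    rwa [hf2, mem_bot] at this
  · rintro ⟨f, hf, hfj⟩ hmem
    refine hfj (LinearMap.mem_ker.1 (span_le.2 ?_ hmem))
    rintro _ ⟨m, hm, rfl⟩
    exact hf m hm

end Groth.Agent.FFWr
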