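import Groth.Agent.FFWr.Jumps
import Groth.Agent.FF.LR.DerivExp
import Groth.Agent.FF.LR.Geom
import Groth.Agent.FF.AutFix

/-! Coordinates at a place over an algebraically closed constant field. -/

set_option autoImplicit false
set_option linter.style.haveILetI false
set_option linter.unusedSectionVars false

open FunFld WithZero LaurentSeries
open Groth.Agent.FF

namespace Groth.Agent.FFWr

variable {k K : Type*} [Field k] [IsAlgClosed k] [Field K] [Algebra k K]

/-- `e` is an expansion at `P` in the local parameter `t` -/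
structure IsCoord (P : Place k K) (t : K) (e : K →ₐ[k] LaurentSeries k) : Prop where
  isExp : LocRes.IsExpansionAt P.1 e
  t_eq : e t = HahnSeries.single 1 1

lemma exists_isCoord (hK : IsFunctionField k K) (P : Place k K) {t : K} (ht : P.1 t = exp (-1 : ℤ)) :
    ∃ e, IsCoord P t e := by
  obtain ⟨e, h1, h2⟩ := exists_expansion_uniformizer hK P ht
  exact ⟨e, h1, h2⟩

lemma isSepVar_of_hasse (hK : IsFunctionField k K) {x : K} {H : K →ₐ[k] PowerSeries K}
    (hH : LocRes.IsHasseFamily x H) : IsSepVar k x :=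
  (isSepVar_iff_D_ne_zero hK good_of_perfect).2 (D_ne_zero_of_hasse hH)

lemma isSepVar_uniformizer (hK : IsFunctionField k K) {P : Place k K} {t : K} (ht : P.1 t = exp (-1 : ℤ)) :
    IsSepVar k t := by
  obtain ⟨e, he⟩ := exists_isCoord hK P ht
  exact (isSepVar_iff_D_ne_zero hK good_of_perfect).2 (D_ne_zero_uniformizer he.isExp ht)

namespace IsCoord

variable {P : Place k K} {t : K} {e : K →ₐ[k] LaurentSeries k} (he : IsCoord P t e)
include he

lemma val_le_iff (y : K) (D : ℤ) : P.1 y ≤ exp (-D) ↔ ∀ n < D, (e y).coeff n = 0 := by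
  rw [← he.isExp.1]
  exact LaurentSeries.valuation_le_iff_coeff_lt_eq_zero k

lemma val_le_one_iff (y : K) : P.1 y ≤ 1 ↔ ∀ n < (0 : ℤ), (e y).coeff n = 0 := by
  simpa using he.val_le_iff y 0

lemma val_eq_iff (y : K) {D : ℤ} (h : P.1 y ≤ exp (-D)) : P.1 y = exp (-D) ↔ (e y).coeff D ≠ 0 := by
  constructor
  · intro h1 h2
    have : P.1 y ≤ exp (-(D + 1)) := (he.val_le_iff y _).2 fun n hn => by
      rcases (Int.lt_add_one_iff.1 hn).lt_or_eq with h' | rfl
      · exact (he.val_le_iff y D).1 h n h'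
      · exact h2
    rw [h1, exp_le_exp] at this
    omega
  · intro h1
    refine le_antisymm h (not_lt.1 fun h2 => h1 ((he.val_le_iff y (D + 1)).1 ?_ D (by omega)))
    rw [show -(D + 1) = -D - 1 by ring]
    exact (lt_exp_iff _ _).1 h2

lemma t_val : P.1 t = exp (-1 : ℤ) := by
  rw [← he.isExp.1, he.t_eq, LR.v_single one_ne_zero]

lemma coeff_algebraMap (c : k) (n : ℤ) :
    (e (algebraMap k K c)).coeff n = if n = 0 then c else 0 := by
  rw [LocRes.map_algebraMap, Algebra.algebraMap_self, RingHom.id_apply, HahnSeries.C_apply,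
    HahnSeries.coeff_single]
  split_ifs <;> rfl

lemma coeff_smul (c : k) (y : K) (n : ℤ) : (e (c • y)).coeff n = c * (e y).coeff n := by
  rw [Algebra.smul_def, map_mul, LocRes.map_algebraMap, HahnSeries.C_mul_eq_smul]; simp

lemma coeff_sum {ι : Type*} (s : Finset ι) (a : ι → k) (f : ι → K) (n : ℤ) :
    (e (∑ i ∈ s, a i • f i)).coeff n = ∑ i ∈ s, a i * (e (f i)).coeff n := by
  rw [map_sum, HahnSeries.coeff_sum]
  exact Finset.sum_congr rfl fun i _ => he.coeff_smul _ _ _

lemma coeff_zero_mul {x y : K} (hx : P.1 x ≤ 1) (hy : P.1 y ≤ 1) :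
    (e (x * y)).coeff 0 = (e x).coeff 0 * (e y).coeff 0 := by
  obtain ⟨f, hf⟩ := LR.exists_coe (f := e x) (by rw [he.isExp.1]; exact hx)
  obtain ⟨g, hg⟩ := LR.exists_coe (f := e y) (by rw [he.isExp.1]; exact hy)
  rw [map_mul, ← hf, ← hg, ← map_mul]
  have h : ∀ u : PowerSeries k, ((u : LaurentSeries k)).coeff 0 = PowerSeries.constantCoeff u := fun u => by
    have := coeff_coe_powerSeries (R := k) u 0
    simpa using this
  rw [h, h, h, map_mul]

lemma evalP_eq {z : K} (hz : P.1 z ≤ 1) :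
    evalP P z = algebraMap k _ ((e z).coeff 0) := by
  have h : P.1 (z - algebraMap k K ((e z).coeff 0)) < 1 := by
    refine lt_of_le_of_lt ((he.val_le_iff _ 1).2 fun n hn => ?_) ((exp_lt_exp.2 (by norm_num : (-1 : ℤ) < 0)).trans_eq exp_zero)
    rw [map_sub, HahnSeries.coeff_sub, he.coeff_algebraMap]
    rcases (show n ≤ 0 by omega).lt_or_eq with h' | rfl
    · rw [(he.val_le_one_iff z).1 hz n h', if_neg h'.ne, sub_zero]
    · rw [if_pos rfl, sub_self]
  have h2 : resHom P (⟨z, (mem_O P).2 hz⟩ - algebraMap k P.O ((e z).coeff 0)) = 0 :=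
    (resHom_eq_zero_iff P).2 (by simpa using h)
  rw [map_sub, AlgHom.commutes, sub_eq_zero] at h2
  rw [evalP, dif_pos hz]
  exact h2

lemma coeff_hasseD (hK : IsFunctionField k K) {Ht : K →ₐ[k] PowerSeries K} (hH : LocRes.IsHasseFamily t Ht)
    {y : K} (hy : P.1 y ≤ 1) (j : ℕ) (n : ℕ) :
    (e (LocRes.hasseD Ht j y)).coeff (n : ℤ) = ((n + j).choose j : k) * (e y).coeff ((n + j : ℕ) : ℤ) := by
  rw [exp_hasseD (isSepVar_of_hasse hK hH).separable he.isExp he.t_eq hH hy j, LaurentSeries.hasseDeriv_coeff,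
    ← Nat.cast_add, Ring.choose_natCast, natCast_zsmul, nsmul_eq_mul]

lemma coeff_zero_hasseD (hK : IsFunctionField k K) {Ht : K →ₐ[k] PowerSeries K} (hH : LocRes.IsHasseFamily t Ht)
    {y : K} (hy : P.1 y ≤ 1) (j : ℕ) :
    (e (LocRes.hasseD Ht j y)).coeff 0 = (e y).coeff (j : ℤ) := by
  simpa using he.coeff_hasseD hK hH hy j 0

lemma val_hasseD_le (hK : IsFunctionField k K) {Ht : K →ₐ[k] PowerSeries K} (hH : LocRes.IsHasseFamily t Ht)
    {y : K} {J : ℕ} (hy : P.1 y ≤ exp (-(J : ℤ))) (j : ℕ) :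
    P.1 (LocRes.hasseD Ht j y) ≤ exp (-((J - j : ℕ) : ℤ)) := by
  have hy1 : P.1 y ≤ 1 := hy.trans (by rw [← exp_zero, exp_le_exp]; omega)
  refine (he.val_le_iff _ _).2 fun n hn => ?_
  rcases lt_or_ge n 0 with h | h
  · rw [exp_hasseD (isSepVar_of_hasse hK hH).separable he.isExp he.t_eq hH hy1 j]
    obtain ⟨g, hg⟩ := LR.exists_coe (f := e y) (by rw [he.isExp.1]; exact hy1)
    rw [← hg, LR.hasseDeriv_coe, PowerSeries.coeff_coe, if_pos h]
  · lift n to ℕ using h
    rw [he.coeff_hasseD hK hH hy1, (he.val_le_iff y J).1 hy _ (by omega), mul_zero]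

lemma val_hasseD_le_one (hK : IsFunctionField k K) {Ht : K →ₐ[k] PowerSeries K} (hH : LocRes.IsHasseFamily t Ht)
    {y : K} (hy : P.1 y ≤ 1) (j : ℕ) : P.1 (LocRes.hasseD Ht j y) ≤ 1 := by
  simpa using he.val_hasseD_le hK hH (J := 0) (by simpa using hy) j

end IsCoord

/-- the coefficient columns at a place -/
noncomputable def ccol {ι : Type*} (e : K →ₐ[k] LaurentSeries k) (φ : ι → K) : ℕ → ι → k
  | 0 => fun i => (e (φ i)).coeff 0
  | j + 1 => fun i => (e (φ i)).coeff (j : ℤ)

/-- scalars changed along a bijective structure map -/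
lemma isJump_algebraMap {R : Type*} [Field R] [Algebra k R]
    (hb : Function.Surjective (algebraMap k R)) {ι : Type*} (c : ℕ → ι → k) (j : ℕ) :
    IsJump R (fun m i => algebraMap k R (c m i)) j ↔ IsJump k c j := by
  let L : (ι → k) →ₗ[k] (ι → R) := (Algebra.linearMap k R).compLeft ι
  have hL : Function.Injective L := fun a b h => funext fun i => (algebraMap k R).injective (congrFun h i)
  rw [← isJump_map L hL]
  show _ ∉ Submodule.span R _ ↔ _ ∉ Submodule.span k _
  rw [not_iff_not, ← Submodule.restrictScalars_span k R hb, Submodule.restrictScalars_mem]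
  rfl

lemma IsCoord.hcolAt_eq {P : Place k K} {t : K} {e : K →ₐ[k] LaurentSeries k} (he : IsCoord P t e)
    (hK : IsFunctionField k K) {Ht : K →ₐ[k] PowerSeries K} (hH : LocRes.IsHasseFamily t Ht)
    {ι : Type*} {φ : ι → K} (hnorm : ∀ i, P.1 (φ i) ≤ 1) :
    hcolAt P Ht φ = fun m i => algebraMap k _ (ccol e φ m i) := by
  funext m i
  cases m with
  | zero => exact he.evalP_eq (hnorm i)
  | succ j =>
    show evalP P (LocRes.hasseD Ht j (φ i)) = _
    rw [he.evalP_eq (he.val_hasseD_le_one hK hH (hnorm i) j), he.coeff_zero_hasseD hK hH (hnorm i) j]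
    rfl

lemma residue_surjective (hK : IsFunctionField k K) (P : Place k K) :
    Function.Surjective (algebraMap k (IsLocalRing.ResidueField P.O)) := fun x => by
  obtain ⟨y, rfl⟩ := resHom_surjective P x
  obtain ⟨a, ha⟩ := exists_residue hK P ((mem_O P).1 y.2)
  refine ⟨a, ?_⟩
  have h2 : resHom P (y - algebraMap k P.O a) = 0 := (resHom_eq_zero_iff P).2 (by simpa using ha)
  rw [map_sub, AlgHom.commutes, sub_eq_zero] at h2
  exact h2.symm

lemma IsCoord.isJump_hcolAt {P : Place k K} {t : K} {e : K →ₐ[k] LaurentSeries k} (he : IsCoord P t e)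
    (hK : IsFunctionField k K) {Ht : K →ₐ[k] PowerSeries K} (hH : LocRes.IsHasseFamily t Ht)
    {ι : Type*} {φ : ι → K} (hnorm : ∀ i, P.1 (φ i) ≤ 1) (j : ℕ) :
    IsJump (IsLocalRing.ResidueField P.O) (hcolAt P Ht φ) j ↔ IsJump k (ccol e φ) j := by
  rw [he.hcolAt_eq hK hH hnorm]
  exact isJump_algebraMap (residue_surjective hK P) _ _

lemma IsCoord.isOrders_hcolAt {P : Place k K} {t : K} {e : K →ₐ[k] LaurentSeries k} (he : IsCoord P t e)
    (hK : IsFunctionField k K) {Ht : K →ₐ[k] PowerSeries K} (hH : LocRes.IsHasseFamily t Ht)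
    {ι : Type*} {φ : ι → K} (hnorm : ∀ i, P.1 (φ i) ≤ 1) {n : ℕ} (J : Fin n → ℕ) :
    IsOrders (IsLocalRing.ResidueField P.O) (hcolAt P Ht φ) J ↔ IsOrders k (ccol e φ) J :=
  and_congr_right fun _ => forall_congr' fun j => by rw [he.isJump_hcolAt hK hH hnorm]

end Groth.Agent.FFWr
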