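import Groth.Agent.FFWr.Hasse
import Groth.Agent.FFWr.Binom

/-! Orders at a place, adapted bases and the valuation of Wronskians at fixed places. -/

set_option autoImplicit false
set_option linter.style.haveILetI false
set_option linter.unusedSectionVars false

open FunFld WithZero LaurentSeries
open Groth.Agent.FF

namespace Groth.Agent.FFWr

variable {k K : Type*} [Field k] [IsAlgClosed k] [Field K] [Algebra k K]

lemma dual_apply {k : Type*} [Field k] {ι : Type*} [Fintype ι] [DecidableEq ι] (f : (ι → k) →ₗ[k] k)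
    (w : ι → k) : f w = ∑ r, f (Pi.single r 1) * w r := by
  conv_lhs => rw [← Finset.univ_sum_single w]
  rw [map_sum]
  refine Finset.sum_congr rfl fun r _ => ?_
  rw [show Pi.single r (w r) = w r • (Pi.single r (1 : k) : ι → k) by
    rw [← Pi.single_smul]; simp, map_smul, smul_eq_mul, mul_comm]

/-- a fixed place: integrality -/
lemma fixed_integral (hK : IsFunctionField k K) {P : Place k K} {τ : K →ₐ[k] K} (hP : IsFixedPt τ P)
    {z : K} (hz : P.1 z ≤ 1) : P.1 (τ z) ≤ 1 := by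
  obtain ⟨a, ha⟩ := exists_residue hK P hz
  have h1 := hP _ ha
  rw [map_sub, τ.commutes] at h1
  rw [show τ z = (τ z - algebraMap k K a) + algebraMap k K a by ring]
  exact Valuation.map_add_le _ h1.le (P.2.1 a)

lemma fixed_of_strong {P : Place k K} {τ : K →ₐ[k] K} (hP : IsStrongFixedPt τ P) : IsFixedPt τ P :=
  fun z hz => (hP z hz).trans_lt ((exp_lt_exp.2 (by norm_num : (-2 : ℤ) < 0)).trans_eq exp_zero)

lemma fixed_pow_le (hK : IsFunctionField k K) {P : Place k K} {τ : K →ₐ[k] K} (hP : IsFixedPt τ P) {t : K}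
    (ht : P.1 t = exp (-1 : ℤ)) {c : ℤ} (hc : P.1 (τ t) ≤ exp c) {z : K} {j : ℕ}
    (hz : P.1 z ≤ exp (-(j : ℤ))) : P.1 (τ z) ≤ exp ((j : ℤ) * c) := by
  have ht0 : t ≠ 0 := ne_zero_of_val_eq_exp P ht
  have hu : P.1 (z / t ^ j) ≤ 1 := by
    rw [map_div₀, map_pow, ht, ← exp_nsmul]
    refine (div_le_one₀ exp_pos).2 (hz.trans (exp_le_exp.2 ?_))
    simp
  have e : z = z / t ^ j * t ^ j := by rw [div_mul_cancel₀ _ (pow_ne_zero _ ht0)]
  rw [e, map_mul, map_mul, map_pow, map_pow]
  refine (mul_le_mul' (fixed_integral hK hP hu) (pow_le_pow_left' hc j)).trans ?_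
  rw [one_mul, ← exp_nsmul, nsmul_eq_mul]

lemma fixed_val_le (hK : IsFunctionField k K) {P : Place k K} {τ : K →ₐ[k] K} (hP : IsFixedPt τ P) {z : K}
    {j : ℕ} (hz : P.1 z ≤ exp (-(j : ℤ))) : P.1 (τ z) ≤ exp (-(j : ℤ)) := by
  obtain ⟨t, ht⟩ := exists_uniformizer P
  have hc : P.1 (τ t) ≤ exp (-1 : ℤ) := by
    have h1 : P.1 (τ t) < exp (0 : ℤ) := by
      rw [exp_zero]; exact hP t (ht.trans_lt ((exp_lt_exp.2 (by norm_num : (-1 : ℤ) < 0)).trans_eq exp_zero))
    exact ((lt_exp_iff _ _).1 h1).trans_eq (by norm_num)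
  simpa using fixed_pow_le hK hP ht hc hz

lemma strong_val_le (hK : IsFunctionField k K) {P : Place k K} {τ : K →ₐ[k] K} (hP : IsStrongFixedPt τ P)
    {z : K} {j : ℕ} (hz : P.1 z ≤ exp (-(j : ℤ))) : P.1 (τ z) ≤ exp (-(2 * (j : ℤ))) := by
  obtain ⟨t, ht⟩ := exists_uniformizer P
  have hc : P.1 (τ t) ≤ exp (-2 : ℤ) :=
    hP t (ht.trans_lt ((exp_lt_exp.2 (by norm_num : (-1 : ℤ) < 0)).trans_eq exp_zero))
  exact (fixed_pow_le hK (fixed_of_strong hP) ht hc hz).trans_eq (by congr 1; ring)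

lemma val_le_one_of_mem_span {P : Place k K} {ι : Type*} {φ : ι → K} (hnorm : ∀ i, P.1 (φ i) ≤ 1) {f : K}
    (hf : f ∈ Submodule.span k (Set.range φ)) : P.1 f ≤ 1 := by
  induction hf using Submodule.span_induction with
  | mem x hx => obtain ⟨i, rfl⟩ := hx; exact hnorm i
  | zero => simp
  | add x y _ _ hx hy => exact (P.1.map_add x y).trans (max_le hx hy)
  | smul a x _ hx => exact (val_smul_le P a x).trans hx

/-- the data of an adapted tuple -/
structure Adapted (P : Place k K) (e : K →ₐ[k] LaurentSeries k) {n : ℕ} (J : Fin n → ℕ)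
    (ψ : Fin (n + 1) → K) : Prop where
  zero : ψ 0 = 1
  le : ∀ l : Fin n, P.1 (ψ l.succ) ≤ exp (-(J l : ℤ))
  coeff : ∀ l : Fin n, (e (ψ l.succ)).coeff (J l : ℤ) = 1

namespace IsCoord

variable {P : Place k K} {t : K} {e : K →ₐ[k] LaurentSeries k} (he : IsCoord P t e)
include he

lemma coeff_mul_zpow (x : K) (m n : ℤ) : (e (x * t ^ m)).coeff n = (e x).coeff (n - m) := by
  rw [map_mul, map_zpow₀, he.t_eq, mul_comm,
    show (HahnSeries.single (1 : ℤ) (1 : k)) ^ m = HahnSeries.single m 1 from (RatFunc.single_zpow m).symm,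
    HahnSeries.coeff_single_mul, one_mul]

lemma val_mul_zpow (x : K) (m : ℤ) : P.1 (x * t ^ m) = P.1 x * exp (-m) := by
  rw [map_mul, map_zpow₀, he.t_val, ← exp_zsmul]; simp

/-- the residue map as a ring homomorphism to `k` -/
noncomputable def res : P.O →+* k where
  toFun z := (e (z : K)).coeff 0
  map_one' := by simp
  map_mul' x y := by
    show (e ((x : K) * (y : K))).coeff 0 = _
    exact he.coeff_zero_mul ((mem_O P).1 x.2) ((mem_O P).1 y.2)
  map_zero' := by simp
  map_add' x y := by simp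

lemma coeff_zero_det {m : ℕ} (N : Matrix (Fin m) (Fin m) K) (hN : ∀ r c, P.1 (N r c) ≤ 1) :
    P.1 N.det ≤ 1 ∧ (e N.det).coeff 0 = (Matrix.of fun r c => (e (N r c)).coeff 0).det := by
  let N' : Matrix (Fin m) (Fin m) P.O := Matrix.of fun r c => ⟨N r c, (mem_O P).2 (hN r c)⟩
  have h1 : ((N'.det : P.O) : K) = N.det := (RingHom.map_det P.O.subtype N').trans rfl
  refine ⟨h1 ▸ (mem_O P).1 N'.det.2, ?_⟩
  rw [← h1]
  exact (RingHom.map_det he.res N').trans rfl

/-! ### jumps of the coefficient columns -/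

lemma isJump_ccol_iff {n : ℕ} {φ : Fin (n + 1) → K} (hnorm : ∀ i, P.1 (φ i) ≤ 1) {j : ℕ} (hj : 1 ≤ j) :
    IsJump k (ccol e φ) (j + 1) ↔
      ∃ f ∈ Submodule.span k (Set.range φ), P.1 f = exp (-(j : ℤ)) := by
  rw [isJump_iff_exists_dual]
  constructor
  · rintro ⟨g, hg, hgj⟩
    refine ⟨∑ r, g (Pi.single r 1) • φ r, Submodule.sum_mem _ fun r _ =>
      Submodule.smul_mem _ _ (Submodule.subset_span ⟨r, rfl⟩), ?_⟩
    have hle : P.1 (∑ r, g (Pi.single r 1) • φ r) ≤ exp (-(j : ℤ)) := (he.val_le_iff _ _).2 fun m hm => by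
      rw [he.coeff_sum]
      rcases lt_or_ge m 0 with h | h
      · exact Finset.sum_eq_zero fun r _ => by rw [(he.val_le_one_iff _).1 (hnorm r) m h, mul_zero]
      · lift m to ℕ using h
        have := hg (m + 1) (by omega)
        rwa [dual_apply] at this
    rw [he.val_eq_iff _ hle, he.coeff_sum]
    rw [dual_apply] at hgj
    exact hgj
  · rintro ⟨f, hf, hv⟩
    obtain ⟨a, rfl⟩ := (Submodule.mem_span_range_iff_exists_fun k).1 hf
    let g : (Fin (n + 1) → k) →ₗ[k] k :=
      { toFun := fun w => ∑ r, a r * w r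
        map_add' := fun u w => by simp [mul_add, Finset.sum_add_distrib]
        map_smul' := fun c w => by
          rw [RingHom.id_apply, smul_eq_mul, Finset.mul_sum]
          exact Finset.sum_congr rfl fun r _ => by simp [mul_left_comm] }
    refine ⟨g, fun m hm => ?_, ?_⟩
    · cases m with
      | zero =>
        show ∑ r, a r * (e (φ r)).coeff 0 = 0
        rw [← he.coeff_sum]
        exact (he.val_le_iff _ _).1 hv.le 0 (by omega)
      | succ m =>
        show ∑ r, a r * (e (φ r)).coeff (m : ℤ) = 0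
        rw [← he.coeff_sum]
        exact (he.val_le_iff _ _).1 hv.le _ (by omega)
    · show ∑ r, a r * (e (φ r)).coeff (j : ℤ) ≠ 0
      rw [← he.coeff_sum]
      exact (he.val_eq_iff _ hv.le).1 hv

omit he in
lemma not_isJump_ccol_one {ι : Type*} (e : K →ₐ[k] LaurentSeries k) (φ : ι → K) : ¬ IsJump k (ccol e φ) 1 :=
  fun h => h (by rw [show ccol e φ 1 = ccol e φ 0 from rfl]; exact mem_W (c := ccol e φ) Nat.zero_lt_one)

lemma exists_coeff_zero_ne {ι : Type*} {φ : ι → K} (hnorm : ∀ i, P.1 (φ i) ≤ 1)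
    (heff : (1 : K) ∈ Submodule.span k (Set.range φ)) : ∃ i, (e (φ i)).coeff 0 ≠ 0 := by
  by_contra! h
  have : P.1 (1 : K) ≤ exp (-(1 : ℤ)) := by
    refine (fun f hf => ?_ : ∀ f ∈ Submodule.span k (Set.range φ), P.1 f ≤ exp (-(1 : ℤ))) 1 heff
    induction hf using Submodule.span_induction with
    | mem x hx =>
      obtain ⟨i, rfl⟩ := hx
      refine (he.val_le_iff _ _).2 fun m hm => ?_
      rcases (show m ≤ 0 by omega).lt_or_eq with h' | rfl
      · exact (he.val_le_one_iff _).1 (hnorm i) m h'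
      · exact h i
    | zero => simp
    | add x y _ _ hx hy => exact (P.1.map_add x y).trans (max_le hx hy)
    | smul a x _ hx => exact (val_smul_le P a x).trans hx
  rw [map_one, ← exp_zero, exp_le_exp] at this
  omega

lemma ccol_zero_ne {n : ℕ} {φ : Fin (n + 1) → K} (hnorm : ∀ i, P.1 (φ i) ≤ 1)
    (heff : (1 : K) ∈ Submodule.span k (Set.range φ)) : ccol e φ 0 ≠ 0 := fun h => by
  obtain ⟨i, hi⟩ := he.exists_coeff_zero_ne hnorm heff
  exact hi (congrFun h i)

lemma pos_of_isOrders {n : ℕ} {φ : Fin (n + 1) → K} {J : Fin n → ℕ} (hJ : IsOrders k (ccol e φ) J)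
    (l : Fin n) : 0 < J l := by
  by_contra h
  have h1 := (hJ.2 (J l)).1 ⟨l, rfl⟩
  rw [show J l = 0 by omega] at h1
  exact not_isJump_ccol_one e φ h1

lemma exists_adapted {n : ℕ} {φ : Fin (n + 1) → K} (hnorm : ∀ i, P.1 (φ i) ≤ 1)
    (heff : (1 : K) ∈ Submodule.span k (Set.range φ)) {J : Fin n → ℕ} (hJ : IsOrders k (ccol e φ) J) :
    ∃ (ψ : Fin (n + 1) → K) (A : Matrix (Fin (n + 1)) (Fin (n + 1)) k), Adapted P e J ψ ∧ A.det ≠ 0 ∧
      (∀ i, ψ i = ∑ j, A i j • φ j) ∧ Submodule.span k (Set.range ψ) = Submodule.span k (Set.range φ) := by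
  classical
  have h1 : ∀ l : Fin n, ∃ f ∈ Submodule.span k (Set.range φ),
      P.1 f ≤ exp (-(J l : ℤ)) ∧ (e f).coeff (J l : ℤ) = 1 := by
    intro l
    obtain ⟨f, hf, hv⟩ := (he.isJump_ccol_iff hnorm (he.pos_of_isOrders hJ l)).1 ((hJ.2 _).1 ⟨l, rfl⟩)
    have hc := (he.val_eq_iff _ hv.le).1 hv
    refine ⟨((e f).coeff (J l : ℤ))⁻¹ • f, Submodule.smul_mem _ _ hf,
      (val_smul_le P _ _).trans hv.le, ?_⟩
    rw [he.coeff_smul, inv_mul_cancel₀ hc]
  choose f hf hfv hfc using h1
  let ψ : Fin (n + 1) → K := Fin.cases 1 f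
  have hψ : ∀ i, ψ i ∈ Submodule.span k (Set.range φ) := fun i => by
    cases i using Fin.cases with
    | zero => exact heff
    | succ l => exact hf l
  choose a ha using fun i => (Submodule.mem_span_range_iff_exists_fun k).1 (hψ i)
  let A : Matrix (Fin (n + 1)) (Fin (n + 1)) k := Matrix.of a
  let v : Fin (n + 1) → ℕ := Fin.cases 0 J
  have hv : StrictMono v := by
    intro x y hxy
    cases x using Fin.cases with
    | zero =>
      cases y using Fin.cases with
      | zero => exact absurd hxy (lt_irrefl _)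
      | succ y => simpa [v] using he.pos_of_isOrders hJ y
    | succ x =>
      cases y using Fin.cases with
      | zero => exact absurd hxy (Fin.not_lt_zero _)
      | succ y => simpa [v] using hJ.1 (Fin.succ_lt_succ_iff.1 hxy)
  let M : Matrix (Fin (n + 1)) (Fin (n + 1)) k := Matrix.of fun j b => (e (φ j)).coeff (v b : ℤ)
  have hAM : ∀ i b, (A * M) i b = (e (ψ i)).coeff (v b : ℤ) := fun i b => by
    rw [Matrix.mul_apply, ← ha i, he.coeff_sum]
    rfl
  have htri : (A * M).IsUpperTriangular := by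
    intro i b hb
    simp only [id] at hb
    rw [hAM]
    cases i using Fin.cases with
    | zero => exact absurd hb (Fin.not_lt_zero _)
    | succ l =>
      refine (he.val_le_iff _ _).1 (hfv l) _ ?_
      have := hv hb
      simp only [v, Fin.cases_succ] at this
      exact_mod_cast this
  have hdiag : ∀ i, (A * M) i i = 1 := fun i => by
    rw [hAM]
    cases i using Fin.cases with
    | zero => simp [ψ, v]
    | succ l => simpa [ψ, v] using hfc l
  have hdet : A.det * M.det = 1 := by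
    rw [← Matrix.det_mul, Matrix.det_of_isUpperTriangular htri]
    simp [hdiag]
  have hA : A.det ≠ 0 := left_ne_zero_of_mul_eq_one hdet
  refine ⟨ψ, A, ⟨rfl, fun l => by simpa [ψ] using hfv l, fun l => by simpa [ψ] using hfc l⟩, hA,
    fun i => (ha i).symm, le_antisymm (Submodule.span_le.2 ?_) (Submodule.span_le.2 ?_)⟩
  · rintro _ ⟨i, rfl⟩; exact hψ i
  · rintro _ ⟨j, rfl⟩
    have h2 : φ j = ∑ i, A⁻¹ j i • ψ i := by
      simp only [← ha, Finset.smul_sum, smul_smul]
      rw [Finset.sum_comm]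
      simp only [← Finset.sum_smul]
      have h3 : ∀ l, ∑ i, A⁻¹ j i * a i l = (1 : Matrix (Fin (n + 1)) (Fin (n + 1)) k) j l := fun l => by
        rw [← Matrix.nonsing_inv_mul A (isUnit_iff_ne_zero.2 hA), Matrix.mul_apply]; rfl
      simp [h3, Matrix.one_apply]
    rw [h2]
    exact Submodule.sum_mem _ fun i _ => Submodule.smul_mem _ _ (Submodule.subset_span ⟨i, rfl⟩)

/-- the valuation of a Wronskian minor of an adapted tuple at a fixed place -/
lemma det_wrMat_adapted (hK : IsFunctionField k K) {Ht : K →ₐ[k] PowerSeries K}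
    (hH : LocRes.IsHasseFamily t Ht) {τ : K →ₐ[k] K} (hP : IsFixedPt τ P) {n : ℕ} {J : Fin n → ℕ}
    {ψ : Fin (n + 1) → K} (hψ : Adapted P e J ψ) (I : Fin n → ℕ) :
    P.1 (wrMat τ Ht ψ I).det ≤ exp (-(∑ l, ((J l : ℤ) - I l))) ∧
    (((∀ l, 0 < I l) ∨ IsStrongFixedPt τ P) → (∀ l, 0 < J l) →
      (P.1 (wrMat τ Ht ψ I).det = exp (-(∑ l, ((J l : ℤ) - I l))) ↔ (binomMat k J I).det ≠ 0)) := by
  classical
  let v : Fin (n + 1) → ℕ := Fin.cases 0 J
  let w : Fin (n + 1) → ℕ := Fin.cases 0 I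
  let M := wrMat τ Ht ψ I
  have hψ1 : ∀ r, P.1 (ψ r) ≤ exp (-(v r : ℤ)) := fun r => by
    cases r using Fin.cases with
    | zero => simp [v, hψ.zero]
    | succ l => simpa [v] using hψ.le l
  have hψc : ∀ r, (e (ψ r)).coeff (v r : ℤ) = 1 := fun r => by
    cases r using Fin.cases with
    | zero => simp [v, hψ.zero]
    | succ l => simpa [v] using hψ.coeff l
  have hψ0 : ∀ r, P.1 (ψ r) ≤ 1 := fun r => (hψ1 r).trans (by rw [← exp_zero, exp_le_exp]; omega)
  let N : Matrix (Fin (n + 1)) (Fin (n + 1)) K :=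
    Matrix.of fun r c => M r c * t ^ ((w c : ℤ) - v r)
  have hM0 : ∀ r, M r 0 = τ (ψ r) := fun r => rfl
  have hMs : ∀ r (l : Fin n), M r l.succ = LocRes.hasseD Ht (I l) (ψ r) := fun r l => by
    simp [M, wrMat]
  have hN : ∀ r c, P.1 (N r c) ≤ 1 := fun r c => by
    simp only [N, Matrix.of_apply, he.val_mul_zpow]
    cases c using Fin.cases with
    | zero =>
      rw [hM0]
      refine (mul_le_mul' (fixed_val_le hK hP (hψ1 r)) le_rfl).trans ?_
      rw [← exp_add, ← exp_zero, exp_le_exp]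
      simp [w]
    | succ l =>
      rw [hMs]
      refine (mul_le_mul' (he.val_hasseD_le hK hH (hψ1 r) (I l)) le_rfl).trans ?_
      rw [← exp_add, ← exp_zero, exp_le_exp]
      simp only [w, Fin.cases_succ]
      omega
  have ht0 : t ≠ 0 := ne_zero_of_val_eq_exp P he.t_val
  have hsum : ((∑ r, (v r : ℤ)) - ∑ c, (w c : ℤ)) = ∑ l, ((J l : ℤ) - I l) := by
    simp [Fin.sum_univ_succ, v, w, Finset.sum_sub_distrib]
  have hdet : M.det * t ^ (-(∑ l, ((J l : ℤ) - I l))) = N.det := by
    have h1 : N = Matrix.of fun r c => t ^ (-(v r : ℤ)) * ((Matrix.of fun r c => t ^ (w c : ℤ) * M r c) r c) := by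
      ext r c
      simp only [N, Matrix.of_apply]
      rw [sub_eq_add_neg, zpow_add₀ ht0]
      ring
    rw [h1, Matrix.det_mul_column, Matrix.det_mul_row]
    have h2 : ∀ (u : Fin (n + 1) → ℤ), ∏ r, t ^ u r = t ^ (∑ r, u r) := fun u => by
      have : ∀ s : Finset (Fin (n + 1)), ∏ r ∈ s, t ^ u r = t ^ (∑ r ∈ s, u r) := by
        intro s
        induction s using Finset.induction with
        | empty => simp
        | @insert a s ha ih => rw [Finset.prod_insert ha, Finset.sum_insert ha, ih, zpow_add₀ ht0]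
      exact this _
    rw [h2, h2, ← mul_assoc, ← zpow_add₀ ht0, mul_comm, ← hsum, Finset.sum_neg_distrib, neg_sub, ← sub_eq_neg_add]
  obtain ⟨hN1, hN2⟩ := he.coeff_zero_det N hN
  have hval : P.1 M.det = P.1 N.det * exp (-(∑ l, ((J l : ℤ) - I l))) := by
    rw [← hdet, he.val_mul_zpow, mul_assoc, ← exp_add]
    simp
  refine ⟨?_, fun hcase hpos => ?_⟩
  · show P.1 M.det ≤ _
    rw [hval]
    exact (mul_le_mul' hN1 le_rfl).trans_eq (one_mul _)
  · let R : Matrix (Fin (n + 1)) (Fin (n + 1)) k := Matrix.of fun r c => (e (N r c)).coeff 0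
    have hR : ∀ r c, R r c = (e (M r c)).coeff ((v r : ℤ) - w c) := fun r c => by
      simp only [R, N, Matrix.of_apply, he.coeff_mul_zpow, zero_sub, neg_sub]
    have hR00 : R 0 0 = 1 := by
      rw [hR, hM0, hψ.zero, map_one]
      simp [v, w]
    have hRs : ∀ r (l : Fin n), R r l.succ = ((v r).choose (I l) : k) := fun r l => by
      rw [hR, hMs]
      simp only [w, Fin.cases_succ]
      rcases le_or_gt (I l) (v r) with h | h
      · rw [show (v r : ℤ) - I l = ((v r - I l : ℕ) : ℤ) by omega, he.coeff_hasseD hK hH (hψ0 r),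
          Nat.sub_add_cancel h, hψc r, mul_one]
      · rw [Nat.choose_eq_zero_of_lt h, Nat.cast_zero]
        exact (he.val_le_one_iff _).1 (he.val_hasseD_le_one hK hH (hψ0 r) _) _ (by omega)
    have hblock : R.det = (binomMat k J I).det := by
      have hsub : R.submatrix Fin.succ Fin.succ = binomMat k J I := by
        ext r c
        rw [Matrix.submatrix_apply, hRs]
        simp [v, binomMat]
      rcases hcase with hI | hs
      · rw [det_eq_det_submatrix_of_row_zero R (fun l => by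
          rw [hRs]; simp [v, Nat.choose_eq_zero_of_lt (hI l)]), hR00, hsub, one_mul]
      · rw [det_eq_det_submatrix_of_col_zero R (fun l => by
          rw [hR, hM0]
          refine (he.val_le_iff _ _).1 (strong_val_le hK hs (hψ1 l.succ)) _ ?_
          have := hpos l
          simp [v, w]
          omega), hR00, hsub, one_mul]
    show P.1 M.det = _ ↔ _
    rw [hval]
    constructor
    · intro h
      have h1 : P.1 N.det = 1 := by
        have := congrArg (fun x => x * (exp (-(∑ l, ((J l : ℤ) - I l))))⁻¹) h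
        simpa [mul_assoc] using this
      have h2 := (he.val_eq_iff N.det (D := 0) (by rw [neg_zero, exp_zero]; exact hN1)).1
        (by rw [neg_zero, exp_zero]; exact h1)
      rw [hN2] at h2
      rw [← hblock]
      exact h2
    · intro h
      rw [← hblock] at h
      have h2 : (e N.det).coeff 0 ≠ 0 := by rw [hN2]; exact h
      have h1 := (he.val_eq_iff N.det (D := 0) (by rw [neg_zero, exp_zero]; exact hN1)).2 h2
      rw [neg_zero, exp_zero] at h1
      rw [h1, one_mul]

/-- the valuation of a Wronskian minor at a fixed place -/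
lemma det_wrMat_fixed (hK : IsFunctionField k K) {Ht : K →ₐ[k] PowerSeries K}
    (hH : LocRes.IsHasseFamily t Ht) {τ : K →ₐ[k] K} (hP : IsFixedPt τ P) {n : ℕ} {φ : Fin (n + 1) → K}
    (hnorm : ∀ i, P.1 (φ i) ≤ 1) (heff : (1 : K) ∈ Submodule.span k (Set.range φ))
    {J : Fin n → ℕ} (hJ : IsOrders k (ccol e φ) J) (I : Fin n → ℕ) :
    P.1 (wrMat τ Ht φ I).det ≤ exp (-(∑ l, ((J l : ℤ) - I l))) ∧
    (((∀ l, 0 < I l) ∨ IsStrongFixedPt τ P) →
      (P.1 (wrMat τ Ht φ I).det = exp (-(∑ l, ((J l : ℤ) - I l))) ↔ (binomMat k J I).det ≠ 0)) := by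
  obtain ⟨ψ, A, hψ, hA, hψA, -⟩ := he.exists_adapted hnorm heff hJ
  obtain ⟨h1, h2⟩ := he.det_wrMat_adapted hK hH hP hψ I
  have hv : P.1 (wrMat τ Ht ψ I).det = P.1 (wrMat τ Ht φ I).det := by
    rw [det_wrMat_linear τ Ht φ ψ A hψA, map_mul, val_const P hA, one_mul]
  rw [hv] at h1 h2
  exact ⟨h1, fun h => h2 h (he.pos_of_isOrders hJ)⟩

end IsCoord

lemma det_binomMat_self {k : Type*} [Field k] {n : ℕ} {J : Fin n → ℕ} (hJ : StrictMono J) :
    (binomMat k J J).det = 1 := by
  rw [Matrix.det_of_isLowerTriangular]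
  · simp [binomMat]
  · intro r s hrs
    simp [binomMat, Nat.choose_eq_zero_of_lt (hJ (OrderDual.toDual_lt_toDual.1 hrs))]

end Groth.Agent.FFWr
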