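import Groth.Agent.FFWr.JacobianMatrix

/-! The tangent line at a nonsingular place. -/

set_option autoImplicit false
set_option linter.style.haveILetI false
set_option linter.unusedSectionVars false

open FunFld WithZero Groth.Agent.FF Groth.Agent.FFEmb Groth.Agent.FFEmb.Map

namespace Groth.Agent.FFWr

variable {k K : Type*} [Field k] [IsAlgClosed k] [Field K] [Algebra k K] (hK : IsFunctionField k K)
include hK

omit hK in
lemma taylor_val {σ : Type*} [Fintype σ] [DecidableEq σ] (P : Place k K) (ψ : σ → K) (a : σ → k)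
    (ha : ∀ i, P.1 (ψ i - algebraMap k K (a i)) ≤ exp (-1 : ℤ)) (F : MvPolynomial σ k) :
    P.1 (MvPolynomial.aeval ψ F - algebraMap k K (MvPolynomial.aeval a F) -
      ∑ i, grad a F i • (ψ i - algebraMap k K (a i))) ≤ exp (-2 : ℤ) := by
  have hψ : ∀ i, P.1 (ψ i) ≤ 1 := fun i => by
    rw [show ψ i = (ψ i - algebraMap k K (a i)) + algebraMap k K (a i) by ring]
    exact Valuation.map_add_le _ ((ha i).trans (by rw [← exp_zero, exp_le_exp]; norm_num)) (P.2.1 _)
  induction F using MvPolynomial.induction_on with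
  | C c => simp [grad_C, MvPolynomial.aeval_C]
  | add F G hF hG =>
    refine le_trans (le_of_eq (congrArg P.1 ?_)) (Valuation.map_add_le _ hF hG)
    simp only [map_add, Pi.add_apply, add_smul, Finset.sum_add_distrib]; ring
  | mul_X F i hF =>
    set ℓ := ∑ l, grad a F l • (ψ l - algebraMap k K (a l)) with hℓ
    have hℓ1 : P.1 ℓ ≤ exp (-1 : ℤ) := Valuation.map_sum_le _ fun l _ => (val_smul_le P _ _).trans (ha l)
    have hs : ∑ l, grad a (F * MvPolynomial.X i) l • (ψ l - algebraMap k K (a l)) =
        a i • ℓ + MvPolynomial.aeval a F • (ψ i - algebraMap k K (a i)) := by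
      rw [grad_mul, grad_X, MvPolynomial.aeval_X, hℓ, Finset.smul_sum]
      simp only [Pi.add_apply, Pi.smul_apply, smul_eq_mul, add_smul, Finset.sum_add_distrib, mul_smul]
      congr 1
      rw [Finset.sum_eq_single i]
      · simp
      · intro b _ hb; simp [Pi.single_eq_of_ne hb]
      · simp
    rw [hs, show MvPolynomial.aeval ψ (F * MvPolynomial.X i) -
        algebraMap k K (MvPolynomial.aeval a (F * MvPolynomial.X i)) -
        (a i • ℓ + MvPolynomial.aeval a F • (ψ i - algebraMap k K (a i))) =
        ψ i * (MvPolynomial.aeval ψ F - algebraMap k K (MvPolynomial.aeval a F) - ℓ) +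
          (ψ i - algebraMap k K (a i)) * ℓ by
      simp only [map_mul, MvPolynomial.aeval_X, Algebra.smul_def]; ring]
    refine Valuation.map_add_le _ ?_ ?_
    · rw [map_mul]; exact (mul_le_mul' (hψ i) hF).trans_eq (one_mul _)
    · rw [map_mul]; refine (mul_le_mul' (ha i) hℓ1).trans_eq ?_; rw [← exp_add]; rfl

theorem tangent_val_le (φ : Fin 3 → K) (f : MvPolynomial (Fin 3) k) (hhom : f.IsHomogeneous f.totalDegree)
    (hfφ : MvPolynomial.aeval φ f = 0) (P : Place k K) (j : Fin 3)
    (hj : ∀ i, P.1 (φ i) ≤ P.1 (φ j)) (b : Fin 3 → P.O)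
    (hb : ∀ i, ((b i : P.O) : K) = φ i / φ j) (c : Fin 3 → k)
    (hc : ∀ i, algebraMap k (IsLocalRing.ResidueField P.O) (c i) =
      MvPolynomial.aeval (fun l => IsLocalRing.residue P.O (b l)) (MvPolynomial.pderiv i f)) :
    P.1 (∑ i, c i • (φ i / φ j)) ≤ exp (-2 : ℤ) := by
  classical
  have hle : ∀ i, P.1 (φ i / φ j) ≤ 1 := fun i => by rw [map_div₀]; exact div_le_one_of_le₀ (hj i) zero_le
  choose a ha using fun i => exists_residue hK P (hle i)
  have hψf : MvPolynomial.aeval (fun i => φ i / φ j) f = 0 := by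
    have hscal : MvPolynomial.aeval (fun i => φ i / φ j) f = (φ j)⁻¹ ^ f.totalDegree * MvPolynomial.aeval φ f := by
      simp only [div_eq_mul_inv, MvPolynomial.aeval_def, MvPolynomial.eval₂_eq, Finset.mul_sum]
      refine Finset.sum_congr rfl fun m hm => ?_
      have hm' : ∑ i ∈ m.support, m i = f.totalDegree := by
        have h := hhom (MvPolynomial.mem_support_iff.1 hm)
        simpa [Finsupp.weight_apply, Finsupp.sum] using h
      simp only [mul_pow, Finset.prod_mul_distrib, Finset.prod_pow_eq_pow_sum, hm']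
      ring
    rw [hscal, hfφ, mul_zero]
  have ha1 : ∀ i, P.1 (φ i / φ j - algebraMap k K (a i)) ≤ exp (-1 : ℤ) := fun i => by
    simpa using (lt_exp_iff _ 0).1 ((ha i).trans_eq exp_zero.symm)
  have hT := taylor_val P (fun i => φ i / φ j) a ha1 f
  have hfa : MvPolynomial.aeval a f = 0 := by
    by_contra hne
    have h : P.1 (algebraMap k K (MvPolynomial.aeval a f)) < 1 := by
      set S := ∑ i, grad a f i • (φ i / φ j - algebraMap k K (a i))
      rw [show algebraMap k K (MvPolynomial.aeval a f) =
        -((0 : K) - algebraMap k K (MvPolynomial.aeval a f) - S) - S by ring, ← hψf]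
      refine lt_of_le_of_lt (P.1.map_sub _ _) (max_lt ?_ ?_)
      · rw [Valuation.map_neg]; exact hT.trans_lt (by rw [← exp_zero, exp_lt_exp]; norm_num)
      · exact (Valuation.map_sum_le _ fun i _ => (val_smul_le P _ _).trans (ha1 i)).trans_lt
          (by rw [← exp_zero, exp_lt_exp]; norm_num)
    rw [val_const P hne] at h
    exact lt_irrefl _ h
  have hres : ∀ i, IsLocalRing.residue P.O (b i) = algebraMap k (IsLocalRing.ResidueField P.O) (a i) := fun i => by
    show IsLocalRing.residue P.O (b i) = resHom P (algebraMap k P.O (a i))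
    show resHom P (b i) = _
    rw [← sub_eq_zero, ← map_sub, resHom_eq_zero_iff]
    show P.1 ((b i : K) - algebraMap k K (a i)) < 1
    rw [hb]; exact ha i
  have hcg : ∀ i, c i = grad a f i := fun i => by
    apply (algebraMap k (IsLocalRing.ResidueField P.O)).injective
    rw [hc, grad_apply]
    simp only [hres]
    rw [MvPolynomial.aeval_def, MvPolynomial.aeval_def, MvPolynomial.hom_eval₂]
    rfl
  have heuler : ∑ i, a i * grad a f i = 0 := by
    have h := congrArg (MvPolynomial.aeval a) hhom.sum_X_mul_pderiv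
    rw [map_nsmul, hfa, smul_zero, map_sum] at h
    simpa [grad_apply] using h
  rw [hψf, hfa, map_zero, sub_zero, zero_sub, Valuation.map_neg] at hT
  refine le_trans (le_of_eq (congrArg P.1 ?_)) hT
  simp only [hcg, Algebra.smul_def, mul_sub, Finset.sum_sub_distrib, ← map_mul, ← map_sum]
  rw [Finset.sum_congr rfl (fun i _ => mul_comm (grad a f i) (a i)), heuler, map_zero, sub_zero]

end Groth.Agent.FFWr
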