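import Groth.Agent.FFWr.WPts
import Groth.Agent.FF.Small

/-! Finiteness of torsion in genus one and vanishing sequences at two points. -/

set_option autoImplicit false
set_option maxHeartbeats 600000
set_option linter.unusedSectionVars false
set_option linter.style.haveILetI false

open FunFld WithZero Groth.Agent.FF

namespace Groth.Agent.FFWr

variable {k K : Type*} [Field k] [IsAlgClosed k] [Field K] [Algebra k K] (hK : IsFunctionField k K)
include hK

theorem finite_torsion_genus_one (hg : genus k K = 1) (hchar : ringChar k = 0) (P : Place k K) {m : ℕ}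
    (hm : 1 ≤ m) :
    {Q : Place k K | Q ≠ P ∧ 0 < ell (Finsupp.single P (m : ℤ) - Finsupp.single Q (m : ℤ))}.Finite := by
  classical
  have hP1 := deg_eq_one hK P
  rcases Nat.lt_or_ge m 2 with hm2 | hm2
  · obtain rfl : m = 1 := by omega
    refine Set.finite_empty.subset fun Q ⟨hQP, hQ⟩ => ?_
    have h1 : ell (Finsupp.single P (1 : ℤ)) = 1 := ell_single_one hK (by omega) hP1
    have hle : L (Finsupp.single P ((1 : ℕ) : ℤ) - Finsupp.single Q ((1 : ℕ) : ℤ)) = ⊥ := by
      rw [Submodule.eq_bot_iff]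
      intro x hx
      by_contra hx0
      have hxL : x ∈ L (Finsupp.single P (1 : ℤ)) := fun R => by
        refine (hx R).trans ?_
        rw [exp_le_exp, Finsupp.sub_apply, Nat.cast_one]
        have : (0 : ℤ) ≤ Finsupp.single Q (1 : ℤ) R := by
          rw [Finsupp.single_apply]; split_ifs <;> norm_num
        omega
      haveI := finiteDimensional_L hK (Finsupp.single P (1 : ℤ))
      have hone : (1 : K) ∈ L (Finsupp.single P (1 : ℤ)) := fun R => by
        rw [map_one, ← exp_zero, exp_le_exp, Finsupp.single_apply]; split_ifs <;> norm_num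
      obtain ⟨c, hc⟩ := exists_smul_eq_of_finrank_eq_one (show Module.finrank k (L (Finsupp.single P (1 : ℤ))) = 1 from h1)
        (x := ⟨1, hone⟩) (by simp) ⟨x, hxL⟩
      have hc' : x = algebraMap k K c := by
        rw [Algebra.algebraMap_eq_smul_one]; exact (congrArg Subtype.val hc).symm
      have hc0 : c ≠ 0 := fun h => hx0 (by rw [hc', h, map_zero])
      have := hx Q
      rw [hc', val_const Q hc0, ← exp_zero, exp_le_exp, Finsupp.sub_apply, Finsupp.single_eq_same,
        Finsupp.single_eq_of_ne hQP] at this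
      norm_num at this
    rw [FunFld.ell, hle, finrank_bot] at hQ
    exact lt_irrefl _ hQ
  obtain ⟨n, rfl⟩ : ∃ n, m = n + 1 := ⟨m - 1, by omega⟩
  set D : Divisor k K := Finsupp.single P ((n + 1 : ℕ) : ℤ) with hD
  have hdegD : D.deg = (n + 1 : ℕ) := by rw [hD, deg_single, hP1]; simp
  have hellD : ell D = n + 1 := by
    have := ell_eq_of_deg_ge hK (D := D) (by rw [hdegD, hg]; push_cast; omega)
    rw [hdegD, hg] at this
    omega
  obtain ⟨φ, hφ, hspan⟩ := exists_basis hK D hellD
  obtain ⟨s, hs⟩ := exists_uniformizer P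
  obtain ⟨H, hH⟩ := exists_hasse (isSepVar_uniformizer hK hs)
  obtain ⟨J, hJ⟩ := exists_orders hK hH (AlgHom.id k K) hφ
  have hJc : J = fun l : Fin n => (l : ℕ) + 1 :=
    isOrders_unique hJ ((classical_orders hK hφ (Or.inl hchar) _ hH).1 rfl)
  obtain ⟨Φ, hΦ⟩ := exists_expansions hK
  refine ((wDiv (AlgHom.id k K) H Φ s φ J).support.finite_toSet).subset fun Q ⟨_, hQ⟩ => ?_
  rw [Finset.mem_coe, Finsupp.mem_support_iff]
  have hQ1 := deg_eq_one hK Q
  obtain ⟨t, ht⟩ := exists_uniformizer Q
  obtain ⟨Ht, hHt⟩ := exists_hasse (isSepVar_uniformizer hK ht)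
  obtain ⟨e, he⟩ := exists_isCoord hK Q ht
  obtain ⟨y, hy, hnorm, heff⟩ := exists_normalized hK hφ Q
  have hli := li_smul hφ hy
  obtain ⟨e1, hJt⟩ := wDiv_normalize hK hφ (AlgHom.id k K) hH hHt hJ hy hΦ
  obtain ⟨J', hJ'⟩ := exists_orders_at hK he hli hnorm heff
  have hpos := he.pos_of_isOrders hJ'
  have hfree : ell (D - Finsupp.single Q 1) < ell D := by
    have := ell_eq_of_deg_ge hK (D := D - Finsupp.single Q 1)
      (by rw [deg_sub, hdegD, deg_single, hg, hQ1]; push_cast; omega)
    rw [deg_sub, hdegD, deg_single, hg, hQ1] at this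
    push_cast at this
    omega
  have hmem : n + 1 ∈ Set.range J' := by
    rw [hJ'.2, isJump_complete_iff hK hfree hspan hy hnorm heff he (by omega)]
    rw [ell_eq_zero_of_deg_neg hK (D := D - Finsupp.single Q (((n + 1 : ℕ) : ℤ) + 1))
      (by rw [deg_sub, hdegD, deg_single, hQ1]; push_cast; omega)]
    exact hQ
  obtain ⟨q, hq⟩ := hmem
  have hsum := (sum_sub_le_wDiv hK (isFixedPt_id hK Q) he hHt hli hnorm heff hJt hJ' hΦ).1
  rw [e1] at hsum
  have hge : ∀ l : Fin n, (l : ℕ) + 1 ≤ J' l := fun l => le_of_strictMono_fin hJ'.1 1 hpos l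
  have h1 : (1 : ℤ) ≤ ∑ l, ((J' l : ℤ) - J l) := by
    refine le_trans ?_ (Finset.single_le_sum (fun l _ => ?_) (Finset.mem_univ q))
    · have := q.2
      rw [hq, hJc]; push_cast; omega
    · have := hge l
      rw [hJc]; push_cast; omega
  omega

omit [IsAlgClosed k] in
lemma div_eq_neg_of_mem_L {E : Divisor k K} (hE : E.deg = 0) {x : K} (hx : x ∈ L E) (hx0 : x ≠ 0) :
    E + div k x = 0 := by
  have h0 : 0 ≤ E + div k x := (mem_L_iff hK.1 hx0).1 hx
  have hd : (E + div k x).deg = 0 := by rw [deg_add, deg_div hK, hE, add_zero]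
  exact eq_zero_of_nonneg_of_deg hK h0 hd

lemma pos_ell_of_two {D : Divisor k K} {d : ℕ} (hdeg : D.deg = d) (P Q : Place k K) {a b : ℕ}
    (hab : a < b) (hb : b ≤ d)
    (ha' : 0 < ell (D - Finsupp.single P (a : ℤ) - Finsupp.single Q ((d - a : ℕ) : ℤ)))
    (hb' : 0 < ell (D - Finsupp.single P (b : ℤ) - Finsupp.single Q ((d - b : ℕ) : ℤ))) :
    0 < ell (Finsupp.single P ((b - a : ℕ) : ℤ) - Finsupp.single Q ((b - a : ℕ) : ℤ)) := by
  have key : ∀ c ≤ d, 0 < ell (D - Finsupp.single P (c : ℤ) - Finsupp.single Q ((d - c : ℕ) : ℤ)) →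
      ∃ x : K, x ≠ 0 ∧ D - Finsupp.single P (c : ℤ) - Finsupp.single Q ((d - c : ℕ) : ℤ) = -(div k x) := by
    intro c hc h
    obtain ⟨x, hx, hx0⟩ := Submodule.exists_mem_ne_zero_of_ne_bot
      (p := L (D - Finsupp.single P (c : ℤ) - Finsupp.single Q ((d - c : ℕ) : ℤ))) (fun hbot => by
      rw [FunFld.ell, hbot, finrank_bot] at h; exact lt_irrefl _ h)
    refine ⟨x, hx0, eq_neg_of_add_eq_zero_left (div_eq_neg_of_mem_L hK ?_ hx hx0)⟩
    rw [deg_sub, deg_sub, deg_single, deg_single, deg_eq_one hK, deg_eq_one hK, hdeg]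
    push_cast [Nat.cast_sub hc]; ring
  obtain ⟨x, hx0, hx⟩ := key a (by omega) ha'
  obtain ⟨y, hy0, hy⟩ := key b hb hb'
  have hdiv : Finsupp.single P ((b - a : ℕ) : ℤ) - Finsupp.single Q ((b - a : ℕ) : ℤ) = -(div k (x * y⁻¹)) := by
    have h : (D - Finsupp.single P (a : ℤ) - Finsupp.single Q ((d - a : ℕ) : ℤ)) -
        (D - Finsupp.single P (b : ℤ) - Finsupp.single Q ((d - b : ℕ) : ℤ)) = -(div k x) - -(div k y) := by
      rw [hx, hy]
    rw [div_mul hK.1 hx0 (inv_ne_zero hy0), div_inv hK.1]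
    refine Eq.trans ?_ (h.trans (by abel))
    push_cast [Nat.cast_sub hab.le, Nat.cast_sub (show a ≤ d by omega), Nat.cast_sub hb]
    rw [Finsupp.single_sub, Finsupp.single_sub, Finsupp.single_sub, Finsupp.single_sub]
    abel
  rw [hdiv, FunFld.ell, Nat.pos_iff_ne_zero]
  intro h
  haveI := finiteDimensional_L hK (-(div k (x * y⁻¹)))
  have hmem : x * y⁻¹ ∈ L (-(div k (x * y⁻¹))) := by
    rw [mem_L_iff hK.1 (mul_ne_zero hx0 (inv_ne_zero hy0)), neg_add_cancel]
  rw [Submodule.finrank_eq_zero.1 h, Submodule.mem_bot] at hmem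
  exact mul_ne_zero hx0 (inv_ne_zero hy0) hmem

/-- A linear system cannot have total ramification `≥ (r+1)d + 1 - r` at two points `P,Q`
unless some `m (P - Q)` with `1 ≤ m ≤ d` is principal. -/
theorem exists_torsion_of_vanishing {D : Divisor k K} {V : Submodule k K} {d r : ℕ} (hdeg : D.deg = d)
    (hV : V ≤ L D) (hfin : Module.finrank k V = r + 1) (P Q : Place k K)
    (hsum : (r + 1) * d + 1 ≤
        (∑ n ∈ Finset.range d, Module.finrank k ↥(V ⊓ L (D - Finsupp.single P ((n : ℤ) + 1)))) +
          (∑ n ∈ Finset.range d, Module.finrank k ↥(V ⊓ L (D - Finsupp.single Q ((n : ℤ) + 1)))) + r)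
    (hPQ : P ≠ Q) :
    ∃ m : ℕ, 1 ≤ m ∧ m ≤ d ∧ 0 < ell (Finsupp.single P (m : ℤ) - Finsupp.single Q (m : ℤ)) := by
  classical
  haveI := finiteDimensional_L hK D
  haveI : FiniteDimensional k V := Submodule.finiteDimensional_of_le hV
  by_contra hno
  push Not at hno
  let f : Place k K → ℕ → ℕ := fun R a => Module.finrank k ↥(V ⊓ L (D - Finsupp.single R (a : ℤ)))
  have hf0 : ∀ R, f R 0 = r + 1 := fun R => by
    show Module.finrank k ↥(V ⊓ L (D - Finsupp.single R ((0 : ℕ) : ℤ))) = _
    rw [Nat.cast_zero, Finsupp.single_zero, sub_zero, inf_eq_left.2 hV, hfin]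
  have hbound : ∀ a ≤ d, f P a + f Q (d - a) ≤
      (r + 1) + ell (D - Finsupp.single P (a : ℤ) - Finsupp.single Q ((d - a : ℕ) : ℤ)) := by
    intro a ha
    set A : Submodule k K := V ⊓ L (D - Finsupp.single P (a : ℤ)) with hA
    set B : Submodule k K := V ⊓ L (D - Finsupp.single Q ((d - a : ℕ) : ℤ)) with hB
    haveI : FiniteDimensional k A := Submodule.finiteDimensional_of_le (inf_le_left : A ≤ V)
    haveI : FiniteDimensional k B := Submodule.finiteDimensional_of_le (inf_le_left : B ≤ V)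
    haveI := finiteDimensional_L hK (D - Finsupp.single P (a : ℤ) - Finsupp.single Q ((d - a : ℕ) : ℤ))
    have h1 := Submodule.finrank_sup_add_finrank_inf_eq A B
    have h2 : Module.finrank k ↥(A ⊔ B) ≤ r + 1 :=
      hfin ▸ Submodule.finrank_mono (sup_le inf_le_left inf_le_left)
    have h3 : Module.finrank k ↥(A ⊓ B) ≤
        ell (D - Finsupp.single P (a : ℤ) - Finsupp.single Q ((d - a : ℕ) : ℤ)) := by
      refine Submodule.finrank_mono fun x hx => ?_
      obtain ⟨⟨-, hxP⟩, -, hxQ⟩ := hx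
      intro R
      have hP' := hxP R
      have hQ' := hxQ R
      simp only [Finsupp.sub_apply, Finsupp.single_apply] at hP' hQ' ⊢
      by_cases h : P = R
      · subst h
        rw [if_neg hPQ.symm, sub_zero]
        exact hP'
      · rw [if_neg h, sub_zero]
        exact hQ'
    show Module.finrank k A + Module.finrank k B ≤ _
    omega
  have hle1 : ∀ a ≤ d, ell (D - Finsupp.single P (a : ℤ) - Finsupp.single Q ((d - a : ℕ) : ℤ)) ≤ 1 := by
    intro a ha
    have hd0 : (D - Finsupp.single P (a : ℤ) - Finsupp.single Q ((d - a : ℕ) : ℤ)).deg = 0 := by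
      rw [deg_sub, deg_sub, deg_single, deg_single, deg_eq_one hK, deg_eq_one hK, hdeg]
      push_cast [Nat.cast_sub ha]; ring
    rcases Nat.eq_zero_or_pos (ell (D - Finsupp.single P (a : ℤ) - Finsupp.single Q ((d - a : ℕ) : ℤ))) with h | h
    · omega
    obtain ⟨z, hz, hE⟩ := exists_nonneg_equiv hK h
    have h5 := ell_le_of_nonneg hK hE
    rw [ell_add_div hK hz, deg_add, deg_div hK, hd0] at h5
    omega
  -- the exceptional values of `a`
  set S : Finset ℕ := (Finset.range (d + 1)).filter fun a : ℕ =>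
    0 < ell (D - Finsupp.single P (a : ℤ) - Finsupp.single Q ((d - a : ℕ) : ℤ)) with hS
  have hS1 : S.card ≤ 1 := by
    rw [Finset.card_le_one]
    intro a ha b hb
    simp only [hS, Finset.mem_filter, Finset.mem_range] at ha hb
    by_contra hab
    rcases lt_or_gt_of_ne hab with hlt | hlt
    · exact absurd (hno (b - a) (by omega) (by omega)) (Nat.not_le.2 <| by
        simpa using pos_ell_of_two hK hdeg P Q hlt (by omega) ha.2 hb.2)
    · exact absurd (hno (a - b) (by omega) (by omega)) (Nat.not_le.2 <| by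
        simpa using pos_ell_of_two hK hdeg P Q hlt (by omega) hb.2 ha.2)
  have htot : ∑ a ∈ Finset.range (d + 1), (f P a + f Q (d - a)) ≤ (d + 1) * (r + 1) + 1 := by
    calc ∑ a ∈ Finset.range (d + 1), (f P a + f Q (d - a))
        ≤ ∑ a ∈ Finset.range (d + 1), ((r + 1) + if a ∈ S then 1 else 0) := by
          refine Finset.sum_le_sum fun a ha => ?_
          rw [Finset.mem_range] at ha
          have h1 := hbound a (by omega)
          have h2 := hle1 a (by omega)
          by_cases haS : a ∈ S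
          · rw [if_pos haS]; omega
          · rw [if_neg haS]
            simp only [hS, Finset.mem_filter, Finset.mem_range, not_and, not_lt, Nat.le_zero] at haS
            have := haS ha
            omega
      _ ≤ (d + 1) * (r + 1) + 1 := by
          rw [Finset.sum_add_distrib, Finset.sum_const, Finset.card_range, smul_eq_mul,
            Finset.sum_ite_mem, Finset.sum_const, smul_eq_mul, mul_one]
          have := Finset.card_le_card (Finset.inter_subset_right : Finset.range (d + 1) ∩ S ⊆ S)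
          omega
  rw [Finset.sum_add_distrib, show (∑ a ∈ Finset.range (d + 1), f Q (d - a)) = ∑ a ∈ Finset.range (d + 1), f Q a
    from Finset.sum_range_reflect (fun a => f Q a) (d + 1), Finset.sum_range_succ', Finset.sum_range_succ',
    hf0, hf0] at htot
  simp only [f, Nat.cast_add, Nat.cast_one] at htot
  nlinarith [htot, hsum]

end Groth.Agent.FFWr
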