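import Groth.Agent.FFWr.Complete

/-! Weierstrass points of a function field with classical canonical orders. -/

set_option autoImplicit false
set_option linter.style.haveILetI false
set_option linter.unusedSectionVars false

open FunFld WithZero LaurentSeries
open Groth.Agent.FF

namespace Groth.Agent.FFWr

variable {k K : Type*} [Field k] [IsAlgClosed k] [Field K] [Algebra k K] (hK : IsFunctionField k K)
include hK

lemma canonical_free (hg : 0 < genus k K) {C : Divisor k K} (hC : IsCanonical k K C) (P : Place k K) :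
    ell (C - Finsupp.single P 1) < ell C := by
  have h := riemann_roch hK hC (Finsupp.single P 1)
  rw [deg_single, deg_eq_one hK P, ell_single_one hK hg (deg_eq_one hK P)] at h
  rw [ell_canonical hK hC]
  push_cast at h
  omega

lemma mapDiv_canonical (hg : 0 < genus k K) {C : Divisor k K} (hC : IsCanonical k K C) {n : ℕ}
    {φ : Fin (n + 1) → K} (hφ : LinearIndependent k φ) (hspan : Submodule.span k (Set.range φ) = L C) :
    mapDiv k φ = C := by
  ext Q
  rw [mapDiv_apply hK.1]
  obtain ⟨x, hx, hxv⟩ := (ell_lt_iff_exists hK C Q).1 (canonical_free hK hg hC Q)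
  rw [← hspan] at hx
  obtain ⟨a, rfl⟩ := (Submodule.mem_span_range_iff_exists_fun k).1 hx
  have h1 := val_sum_smul_le hφ.ne_zero a Q
  rw [hxv, exp_le_exp] at h1
  obtain ⟨i, hi⟩ := exists_minOrd φ Q
  have hmem : φ i ∈ L C := hspan ▸ Submodule.subset_span ⟨i, rfl⟩
  have h2 := (val_le_exp_iff Q (hφ.ne_zero i) _).1 (hmem Q)
  omega

omit [IsAlgClosed k] hK in
lemma det_binom_succ_ne_zero {n d : ℕ} (hchar : ringChar k = 0 ∨ d < ringChar k) {J : Fin n → ℕ}
    (hJ : StrictMono J) (hpos : ∀ l, 0 < J l) (hd : ∀ l, J l ≤ d) :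
    (binomMat k J (fun l : Fin n => (l : ℕ) + 1)).det ≠ 0 := by
  let v : Fin (n + 1) → ℕ := Fin.cases 0 J
  have hv : StrictMono v := by
    intro x z hxy
    cases x using Fin.cases with
    | zero =>
      cases z using Fin.cases with
      | zero => exact absurd hxy (lt_irrefl _)
      | succ z => simpa [v] using hpos z
    | succ x =>
      cases z using Fin.cases with
      | zero => exact absurd hxy (Fin.not_lt_zero _)
      | succ z => simpa [v] using hJ (Fin.succ_lt_succ_iff.1 hxy)
  have hvd : ∀ i, v i ≤ d := fun i => by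
    cases i using Fin.cases with
    | zero => simp [v]
    | succ l => simpa [v] using hd l
  have h := det_choose_ne_zero (k := k) hchar v hv hvd
  rw [det_eq_det_submatrix_of_row_zero _ (fun j => by simp [v])] at h
  have hsub : (Matrix.of fun i j : Fin (n + 1) => ((v i).choose (j : ℕ) : k)).submatrix Fin.succ Fin.succ =
      binomMat k J (fun l : Fin n => (l : ℕ) + 1) := by
    ext r c; simp [v, binomMat]
  rw [hsub] at h
  exact right_ne_zero_of_mul h

/-- the weight of a place for the canonical map -/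
theorem weight_canonical (hg : 1 < genus k K)
    (hchar : ringChar k = 0 ∨ 2 * genus k K - 2 < ringChar k)
    {C : Divisor k K} (hC : IsCanonical k K C) {n : ℕ} {φ : Fin (n + 1) → K} (hφ : LinearIndependent k φ)
    (hspan : Submodule.span k (Set.range φ) = L C) {s : K} {H : K →ₐ[k] PowerSeries K}
    (hH : LocRes.IsHasseFamily s H) {J : Fin n → ℕ} (hJ : IsOrders K (hcol (AlgHom.id k K) H φ) J)
    {Φ : Place k K → (K →ₐ[k] LaurentSeries k)} (hΦ : ∀ P : Place k K, LocRes.IsExpansionAt P.1 (Φ P))
    (P : Place k K) :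
    genus k K = n + 1 ∧ (∀ l : Fin n, J l = (l : ℕ) + 1) ∧
    wDiv (AlgHom.id k K) H Φ s φ J P * 2 ≤ (n : ℤ) * (n + 1) ∧
    (wDiv (AlgHom.id k K) H Φ s φ J P * 2 = (n : ℤ) * (n + 1) → ell (Finsupp.single P (2 : ℤ)) = 2) ∧
    (wDiv (AlgHom.id k K) H Φ s φ J P ≠ 0 ↔ 1 < ell (Finsupp.single P (genus k K : ℤ))) := by
  classical
  set g := genus k K with hgdef
  have hgn : g = n + 1 := by
    rw [hgdef, ← ell_canonical hK hC, FunFld.ell, ← hspan, finrank_span_eq_card hφ, Fintype.card_fin]
  have hn0 : 0 < n := by omega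
  have hP1 := deg_eq_one hK P
  have hmd : mapDiv k φ = C := mapDiv_canonical hK (by omega) hC hφ hspan
  have hdegC := deg_canonical hK hC
  rw [← hgdef] at hdegC
  have hcharφ : ringChar k = 0 ∨ (mapDiv k φ).deg < ringChar k := hchar.imp id fun h => by
    rw [hmd, hdegC]; omega
  have hJc : J = fun l : Fin n => (l : ℕ) + 1 :=
    isOrders_unique hJ ((classical_orders hK hφ hcharφ _ hH).1 rfl)
  refine ⟨hgn, fun l => congrFun hJc l, ?_⟩
  obtain ⟨t, ht⟩ := exists_uniformizer P
  obtain ⟨Ht, hHt⟩ := exists_hasse (isSepVar_uniformizer hK ht)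
  obtain ⟨e, he⟩ := exists_isCoord hK P ht
  obtain ⟨y, hy, hnorm, heff⟩ := exists_normalized hK hφ P
  have hli := li_smul hφ hy
  obtain ⟨e1, hJt⟩ := wDiv_normalize hK hφ (AlgHom.id k K) hH hHt hJ hy hΦ
  obtain ⟨J', hJ'⟩ := exists_orders_at hK he hli hnorm heff
  have hpos := he.pos_of_isOrders hJ'
  have hd : ∀ l, J' l ≤ 2 * g - 2 := fun l => by
    have h := orders_at_le_deg hK he hli hnorm heff hJ' l
    rw [deg_mapDiv_smul hK hφ hy, hmd, hdegC] at h
    omega
  have hdet : (binomMat k J' J).det ≠ 0 := hJc ▸ det_binom_succ_ne_zero hchar hJ'.1 hpos hd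
  have hw := ((sum_sub_le_wDiv hK (isFixedPt_id hK P) he hHt hli hnorm heff hJt hJ' hΦ).2 (Or.inl rfl)).2 hdet
  rw [e1] at hw
  -- the gap count
  have hord : ∀ j : ℕ, 1 ≤ j → (j ∈ Set.range J' ↔
      ell (Finsupp.single P ((j : ℤ) + 1)) = ell (Finsupp.single P (j : ℤ))) := by
    intro j hj
    rw [hJ'.2, isJump_complete_iff hK (canonical_free hK (by omega) hC P) hspan hy hnorm heff he hj]
    have h1 := riemann_roch hK hC (Finsupp.single P (j : ℤ))
    have h2 := riemann_roch hK hC (Finsupp.single P ((j : ℤ) + 1))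
    rw [deg_single, hP1] at h1 h2
    have h3 := (ell_sub_single_le hK (Finsupp.single P ((j : ℤ) + 1)) P)
    rw [← Finsupp.single_sub, add_sub_cancel_right, hP1] at h3
    push_cast at h1 h2
    omega
  have hcount : ∀ i : ℕ, 1 ≤ i →
      ell (Finsupp.single P (i : ℤ)) + (Finset.univ.filter fun q => J' q < i).card = i := by
    intro i hi
    induction i, hi using Nat.le_induction with
    | base =>
      have h0 : (Finset.univ.filter fun q => J' q < 1) = ∅ :=
        Finset.filter_eq_empty_iff.2 fun q _ => by have := hpos q; omega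
      rw [h0, Nat.cast_one, ell_single_one hK (by omega) hP1]
      rfl
    | succ i hi ih =>
      have h3 := (ell_sub_single_le hK (Finsupp.single P ((i : ℤ) + 1)) P)
      rw [← Finsupp.single_sub, add_sub_cancel_right, hP1] at h3
      push_cast
      by_cases hr : i ∈ Set.range J'
      · obtain ⟨q, hq⟩ := hr
        have hins : (Finset.univ.filter fun r => J' r < i + 1) = insert q (Finset.univ.filter fun r => J' r < i) := by
          ext r
          simp only [Finset.mem_filter, Finset.mem_univ, true_and, Finset.mem_insert]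
          refine ⟨fun h => ?_, fun h => ?_⟩
          · rcases Nat.lt_succ_iff_lt_or_eq.1 h with h' | h'
            · exact Or.inr h'
            · exact Or.inl (hJ'.1.injective (h'.trans hq.symm))
          · rcases h with rfl | h <;> omega
        rw [hins, Finset.card_insert_of_notMem (by simp [hq]), (hord i hi).1 ⟨q, hq⟩]
        omega
      · have hsame : (Finset.univ.filter fun r => J' r < i + 1) = Finset.univ.filter fun r => J' r < i :=
          Finset.filter_congr fun r _ => ⟨fun h => lt_of_le_of_ne (Nat.lt_succ_iff.1 h) fun e => hr ⟨r, e⟩,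
            fun h => h.trans (Nat.lt_succ_self i)⟩
        have h4 := mt (hord i hi).2 hr
        rw [hsame]
        omega
  have hbound : ∀ l : Fin n, J' l ≤ 2 * ((l : ℕ) + 1) := by
    intro l
    have h := hcount (J' l) (hpos l)
    have hc : (Finset.univ.filter fun q => J' q < J' l).card = (l : ℕ) := by
      rw [show (Finset.univ.filter fun q => J' q < J' l) = Finset.Iio l by ext q; simp [hJ'.1.lt_iff_lt],
        Fin.card_Iio]
    rw [hc] at h
    have hcl := clifford hK hP1 (D := Finsupp.single P (J' l : ℤ)) (by rw [deg_single, hP1]; omega)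
      (by rw [deg_single, hP1]; have := hd l; omega)
    rw [deg_single, hP1] at hcl
    omega
  have hge : ∀ l : Fin n, (l : ℕ) + 1 ≤ J' l := fun l => le_of_strictMono_fin hJ'.1 1 hpos l
  rw [hJc] at hw ⊢
  have htri : (∑ l : Fin n, ((l : ℕ) : ℤ)) * 2 = (n : ℤ) * (n - 1) := by
    have h := Finset.sum_range_id_mul_two n
    rw [← Fin.sum_univ_eq_sum_range (fun i => i)] at h
    have h' := congrArg (fun x : ℕ => (x : ℤ)) h
    push_cast [Nat.cast_sub (show 1 ≤ n from hn0)] at h'
    exact h'
  have hbd : ∀ l ∈ Finset.univ, ((J' l : ℤ) - (((l : Fin n) : ℕ) + 1 : ℕ)) ≤ ((l : ℕ) : ℤ) + 1 := fun l _ => by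
    have := hbound l; push_cast; omega
  have hsum1 : (∑ l : Fin n, (((l : ℕ) : ℤ) + 1)) * 2 = (n : ℤ) * (n + 1) := by
    rw [Finset.sum_add_distrib, add_mul, htri, Finset.sum_const, Finset.card_univ, Fintype.card_fin, nsmul_eq_mul]
    ring
  refine ⟨?_, fun heq => ?_, ?_⟩
  · rw [hw, ← hsum1]
    have := Finset.sum_le_sum hbd
    linarith
  · rw [hw, ← hsum1] at heq
    have h2 := (Finset.sum_eq_sum_iff_of_le hbd).1 (by linarith) ⟨0, hn0⟩ (Finset.mem_univ _)
    have h3 := hcount 2 (by omega)
    have h0 : (Finset.univ.filter fun q => J' q < 2) = ∅ := Finset.filter_eq_empty_iff.2 fun q _ => by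
      have := hJ'.1.monotone (show (⟨0, hn0⟩ : Fin n) ≤ q from Nat.zero_le q.1)
      simp only at h2
      push_cast at h2
      omega
    rw [h0] at h3
    simpa using h3
  · rw [hw, hgn]
    have h := hcount (n + 1) (by omega)
    constructor
    · intro hne
      by_contra hle
      have hall : (Finset.univ.filter fun q => J' q < n + 1) = Finset.univ :=
        Finset.eq_univ_of_card _ (le_antisymm (Finset.card_le_univ _) (by rw [Fintype.card_fin]; omega))
      refine hne (Finset.sum_eq_zero fun l _ => ?_)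
      have hlast : J' ⟨n - 1, by omega⟩ < n + 1 := by
        have := Finset.mem_univ (⟨n - 1, by omega⟩ : Fin n)
        rw [← hall] at this
        exact (Finset.mem_filter.1 this).2
      have := strictMono_fin_gap hJ'.1 (show l ≤ ⟨n - 1, by omega⟩ from Nat.le_sub_one_of_lt l.2)
      have := hge l
      have := l.2
      simp only at *
      push_cast
      omega
    · intro hlt h0
      have hall := (Finset.sum_eq_zero_iff_of_nonneg (fun l _ => by have := hge l; push_cast; omega)).1 h0
      have hfull : (Finset.univ.filter fun q => J' q < n + 1) = Finset.univ :=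
        Finset.filter_eq_self.2 fun q _ => by
          have h5 := hall q (Finset.mem_univ _)
          have := q.2
          push_cast at h5
          omega
      rw [hfull, Finset.card_univ, Fintype.card_fin] at h
      push_cast at hlt h
      omega

lemma linearIndependent_pow_of_transcendental {x : K} (hx : Transcendental k x) (m : ℕ) :
    LinearIndependent k (fun i : Fin m => x ^ (i : ℕ)) := by
  rw [Fintype.linearIndependent_iff]
  intro a ha i
  have h := (transcendental_iff.1 hx) (∑ j : Fin m, Polynomial.C (a j) * Polynomial.X ^ (j : ℕ)) (by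
    simpa [Algebra.smul_def] using ha)
  have := congrArg (fun p => Polynomial.coeff p (i : ℕ)) h
  simpa [Polynomial.coeff_C_mul_X_pow, Fin.val_inj] using this

/-- hyperelliptic data at a place with `ℓ(2P) = 2` -/
theorem hyperelliptic_data (hg : 1 < genus k K) {P : Place k K} (h2 : ell (Finsupp.single P (2 : ℤ)) = 2) :
    ∃ x : K, Module.finrank (IntermediateField.adjoin k ({x} : Set K)) K = 2 ∧
      P.1 x = exp (2 : ℤ) ∧ (∀ R : Place k K, R ≠ P → R.1 x ≤ 1) ∧
      (∀ w : K, w ∈ L (Finsupp.single P (2 : ℤ)) → ∃ α β : k, w = α • x + algebraMap k K β) ∧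
      (∀ Q : Place k K, Q ≠ P → ell (Finsupp.single Q (2 : ℤ)) = 2 → ∃ a : k, 0 < Q.ord (x - algebraMap k K a) ∧
        ∀ R : Place k K, 0 < R.ord (x - algebraMap k K a) → R = Q) := by
  classical
  have hP1 := deg_eq_one hK P
  have h1 := ell_single_one hK (show 0 < genus k K by omega) hP1
  obtain ⟨x, hx, hxv⟩ := (ell_lt_iff_exists hK (Finsupp.single P (2 : ℤ)) P).1 (by
    rw [← Finsupp.single_sub, show (2 : ℤ) - 1 = 1 by norm_num, h1, h2]; norm_num)
  rw [Finsupp.single_eq_same] at hxv
  have hxt : Transcendental k x := fun ha => by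
    have := ord_eq_zero_of_isAlgebraic P ha
    rw [ord_of_val_eq P hxv] at this
    omega
  have hx0 : x ≠ 0 := ne_zero_of_val_eq_exp P hxv
  have hother : ∀ R : Place k K, R ≠ P → R.1 x ≤ 1 := fun R hR => by
    have := hx R
    rwa [Finsupp.single_eq_of_ne hR, exp_zero] at this
  have hdeg2 : ∀ a : k, Module.finrank (IntermediateField.adjoin k ({x - algebraMap k K a} : Set K)) K = 2 := by
    intro a
    have hv : P.1 (x - algebraMap k K a) = exp (2 : ℤ) := by
      rw [Valuation.map_sub_eq_of_lt_left, hxv]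
      rw [hxv]
      exact (P.2.1 a).trans_lt (by rw [← exp_zero, exp_lt_exp]; norm_num)
    have hne : Transcendental k (x - algebraMap k K a) := fun ha => by
      have := ord_eq_zero_of_isAlgebraic P ha
      rw [ord_of_val_eq P hv] at this
      omega
    have := finrank_adjoin_eq_neg_ord_mul hK hne (P := P) (by rw [ord_of_val_eq P hv]; norm_num) fun R hR => by
      rw [← val_le_one_iff]
      exact Valuation.map_sub_le _ (hother R hR) (R.2.1 a)
    rw [ord_of_val_eq P hv, hP1] at this
    norm_num at this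
    exact_mod_cast this
  refine ⟨x, (congrArg (fun w => Module.finrank (IntermediateField.adjoin k ({w} : Set K)) K) (show x = x - algebraMap k K 0 by rw [map_zero, sub_zero])).trans (hdeg2 0), hxv, hother, fun w hw => ?_, fun Q hQP hQ2 => ?_⟩
  · haveI := finiteDimensional_L hK (Finsupp.single P (2 : ℤ))
    have hle : Submodule.span k (Set.range fun i : Fin 2 => x ^ (i : ℕ)) ≤ L (Finsupp.single P (2 : ℤ)) := by
      rw [Submodule.span_le]
      rintro _ ⟨i, rfl⟩
      fin_cases i
      · simp only [pow_zero]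
        intro R
        rw [map_one, ← exp_zero, exp_le_exp, Finsupp.single_apply]
        split_ifs <;> norm_num
      · simpa using hx
    have heq := Submodule.eq_of_le_of_finrank_eq hle (by
      rw [finrank_span_eq_card (linearIndependent_pow_of_transcendental hK hxt 2), Fintype.card_fin]
      exact h2.symm)
    rw [← heq] at hw
    obtain ⟨c, hc⟩ := (Submodule.mem_span_range_iff_exists_fun k).1 hw
    refine ⟨c 1, c 0, ?_⟩
    rw [← hc, Fin.sum_univ_two]
    simp [Algebra.smul_def]
    ring
  · have hQ1 := deg_eq_one hK Q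
    obtain ⟨a, ha⟩ := exists_residue hK Q (hother Q hQP)
    have hne : x - algebraMap k K a ≠ 0 := fun h => notMem_of_transcendental hxt ⟨a, (sub_eq_zero.1 h).symm⟩
    refine ⟨a, (val_lt_one_iff Q hne).1 ha, ?_⟩
    -- `D = (2g-2) P` is linearly equivalent to the canonical class
    obtain ⟨C, hC⟩ := exists_canonical hK
    set g := genus k K with hgdef
    set D : Divisor k K := Finsupp.single P ((2 * g - 2 : ℕ) : ℤ) with hD
    have hpow : ∀ i : ℕ, 2 * i ≤ 2 * g - 2 → x ^ i ∈ L D := fun i hi R => by
      rw [map_pow, hD, Finsupp.single_apply]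
      split_ifs with e
      · subst e; rw [hxv, ← exp_nsmul, exp_le_exp, nsmul_eq_mul]; omega
      · rw [exp_zero]; exact pow_le_one₀ zero_le (hother R (Ne.symm e))
    haveI := finiteDimensional_L hK D
    have hgD : g ≤ ell D := by
      have hle : Submodule.span k (Set.range fun i : Fin g => x ^ (i : ℕ)) ≤ L D := by
        rw [Submodule.span_le]; rintro _ ⟨i, rfl⟩; exact hpow i (by have := i.2; omega)
      have := Submodule.finrank_mono hle
      rwa [finrank_span_eq_card (linearIndependent_pow_of_transcendental hK hxt g), Fintype.card_fin] at this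
    have hrr := riemann_roch hK hC D
    rw [hD, deg_single, hP1, ← hD] at hrr
    obtain ⟨z, hz, hnn⟩ := exists_nonneg_equiv hK (D := C - D) (by push_cast at hrr; omega)
    have hz0 : C - D + div k z = 0 := by
      refine le_antisymm (fun R => ?_) hnn
      by_contra hlt
      rw [Finsupp.zero_apply, not_le] at hlt
      have h2' : Finsupp.single R 1 ≤ C - D + div k z := fun Q' => by
        rw [Finsupp.single_apply]
        split_ifs with e
        · subst e; omega
        · exact hnn Q'
      have h3 := deg_mono h2'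
      rw [deg_single, deg_add, deg_sub, deg_div hK, deg_canonical hK hC, hD, deg_single, hP1, deg_eq_one hK R] at h3
      push_cast at h3
      omega
    have hell : ∀ i : ℤ, ell (D - Finsupp.single Q i) = ell (C - Finsupp.single Q i) := fun i => by
      rw [← ell_add_div hK (D := C - Finsupp.single Q i) hz]
      congr 1
      rw [sub_add_eq_add_sub]
      congr 1
      have h5 : C + div k z - D = 0 := by rw [← hz0]; abel
      exact (sub_eq_zero.1 h5).symm
    have e1 := riemann_roch hK hC (Finsupp.single Q (1 : ℤ))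
    have e2 := riemann_roch hK hC (Finsupp.single Q (2 : ℤ))
    rw [deg_single, hQ1, ell_single_one hK (show 0 < genus k K by omega) hQ1] at e1
    rw [deg_single, hQ1, hQ2] at e2
    haveI := finiteDimensional_L hK (D - Finsupp.single Q (1 : ℤ))
    have heq : L (D - Finsupp.single Q (2 : ℤ)) = L (D - Finsupp.single Q (1 : ℤ)) := by
      refine Submodule.eq_of_le_of_finrank_eq
        (L_mono (sub_le_sub_left (Finsupp.single_le_single.2 (by norm_num)) _)) ?_
      show ell _ = ell _
      rw [hell, hell]
      push_cast at e1 e2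
      omega
    have hxa : x - algebraMap k K a ∈ L (D - Finsupp.single Q (1 : ℤ)) := by
      rw [mem_L_sub_single zero_le_one]
      refine ⟨?_, ?_⟩
      · have h1' := hpow 1 (by omega)
        rw [pow_one] at h1'
        refine sub_mem h1' ?_
        rw [Algebra.algebraMap_eq_smul_one]
        exact Submodule.smul_mem _ _ (by simpa using hpow 0 (by omega))
      · rw [hD, Finsupp.single_eq_of_ne hQP, zero_sub, val_le_exp_iff Q hne, neg_neg]
        have := (val_lt_one_iff Q hne).1 ha
        omega
    rw [← heq, mem_L_sub_single (by norm_num)] at hxa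
    have hord2 : 2 ≤ Q.ord (x - algebraMap k K a) := by
      have := (val_le_exp_iff Q hne _).1 hxa.2
      rw [hD, Finsupp.single_eq_of_ne hQP] at this
      omega
    intro R hR
    by_contra hRQ
    have hxat : Transcendental k (x - algebraMap k K a) := fun hal => by
      have := ord_eq_zero_of_isAlgebraic Q hal
      omega
    have hz1 := deg_zeroDiv hK.1 hxat
    rw [hdeg2 a] at hz1
    have hle : Finsupp.single Q 2 + Finsupp.single R 1 ≤ zeroDiv (k := k) (x - algebraMap k K a) := fun S => by
      rw [Finsupp.add_apply, Finsupp.single_apply, Finsupp.single_apply]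
      show _ ≤ ((div k (x - algebraMap k K a)) ⊔ 0) S
      rw [Finsupp.sup_apply, div_eq hK, Finsupp.zero_apply]
      split_ifs with e1 e2 e2
      · exact absurd (e2.trans e1.symm) hRQ
      · subst e1; exact le_max_of_le_left (by omega)
      · subst e2; exact le_max_of_le_left (by omega)
      · exact le_max_of_le_right (by norm_num)
    have := deg_mono hle
    rw [deg_add, deg_single, deg_single, hQ1, deg_eq_one hK R, hz1] at this
    norm_num at this

lemma fixed_iff_pull {σ : K ≃ₐ[k] K} (Q : Place k K) :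
    IsFixedPt (σ : K →ₐ[k] K) Q ↔ pullK Q σ = Q := by
  constructor
  · intro h
    exact Subtype.ext (Valuation.ext fun z => val_map_eq_of_fixed hK h z)
  · intro h z hz
    have : (pullK Q σ).1 z = Q.1 z := by rw [h]
    show Q.1 (σ z) < 1
    exact lt_of_eq_of_lt this hz

omit [IsAlgClosed k] hK in
lemma pullK_eq_imp {σ : K ≃ₐ[k] K} {R P : Place k K} (hP : pullK P σ = P) (hR : pullK R σ = P) : R = P := by
  refine Subtype.ext (Valuation.ext fun z => ?_)
  obtain ⟨w, rfl⟩ := σ.surjective z
  have h1 : (pullK R σ).1 w = (pullK P σ).1 w := by rw [hP, hR]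
  exact h1

theorem wpts_dichotomy (hg : 1 < genus k K)
    (hchar : ringChar k = 0 ∨ 2 * genus k K - 2 < ringChar k)
    {C : Divisor k K} (hC : IsCanonical k K C) {n : ℕ} {φ : Fin (n + 1) → K} (hφ : LinearIndependent k φ)
    (hspan : Submodule.span k (Set.range φ) = L C) {s : K} {H : K →ₐ[k] PowerSeries K}
    (hH : LocRes.IsHasseFamily s H) {J : Fin n → ℕ} (hJ : IsOrders K (hcol (AlgHom.id k K) H φ) J)
    {Φ : Place k K → (K →ₐ[k] LaurentSeries k)} (hΦ : ∀ P : Place k K, LocRes.IsExpansionAt P.1 (Φ P)) :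
    (2 * genus k K + 2 < Set.ncard {P : Place k K | wDiv (AlgHom.id k K) H Φ s φ J P ≠ 0} ∧
      ∀ σ : K ≃ₐ[k] K, (∀ P : Place k K, wDiv (AlgHom.id k K) H Φ s φ J P ≠ 0 →
        IsFixedPt (σ : K →ₐ[k] K) P) → σ = AlgEquiv.refl) ∨
    (Set.ncard {P : Place k K | wDiv (AlgHom.id k K) H Φ s φ J P ≠ 0} = 2 * genus k K + 2 ∧
      ∃ x : K, Module.finrank (IntermediateField.adjoin k ({x} : Set K)) K = 2 ∧
        ∀ σ : K ≃ₐ[k] K, (∀ P : Place k K, wDiv (AlgHom.id k K) H Φ s φ J P ≠ 0 →
          IsFixedPt (σ : K →ₐ[k] K) P) ↔ σ x = x) := by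
  classical
  have hwt := weight_canonical hK hg hchar hC hφ hspan hH hJ hΦ
  obtain ⟨P0⟩ := nonempty_place hK.1
  obtain ⟨hgn, hJl, -⟩ := hwt P0
  have hWdeg := deg_wDiv hK (φ := φ) (AlgHom.id k K) hH J hΦ
  set W := wDiv (AlgHom.id k K) H Φ s φ J with hW
  have hSset : {P : Place k K | W P ≠ 0} = (W.support : Set (Place k K)) := by ext P; simp
  have hncard : Set.ncard {P : Place k K | W P ≠ 0} = W.support.card := by
    rw [hSset, Set.ncard_coe_finset]
  set S := W.support with hS
  rw [mapDiv_canonical hK (by omega) hC hφ hspan, deg_canonical hK hC,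
    show Module.finrank (AlgHom.id k K).fieldRange K = 1 by
      rw [show (AlgHom.id k K).fieldRange = ⊤ from eq_top_iff.2 fun z _ => ⟨z, rfl⟩, IntermediateField.finrank_top],
    Finset.sum_congr rfl (fun l _ => by rw [hJl l])] at hWdeg
  have htri : (∑ l : Fin n, (((l : ℕ) + 1 : ℕ) : ℤ)) * 2 = (n : ℤ) * (n + 1) := by
    have h := Finset.sum_range_id_mul_two (n + 1)
    rw [Finset.sum_range_succ', ← Fin.sum_univ_eq_sum_range (fun i => i + 1)] at h
    have h' := congrArg (fun x : ℕ => (x : ℤ)) h
    push_cast [Nat.add_sub_cancel] at h' ⊢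
    linarith
  have hdegW : W.deg = ∑ P ∈ S, W P := by
    rw [Divisor.deg, Finsupp.sum]
    exact Finset.sum_congr rfl fun P _ => by rw [deg_eq_one hK P]; simp
  have hmax : ∀ P ∈ S, W P * 2 ≤ (n : ℤ) * (n + 1) := fun P _ => (hwt P).2.2.1
  have hsum : (∑ P ∈ S, W P * 2) ≤ S.card * ((n : ℤ) * (n + 1)) := by
    have := Finset.sum_le_sum hmax
    rwa [Finset.sum_const, nsmul_eq_mul] at this
  have hgZ : (genus k K : ℤ) = n + 1 := by omega
  have htot : (∑ P ∈ S, W P * 2) = (2 * (genus k K : ℤ) + 2) * ((n : ℤ) * (n + 1)) := by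
    rw [← Finset.sum_mul, ← hdegW, hWdeg, hgZ]
    linear_combination (2 * (n : ℤ)) * htri
  have hn0 : 0 < n := by omega
  have hN : 2 * genus k K + 2 ≤ S.card := by
    rw [htot] at hsum
    have hpos : (0 : ℤ) < (n : ℤ) * (n + 1) := by positivity
    have := le_of_mul_le_mul_right hsum hpos
    omega
  rcases hN.lt_or_eq with hlt | heq
  · refine Or.inl ⟨by rw [hncard]; exact hlt, fun σ hσ => ?_⟩
    refine algEquiv_eq_one hK σ (lt_of_lt_of_le ?_ (Set.encard_le_encard
      (show {P : Place k K | W P ≠ 0} ⊆ _ from fun P hP => hσ P hP)))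
    rw [hSset, Set.encard_coe_eq_coe_finsetCard]
    exact_mod_cast hlt
  · refine Or.inr ⟨by rw [hncard]; omega, ?_⟩
    have hall : ∀ P ∈ S, W P * 2 = (n : ℤ) * (n + 1) := by
      refine (Finset.sum_eq_sum_iff_of_le hmax).1 ?_
      rw [htot, Finset.sum_const, nsmul_eq_mul, ← heq]
      push_cast
      ring
    have hell2 : ∀ P ∈ S, ell (Finsupp.single P (2 : ℤ)) = 2 := fun P hP => (hwt P).2.2.2.1 (hall P hP)
    obtain ⟨P, hP⟩ : S.Nonempty := Finset.card_pos.1 (by omega)
    obtain ⟨x, hx2, hxv, hxo, hL2, hQa⟩ := hyperelliptic_data hK hg (hell2 P hP)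
    refine ⟨x, hx2, fun σ => ⟨fun hσ => ?_, fun hσ Q hQ => ?_⟩⟩
    · have hPfix := (fixed_iff_pull hK P).1 (hσ P (Finsupp.mem_support_iff.1 hP))
      have hσL : σ x ∈ L (Finsupp.single P (2 : ℤ)) := fun R => by
        rw [Finsupp.single_apply]
        split_ifs with e
        · subst e
          have : (pullK P σ).1 x = P.1 x := by rw [hPfix]
          exact le_of_eq (Eq.trans this hxv)
        · rw [exp_zero]
          exact hxo (pullK R σ) fun h => e (pullK_eq_imp hPfix h).symm
      obtain ⟨α, β, hαβ⟩ := hL2 _ hσL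
      have hQeq : ∀ Q ∈ S, Q ≠ P → ∀ a : k, 0 < Q.ord (x - algebraMap k K a) → α * a + β = a := by
        intro Q hQ hQP a ha
        have hne : x - algebraMap k K a ≠ 0 := fun h => by rw [h, ord_zero] at ha; omega
        have h1 : Q.1 (x - algebraMap k K a) < 1 := (val_lt_one_iff Q hne).2 ha
        have h2 : Q.1 (σ (x - algebraMap k K a)) < 1 := hσ Q (Finsupp.mem_support_iff.1 hQ) _ h1
        by_contra hne'
        have e : algebraMap k K (α * a + β - a) = σ (x - algebraMap k K a) - α • (x - algebraMap k K a) := by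
          rw [map_sub σ, σ.commutes, hαβ, Algebra.smul_def, Algebra.smul_def, map_sub, map_add, map_mul]
          ring
        have h3 : Q.1 (algebraMap k K (α * a + β - a)) < 1 := by
          rw [e]
          exact lt_of_le_of_lt (Valuation.map_sub _ _ _) (max_lt h2 ((val_smul_le Q α _).trans_lt h1))
        rw [val_const Q (sub_ne_zero.2 hne')] at h3
        exact lt_irrefl _ h3
      obtain ⟨Q, hQ, Q', hQ', hQQ⟩ := Finset.one_lt_card.1
        (show 1 < (S.erase P).card by rw [Finset.card_erase_of_mem hP]; omega)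
      rw [Finset.mem_erase] at hQ hQ'
      obtain ⟨a, ha, hau⟩ := hQa Q hQ.1 (hell2 Q hQ.2)
      obtain ⟨a', ha', hau'⟩ := hQa Q' hQ'.1 (hell2 Q' hQ'.2)
      have e1 := hQeq Q hQ.2 hQ.1 a ha
      have e2 := hQeq Q' hQ'.2 hQ'.1 a' ha'
      have haa : a - a' ≠ 0 := fun h => hQQ (hau' Q (by rw [← sub_eq_zero.1 h]; exact ha))
      have hα : α = 1 := sub_eq_zero.1 ((mul_eq_zero.1
        (show (α - 1) * (a - a') = 0 by linear_combination e1 - e2)).resolve_right haa)
      subst hα
      have hβ : β = 0 := by linear_combination e1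
      rw [hαβ, hβ, one_smul, map_zero, add_zero]
    · rw [fixed_iff_pull hK]
      by_cases hQP : Q = P
      · subst hQP
        by_contra hne
        have := hxo _ hne
        have e : (pullK Q σ).1 x = Q.1 x := by show Q.1 (σ x) = _; rw [hσ]
        rw [e, hxv, ← exp_zero, exp_le_exp] at this
        omega
      · obtain ⟨a, ha, hau⟩ := hQa Q hQP (hell2 Q (Finsupp.mem_support_iff.2 hQ))
        refine hau _ ?_
        show 0 < -WithZero.log (Q.1 (σ (x - algebraMap k K a)))
        rw [map_sub σ, σ.commutes, hσ]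
        exact ha

theorem finite_aut (hg : 1 < genus k K) (hp : ringChar k = 0 ∨ 2 * genus k K - 2 < ringChar k) :
    Finite (K ≃ₐ[k] K) := by
  classical
  obtain ⟨C, hC⟩ := exists_canonical hK
  obtain ⟨φ, hφ, hspan⟩ := exists_basis hK C (n := genus k K - 1) (by rw [ell_canonical hK hC]; omega)
  obtain ⟨s, hs⟩ := exists_isSepVar hK good_of_perfect
  obtain ⟨H, hH⟩ := exists_hasse hs
  obtain ⟨J, hJ⟩ := exists_orders hK hH (AlgHom.id k K) hφ
  obtain ⟨Φ, hΦ⟩ := exists_expansions hK
  set W := wDiv (AlgHom.id k K) H Φ s φ J with hW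
  have hcrit : ∀ P, W P ≠ 0 ↔ 1 < ell (Finsupp.single P (genus k K : ℤ)) := fun P =>
    (weight_canonical hK hg hp hC hφ hspan hH hJ hΦ P).2.2.2.2
  -- automorphisms preserve the support
  have hpres : ∀ (σ : K ≃ₐ[k] K) (P : Place k K), W P ≠ 0 → W (pullK P σ) ≠ 0 := by
    intro σ P hP
    rw [hcrit] at hP ⊢
    refine lt_of_lt_of_le hP (le_of_eq ?_)
    have hval : ∀ (R : Place k K) (x : K), R.1 x = (pullK R σ).1 (σ.symm x) := fun R x => by
      show _ = R.1 (σ (σ.symm x)); rw [σ.apply_symm_apply]
    have hmap : (L (Finsupp.single (pullK P σ) (genus k K : ℤ))).map σ.toAlgHom.toLinearMap =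
        L (Finsupp.single P (genus k K : ℤ)) := by
      ext w
      constructor
      · rintro ⟨x, hx, rfl⟩ R
        rw [Finsupp.single_apply]
        split_ifs with e
        · subst e
          simpa using! hx (pullK P σ)
        · have h5 := hx (pullK R σ)
          rw [Finsupp.single_eq_of_ne (fun h => e (by
            refine Subtype.ext (Valuation.ext fun z => ?_)
            rw [hval P z, hval R z, h]))] at h5
          exact h5
      · intro hw
        refine ⟨σ.symm w, fun R => ?_, σ.apply_symm_apply w⟩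
        have hR : R.1 (σ.symm w) = (pullK R σ.symm).1 w := rfl
        rw [hR, Finsupp.single_apply]
        split_ifs with e
        · subst e
          have e2 : pullK (pullK P σ) σ.symm = P := Subtype.ext (Valuation.ext fun z => by
            show P.1 (σ (σ.symm z)) = _; rw [σ.apply_symm_apply])
          rw [e2]; simpa using hw P
        · have h5 := hw (pullK R σ.symm)
          rw [Finsupp.single_eq_of_ne (fun h => e (by
            rw [← h]
            exact Subtype.ext (Valuation.ext fun z => by
              show R.1 (σ.symm (σ z)) = _; rw [σ.symm_apply_apply])))] at h5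
          exact h5
    rw [FunFld.ell, FunFld.ell, ← hmap]
    exact (Submodule.equivMapOfInjective σ.toAlgHom.toLinearMap σ.injective (L (Finsupp.single (pullK P σ) (genus k K : ℤ)))).finrank_eq.symm
  -- the kernel of the action is finite
  have hker : {σ : K ≃ₐ[k] K | ∀ P : Place k K, W P ≠ 0 → IsFixedPt (σ : K →ₐ[k] K) P}.Finite := by
    rcases wpts_dichotomy hK hg hp hC hφ hspan hH hJ hΦ with ⟨-, h⟩ | ⟨-, x, hx2, h⟩
    · exact (Set.finite_singleton AlgEquiv.refl).subset fun σ hσ => h σ hσ
    · haveI : FiniteDimensional (IntermediateField.adjoin k ({x} : Set K)) K :=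
        Module.finite_of_finrank_pos (by rw [hx2]; norm_num)
      let F := IntermediateField.adjoin k ({x} : Set K)
      refine (Set.finite_range (fun τ : K ≃ₐ[F] K => τ.restrictScalars k)).subset fun σ hσ => ?_
      have hσx := (h σ).1 hσ
      have hfix : ∀ c ∈ F, σ c = c := fun c hc => by
        induction hc using IntermediateField.adjoin_induction with
        | mem w hw => rw [Set.mem_singleton_iff] at hw; subst hw; exact hσx
        | algebraMap c => exact σ.commutes c
        | add a b _ _ ha hb => rw [map_add, ha, hb]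
        | inv a _ ha => rw [map_inv₀, ha]
        | mul a b _ _ ha hb => rw [map_mul, ha, hb]
      exact ⟨AlgEquiv.ofRingEquiv (f := σ.toRingEquiv) (fun c => hfix c c.2), AlgEquiv.ext fun _ => rfl⟩
  haveI := hker.to_subtype
  let T := {P : Place k K // W P ≠ 0}
  haveI : Finite T := Set.Finite.to_subtype (s := {P : Place k K | W P ≠ 0}) (W.support.finite_toSet.subset fun P hP => Finsupp.mem_support_iff.2 hP)
  let act : (K ≃ₐ[k] K) → (T → T) := fun σ P => ⟨pullK P.1 σ, hpres σ P.1 P.2⟩
  have hrep : ∀ f : T → T, ∃ r : K ≃ₐ[k] K, ∀ σ, act σ = f → act r = f := fun f => by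
    by_cases h : ∃ σ, act σ = f
    · exact ⟨h.choose, fun _ _ => h.choose_spec⟩
    · exact ⟨AlgEquiv.refl, fun σ hσ => absurd ⟨σ, hσ⟩ h⟩
  choose r hr using hrep
  have hmem : ∀ σ : K ≃ₐ[k] K, ∀ P : Place k K, W P ≠ 0 → IsFixedPt ((σ.trans (r (act σ)).symm : K ≃ₐ[k] K) : K →ₐ[k] K) P := by
    intro σ P hP
    rw [fixed_iff_pull hK]
    have h1 := congrFun (hr (act σ) σ rfl) ⟨P, hP⟩
    -- `P` is the pull-back of some `R`
    refine Subtype.ext (Valuation.ext fun z => ?_)
    show P.1 ((r (act σ)).symm (σ z)) = P.1 z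
    -- transport along the bijectivity of the action
    have hinj : Function.Injective (act σ) := fun A B hAB => by
      refine Subtype.ext (Subtype.ext (Valuation.ext fun w => ?_))
      have h2 : (pullK A.1 σ).1 (σ.symm w) = (pullK B.1 σ).1 (σ.symm w) := by
        rw [show pullK A.1 σ = pullK B.1 σ from congrArg Subtype.val hAB]
      change A.1.1 (σ (σ.symm w)) = B.1.1 (σ (σ.symm w)) at h2
      rwa [σ.apply_symm_apply] at h2
    obtain ⟨⟨R, hR⟩, hRP⟩ := (Finite.injective_iff_surjective.1 hinj) ⟨P, hP⟩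
    have e1 : pullK R σ = P := congrArg Subtype.val hRP
    have e2 : pullK R (r (act σ)) = P := by
      have := congrFun (hr (act σ) σ rfl) ⟨R, hR⟩
      exact (congrArg Subtype.val this).trans e1
    calc P.1 ((r (act σ)).symm (σ z)) = R.1 ((r (act σ)) ((r (act σ)).symm (σ z))) := by
          conv_lhs => rw [← e2]
          rfl
      _ = R.1 (σ z) := by rw [AlgEquiv.apply_symm_apply]
      _ = P.1 z := congrArg (fun Q : Place k K => Q.1 z) e1
  let enc : (K ≃ₐ[k] K) → (T → T) × {σ : K ≃ₐ[k] K // σ ∈ {σ : K ≃ₐ[k] K | ∀ P : Place k K, W P ≠ 0 → IsFixedPt (σ : K →ₐ[k] K) P}} :=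
    fun σ => (act σ, ⟨σ.trans (r (act σ)).symm, hmem σ⟩)
  refine Finite.of_injective enc fun σ τ h => ?_
  simp only [enc, Prod.mk.injEq, Subtype.mk.injEq] at h
  obtain ⟨h1, h2⟩ := h
  rw [h1] at h2
  refine AlgEquiv.ext fun z => ?_
  have h3 := congrArg (fun ρ : K ≃ₐ[k] K => r (act τ) (ρ z)) h2
  simpa using h3

end Groth.Agent.FFWr
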