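import Groth.Agent.FFWr.WDiv

/-! The Weierstrass divisor: invariance, positivity, fixed places. -/

set_option autoImplicit false
set_option linter.style.haveILetI false
set_option linter.unusedSectionVars false

open FunFld WithZero LaurentSeries
open Groth.Agent.FF

namespace Groth.Agent.FFWr

variable {k K : Type*} [Field k] [IsAlgClosed k] [Field K] [Algebra k K] (hK : IsFunctionField k K)
include hK

omit [IsAlgClosed k] hK in
lemma li_comp {ι : Type*} (τ : K →ₐ[k] K) {φ : ι → K} (hφ : LinearIndependent k φ) :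
    LinearIndependent k (τ ∘ φ) :=
  hφ.map' τ.toLinearMap (LinearMap.ker_eq_bot.2 τ.toRingHom.injective)

lemma wDiv_invariance {n : ℕ} {φ : Fin (n + 1) → K} (hφ : LinearIndependent k φ) (τ : K →ₐ[k] K)
    {s : K} {Hs : K →ₐ[k] PowerSeries K} (hHs : LocRes.IsHasseFamily s Hs)
    {t : K} {Ht : K →ₐ[k] PowerSeries K} (hHt : LocRes.IsHasseFamily t Ht)
    {J : Fin n → ℕ} (hJ : IsOrders K (hcol τ Hs φ) J)
    {A : Matrix (Fin (n + 1)) (Fin (n + 1)) k} (hA : A.det ≠ 0) {y : K} (hy : y ≠ 0)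
    {φ' : Fin (n + 1) → K} (hφ' : ∀ i, φ' i = y * ∑ j, A i j • φ j)
    {Φ : Place k K → (K →ₐ[k] LaurentSeries k)} (hΦ : ∀ P : Place k K, LocRes.IsExpansionAt P.1 (Φ P)) :
    wDiv τ Ht Φ t φ' J = wDiv τ Hs Φ s φ J := by
  classical
  let φ'' : Fin (n + 1) → K := fun i => ∑ j, A i j • φ j
  have hdef : ∀ i, φ'' i = ∑ j, A i j • φ j := fun i => rfl
  have e' : φ' = y • φ'' := funext fun i => hφ' i
  have hτy : τ y ≠ 0 := (map_ne_zero_iff τ τ.toRingHom.injective).2 hy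
  have hli'' : LinearIndependent k φ'' := li_of_linear hφ hA hdef
  have hJ'' : IsOrders K (hcol τ Hs φ'') J := (isOrders_linear τ Hs φ φ'' hA hdef J).2 hJ
  have hJy : IsOrders K (hcol τ Hs (y • φ'')) J := ((tri_smul hHs τ φ'' hy).isOrders_iff J).2 hJ''
  have hd := hasseD_one_ne_zero hK hHs hHt
  have hdet0 := det_ne_zero_of_isOrders τ Hs hφ hJ
  have hdetA : algebraMap k K A.det ≠ 0 := (map_ne_zero_iff _ (algebraMap k K).injective).2 hA
  have hdet : (wrMat τ Ht φ' J).det =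
      LocRes.hasseD Ht 1 s ^ (∑ l, J l) *
        (τ y * y ^ n * (algebraMap k K A.det * (wrMat τ Hs φ J).det)) := by
    rw [e', wrMat_eq,
      det_selMat_tri (tri_var hHs hHt (isSepVar_of_hasse hK hHs).separable hd τ (y • φ''))
        (hcol_zero_ne τ Hs ⟨0, (li_smul hli'' hy).ne_zero 0⟩) hJy, prod_sel_pow J (LocRes.hasseD Ht 1 s),
      det_selMat_tri (tri_smul hHs τ φ'' hy) (hcol_zero_ne τ Hs ⟨0, hli''.ne_zero 0⟩) hJ'',
      prod_sel_ite J (τ y) y, ← wrMat_eq, det_wrMat_linear τ Hs φ φ'' A hdef]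
  ext P
  rw [wDiv_apply hK hHt hΦ, wDiv_apply hK hHs hΦ, hdet,
    ord_mul P (pow_ne_zero _ hd) (mul_ne_zero (mul_ne_zero hτy (pow_ne_zero _ hy)) (mul_ne_zero hdetA hdet0)),
    ord_mul P (mul_ne_zero hτy (pow_ne_zero _ hy)) (mul_ne_zero hdetA hdet0),
    ord_mul P hτy (pow_ne_zero _ hy), ord_mul P hdetA hdet0, ord_pow, ord_pow, ord_const,
    ordDiff_change hK hHs hHt (hΦ P)]
  have h1 : minOrd (τ ∘ φ') P = P.ord (τ y) + minOrd (τ ∘ φ) P := by
    rw [show τ ∘ φ' = τ y • (τ ∘ φ'') from funext fun i => by simp [e'],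
      minOrd_smul (li_comp τ hli'').ne_zero hτy]
    congr 1
    exact minOrd_linear (li_comp τ hφ).ne_zero (li_comp τ hli'').ne_zero hA
      (fun i => by simp [hdef, map_sum, map_smul]) P
  have h2 : minOrd φ' P = P.ord y + minOrd φ P := by
    rw [e', minOrd_smul hli''.ne_zero hy, minOrd_linear hφ.ne_zero hli''.ne_zero hA hdef]
  rw [h1, h2]
  push_cast
  ring

/-- rescaling to a tuple normalised at `P`, in a local parameter -/
lemma exists_normalized {n : ℕ} {φ : Fin (n + 1) → K} (hφ : LinearIndependent k φ) (P : Place k K) :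
    ∃ y : K, y ≠ 0 ∧ (∀ i, P.1 ((y • φ) i) ≤ 1) ∧ (1 : K) ∈ Submodule.span k (Set.range (y • φ)) := by
  obtain ⟨i, hi, hmax⟩ := exists_normalizing hK P (φ := φ) ⟨0, hφ.ne_zero 0⟩
  refine ⟨(φ i)⁻¹, inv_ne_zero hi, fun r => ?_, Submodule.subset_span ⟨i, by simp [hi]⟩⟩
  simp only [Pi.smul_apply, smul_eq_mul, map_mul, map_inv₀]
  rw [inv_mul_le_one₀ (zero_lt_iff.2 ((P.1.ne_zero_iff).2 hi))]
  exact hmax r

lemma wDiv_normalize {n : ℕ} {φ : Fin (n + 1) → K} (hφ : LinearIndependent k φ) (τ : K →ₐ[k] K)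
    {s : K} {H : K →ₐ[k] PowerSeries K} (hH : LocRes.IsHasseFamily s H)
    {t : K} {Ht : K →ₐ[k] PowerSeries K} (hHt : LocRes.IsHasseFamily t Ht)
    {J : Fin n → ℕ} (hJ : IsOrders K (hcol τ H φ) J) {y : K} (hy : y ≠ 0)
    {Φ : Place k K → (K →ₐ[k] LaurentSeries k)} (hΦ : ∀ P : Place k K, LocRes.IsExpansionAt P.1 (Φ P)) :
    wDiv τ Ht Φ t (y • φ) J = wDiv τ H Φ s φ J ∧ IsOrders K (hcol τ Ht (y • φ)) J := by
  refine ⟨wDiv_invariance hK hφ τ hH hHt hJ (A := 1) (by simp) hy (fun i => ?_) hΦ, ?_⟩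
  · simp [Matrix.one_apply]
  · exact ((tri_var hH hHt (isSepVar_of_hasse hK hH).separable (hasseD_one_ne_zero hK hH hHt) τ
      (y • φ)).isOrders_iff J).2 (((tri_smul hH τ φ hy).isOrders_iff J).2 hJ)

lemma wDiv_local {n : ℕ} {φ : Fin (n + 1) → K} (hφ : LinearIndependent k φ) {τ : K →ₐ[k] K}
    {P : Place k K} {t : K} (ht : P.1 t = exp (-1 : ℤ)) {Ht : K →ₐ[k] PowerSeries K}
    (hHt : LocRes.IsHasseFamily t Ht) (hnorm : ∀ i, P.1 (φ i) ≤ 1)
    (heff : (1 : K) ∈ Submodule.span k (Set.range φ)) (J : Fin n → ℕ)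
    {Φ : Place k K → (K →ₐ[k] LaurentSeries k)} (hΦ : ∀ P : Place k K, LocRes.IsExpansionAt P.1 (Φ P)) :
    wDiv τ Ht Φ t φ J P = P.ord (wrMat τ Ht φ J).det - minOrd (τ ∘ φ) P := by
  rw [wDiv_apply hK hHt hΦ, minOrd_eq_zero_of_normalized hφ.ne_zero hnorm heff,
    ordDiff_uniformizer hK ht (hΦ P)]
  ring

lemma minOrd_comp_of_fixed {n : ℕ} {φ : Fin (n + 1) → K} (hφ : LinearIndependent k φ) {τ : K →ₐ[k] K}
    {P : Place k K} (hP : IsFixedPt τ P) (hnorm : ∀ i, P.1 (φ i) ≤ 1)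
    (heff : (1 : K) ∈ Submodule.span k (Set.range φ)) : minOrd (τ ∘ φ) P = 0 := by
  refine minOrd_eq_zero_of_normalized (li_comp τ hφ).ne_zero (fun i => fixed_integral hK hP (hnorm i)) ?_
  have h : τ.toLinearMap 1 ∈ (Submodule.span k (Set.range φ)).map τ.toLinearMap := Submodule.mem_map_of_mem heff
  rw [Submodule.map_span, ← Set.range_comp] at h
  simpa using h

lemma minOrd_le_ord_det {n : ℕ} {φ : Fin (n + 1) → K} (hφ : LinearIndependent k φ) {τ : K →ₐ[k] K}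
    {P : Place k K} {t : K} (ht : P.1 t = exp (-1 : ℤ)) {Ht : K →ₐ[k] PowerSeries K}
    (hHt : LocRes.IsHasseFamily t Ht) (hnorm : ∀ i, P.1 (φ i) ≤ 1) {I : Fin n → ℕ}
    (hdet : (wrMat τ Ht φ I).det ≠ 0) : minOrd (τ ∘ φ) P ≤ P.ord (wrMat τ Ht φ I).det := by
  classical
  obtain ⟨e, he⟩ := exists_isCoord hK P ht
  let d : Fin (n + 1) → K := Fin.cases (t ^ (-(minOrd (τ ∘ φ) P))) (fun _ => 1)
  let N : Matrix (Fin (n + 1)) (Fin (n + 1)) K := Matrix.of fun r c => d c * wrMat τ Ht φ I r c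
  have hN : ∀ r c, P.1 (N r c) ≤ 1 := fun r c => by
    cases c using Fin.cases with
    | zero =>
      simp only [N, d, Matrix.of_apply, Fin.cases_zero]
      rw [mul_comm, he.val_mul_zpow, neg_neg]
      show P.1 (τ (φ r)) * _ ≤ 1
      refine (mul_le_mul' ((val_le_exp_iff P ((li_comp τ hφ).ne_zero r) (-(minOrd (τ ∘ φ) P))).2
        (by rw [neg_neg]; exact minOrd_le (τ ∘ φ) P r)) le_rfl).trans ?_
      rw [← exp_add, neg_add_cancel, exp_zero]
    | succ l =>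
      simp only [N, d, Matrix.of_apply, Fin.cases_succ, one_mul]
      simp only [wrMat, Matrix.of_apply, Fin.cases_succ]
      exact he.val_hasseD_le_one hK hHt (hnorm r) (I l)
  have h1 := (he.coeff_zero_det N hN).1
  have h2 : N.det = t ^ (-(minOrd (τ ∘ φ) P)) * (wrMat τ Ht φ I).det := by
    simp only [N]
    rw [Matrix.det_mul_row]
    congr 1
    simp [d, Fin.prod_univ_succ]
  rw [h2, mul_comm, he.val_mul_zpow, neg_neg, val_eq_exp_ord P hdet, ← exp_add, ← exp_zero, exp_le_exp] at h1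
  omega

lemma wDiv_nonneg {n : ℕ} {φ : Fin (n + 1) → K} (hφ : LinearIndependent k φ) (τ : K →ₐ[k] K)
    {s : K} {H : K →ₐ[k] PowerSeries K} (hH : LocRes.IsHasseFamily s H)
    {J : Fin n → ℕ} (hJ : IsOrders K (hcol τ H φ) J)
    {Φ : Place k K → (K →ₐ[k] LaurentSeries k)} (hΦ : ∀ P : Place k K, LocRes.IsExpansionAt P.1 (Φ P)) :
    0 ≤ wDiv τ H Φ s φ J := by
  intro P
  obtain ⟨t, ht⟩ := exists_uniformizer P
  obtain ⟨Ht, hHt⟩ := exists_hasse (isSepVar_uniformizer hK ht)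
  obtain ⟨y, hy, hnorm, heff⟩ := exists_normalized hK hφ P
  obtain ⟨e1, hJ'⟩ := wDiv_normalize hK hφ τ hH hHt hJ hy hΦ
  rw [← e1, wDiv_local hK (li_smul hφ hy) ht hHt hnorm heff J hΦ, Finsupp.zero_apply]
  have := minOrd_le_ord_det hK (li_smul hφ hy) ht hHt hnorm (det_ne_zero_of_isOrders τ Ht (li_smul hφ hy) hJ')
  omega

lemma isFixedPt_id (P : Place k K) : IsFixedPt (AlgHom.id k K) P := fun _ hz => hz

/-- generic orders are bounded by the orders at any place -/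
lemma orders_id_le {P : Place k K} {t : K} {e : K →ₐ[k] LaurentSeries k} (he : IsCoord P t e)
    {Ht : K →ₐ[k] PowerSeries K} (hHt : LocRes.IsHasseFamily t Ht) {n : ℕ} {φ : Fin (n + 1) → K}
    (hφ : LinearIndependent k φ) (hnorm : ∀ i, P.1 (φ i) ≤ 1) (heff : (1 : K) ∈ Submodule.span k (Set.range φ))
    {J : Fin n → ℕ} (hJ : IsOrders K (hcol (AlgHom.id k K) Ht φ) J)
    {J' : Fin n → ℕ} (hJ' : IsOrders k (ccol e φ) J') : ∀ l, J l ≤ J' l := by
  obtain ⟨I, hI, hI0, hdet, hle⟩ := exists_binom_minor_pos (k := k) J' hJ'.1 (he.pos_of_isOrders hJ')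
  obtain ⟨-, h2⟩ := he.det_wrMat_fixed hK hHt (isFixedPt_id hK P) hnorm heff hJ' I
  have hne : (wrMat (AlgHom.id k K) Ht φ I).det ≠ 0 := by
    intro h0
    have h3 := (h2 (Or.inl hI0)).2 hdet
    rw [h0, map_zero] at h3
    exact exp_ne_zero h3.symm
  intro l
  exact (orders_le_of_det _ Ht hφ hJ hI hne l).trans (hle l)

omit [IsAlgClosed k] hK in
lemma pos_of_isOrders_id {n : ℕ} {x : K} {H : K →ₐ[k] PowerSeries K} (hH : LocRes.IsHasseFamily x H)
    {φ : Fin (n + 1) → K} {J : Fin n → ℕ} (hJ : IsOrders K (hcol (AlgHom.id k K) H φ) J) (l : Fin n) :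
    0 < J l := by
  by_contra h
  have h1 := (hJ.2 (J l)).1 ⟨l, rfl⟩
  rw [show J l = 0 by omega] at h1
  refine h1 ?_
  show hcol (AlgHom.id k K) H φ 1 ∈ W K (hcol (AlgHom.id k K) H φ) 1
  rw [hcol_one hH, show φ = hcol (AlgHom.id k K) H φ 0 from rfl]
  exact mem_W Nat.zero_lt_one

lemma sum_sub_le_wDiv {P : Place k K} {τ : K →ₐ[k] K} (hP : IsFixedPt τ P) {t : K}
    {e : K →ₐ[k] LaurentSeries k} (he : IsCoord P t e) {Ht : K →ₐ[k] PowerSeries K}
    (hHt : LocRes.IsHasseFamily t Ht) {n : ℕ} {φ : Fin (n + 1) → K}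
    (hφ : LinearIndependent k φ) (hnorm : ∀ i, P.1 (φ i) ≤ 1) (heff : (1 : K) ∈ Submodule.span k (Set.range φ))
    {J : Fin n → ℕ} (hJ : IsOrders K (hcol τ Ht φ) J) {J' : Fin n → ℕ} (hJ' : IsOrders k (ccol e φ) J')
    {Φ : Place k K → (K →ₐ[k] LaurentSeries k)} (hΦ : ∀ P : Place k K, LocRes.IsExpansionAt P.1 (Φ P)) :
    (∑ l, ((J' l : ℤ) - J l)) ≤ wDiv τ Ht Φ t φ J P ∧
    ((τ = AlgHom.id k K ∨ IsStrongFixedPt τ P) →
      (wDiv τ Ht Φ t φ J P = ∑ l, ((J' l : ℤ) - J l) ↔ (binomMat k J' J).det ≠ 0)) := by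
  rw [wDiv_local hK hφ he.t_val hHt hnorm heff J hΦ, minOrd_comp_of_fixed hK hφ hP hnorm heff, sub_zero]
  obtain ⟨h1, h2⟩ := he.det_wrMat_fixed hK hHt hP hnorm heff hJ' J
  have hd := det_ne_zero_of_isOrders τ Ht hφ hJ
  rw [val_le_exp_iff P hd, neg_neg] at h1
  refine ⟨h1, fun hc => ?_⟩
  rw [← h2 (hc.imp (fun h l => pos_of_isOrders_id hHt (h ▸ hJ) l) id), val_eq_exp_ord P hd, exp_inj, neg_inj]

end Groth.Agent.FFWr
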